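import Cfsg.Agent.Lib.Classical.PauliForm.Real.Centralizer

/-!
# The group normalises the system

If the centraliser of each turn normalises the system, so does the whole group: an element carrying a turn to a
normalising map normalises, and by the pair lemma every conjugate of a member is normalising.
-/

set_option autoImplicit false
set_option linter.unusedSectionVars false

namespace CfsgLib.Classical.PauliForm.Real

open Module CfsgLib.Classical.PauliMax CfsgLib.Classical.PauliForm

variable {F : Type*} [Field F] {V : Type*} [AddCommGroup V] [Module F V] [FiniteDimensional F V]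

local notation "E" => Module.End F V

variable {R : Set (Module.End F V)}

theorem one_sub_eq {t : E} (htt : t * t = -1) : 1 - t = -t * (1 + t) := by
  rw [mul_add, mul_one, neg_mul, htt, neg_neg]
  abel

theorem conj_one_add_sum (t f : E) :
    (1 + t) * f * (1 - t) + (1 - t) * f * (1 + t) = (2 : F) • (f + t * f * -t) := by
  simp only [two_smul, mul_add, add_mul, mul_sub, sub_mul, mul_one, one_mul, mul_neg]
  abel

section system

variable (h : RPauli R) [Nontrivial V]
include h

theorem not_scalar_of_sq {x : E} (hx : x ∈ R) (hxx : x * x = -1) : ¬ IsScalarMap x := h.not_scalar_neg hx hxx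

theorem smul_comm_members {x y : E} (hx : x ∈ R) (hy : y ∈ R) : ∃ c : F, y * x = c • (x * y) := by
  rcases h.cases hy hx with e | e
  · exact ⟨1, by rw [e.eq, one_smul]⟩
  · exact ⟨-1, by rw [e, neg_smul, one_smul]⟩

/-- The two eigenspaces of an involution of the system have the same dimension. -/
theorem two_mul_finrank_plus {a : E} (ha : a ∈ R) (haa : a * a = 1) (hns : ¬ IsScalarMap a) :
    2 * finrank F (plusSpace a) = finrank F V := by
  obtain ⟨b, hb, hab⟩ := h.exists_anti ha hns
  have hbinj : Function.Injective b := by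
    obtain ⟨u, hu⟩ := h.isUnit hb
    intro x y e
    have := congrArg (↑u⁻¹ : E) e
    rwa [← Module.End.mul_apply, ← Module.End.mul_apply, ← hu, Units.inv_mul] at this
  have hswap : ∀ c : E, Anti b c → b * proj c = proj (-c) * b := by
    intro c hc
    rw [proj, proj, mul_smul_comm, smul_mul_assoc, mul_add, add_mul, hc, mul_one, one_mul, neg_mul]
  have hle : ∀ c : E, Anti b c → finrank F (plusSpace c) ≤ finrank F (plusSpace (-c)) := by
    intro c hc
    refine LinearMap.finrank_le_finrank_of_injective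
      (f := (b ∘ₗ (plusSpace c).subtype).codRestrict (plusSpace (-c)) ?_) ?_
    · rintro ⟨w, v, rfl⟩
      exact ⟨b v, by rw [← Module.End.mul_apply, ← hswap c hc]; rfl⟩
    · intro x y e
      exact Subtype.ext (hbinj (congrArg Subtype.val e))
  have h1 := hle a hab
  have h2 := hle (-a) hab.neg_right
  rw [neg_neg] at h2
  have heq : plusSpace (-a) = LinearMap.ker (proj a) := by
    refine le_antisymm ?_ fun v hv => ?_
    · rintro _ ⟨v, rfl⟩
      exact LinearMap.congr_fun (proj_neg_mul haa h.two_ne) v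
    · refine ⟨v, ?_⟩
      have := LinearMap.congr_fun (proj_add_neg haa h.two_ne) v
      simpa [LinearMap.mem_ker.1 hv] using this
  have h3 := LinearMap.finrank_range_add_finrank_ker (proj a)
  rw [← heq] at h3
  change finrank F (plusSpace a) + finrank F (plusSpace (-a)) = finrank F V at h3
  omega

theorem nor_of_inv [Finite F] {g g' : E} (h1 : g * g' = 1) (h2 : g' * g = 1) (hN : Nor R g) : Nor R g' :=
  nor_of_conj h1 (conj_mem_inv h1 h2 hN)

theorem pm_cancel_right {f x y : E} (hy : y ∈ R) (hxy : PM f (x * y)) (hfy : PM f y) : PM f x := by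
  obtain ⟨s, hs, e⟩ := h.sq_sign hy
  have : x = s • (x * y * y) := by
    rw [mul_assoc, e, mul_smul_comm, mul_one, smul_smul, show s * s = 1 by rcases hs with rfl | rfl <;> ring,
      one_smul]
  rw [this]
  exact (hxy.mul_right hfy).smul_right s

theorem commute_cancel_right {f x y : E} (hy : y ∈ R) (hxy : Commute f (x * y)) (hfy : Commute f y) :
    Commute f x := by
  obtain ⟨s, hs, e⟩ := h.sq_sign hy
  have : x = s • (x * y * y) := by
    rw [mul_assoc, e, mul_smul_comm, mul_one, smul_smul, show s * s = 1 by rcases hs with rfl | rfl <;> ring,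
      one_smul]
  rw [this]
  exact (hxy.mul_right hfy).smul_right s

theorem line_of_pm_all {f f' : E} (h1 : f * f' = 1) (hf : ∀ r ∈ R, PM f r) : Line R f := by
  obtain ⟨r, hr, c, -, e⟩ := h.exists_line (fun e => one_ne_zero (α := E) (by rw [← h1, e, zero_mul])) hf
  exact ⟨r, hr, c, e⟩

theorem trace_mul_eq_zero {v r : E} (hv : v ∈ R) (hr : r ∈ R) (hne : ¬ (v = r ∨ v = -r)) :
    LinearMap.trace F V (v * r) = 0 := by
  refine h.trace_eq_zero (h.mul_mem _ hv _ hr) fun hs => hne ?_
  rcases h.eq_or_neg hv hr hs with e | e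
  · exact .inl e.symm
  · exact .inr (by rw [e, neg_neg])

/-- A product of a member with its conjugate commutes with every member fixed up to a sign. -/
theorem commute_moved {g g' y r : E} (h2 : g' * g = 1) (hy : y ∈ R) (hr : r ∈ R)
    (hp : g * r * g' = r ∨ g * r * g' = -r) : Commute (y * (g * y * g')) r := by
  rcases h.cases hy hr with c | c
  · refine c.mul_left ?_
    have := commute_conj' (g := g) c h2
    rcases hp with e | e <;> rw [e] at this
    · exact this
    · exact Commute.neg_right_iff.1 this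
  · refine (Anti.mul_anti c.symm ?_).symm
    have := (anti_conj (g := g) c h2).symm
    rcases hp with e | e <;> rw [e] at this
    · exact this
    · have := this.symm.neg_right.symm
      rwa [neg_neg] at this

theorem conj_of_pm {g g' r : E} (h1 : g * g' = 1) (hp : PM g r) : g * r * g' = r ∨ g * r * g' = -r := by
  rcases hp with e | e
  · exact .inl (by rw [e, mul_assoc, h1, mul_one])
  · exact .inr (by rw [e, neg_mul, mul_assoc, h1, mul_one])

/-- The members moved by neither of two commuting maps, nor their product, cover the system. -/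
theorem pm_two_cover {f g : E} (hc : ∀ r ∈ R, PM f r ∨ PM g r) : (∀ r ∈ R, PM f r) ∨ ∀ r ∈ R, PM g r := by
  by_contra hcon
  push Not at hcon
  obtain ⟨⟨u, hu, nu⟩, v, hv, nv⟩ := hcon
  rcases hc _ (h.mul_mem _ hu _ hv) with e | e
  · exact nu (pm_cancel_right h hv e ((hc v hv).resolve_right nv))
  · refine nv (pm_cancel_right h hu ?_ ((hc u hu).resolve_left nu))
    obtain ⟨c, hc'⟩ := smul_comm_members h hu hv
    rw [hc']
    exact e.smul_right c

/-- Of two commuting turns whose gate normalises, one or their product is a multiple of a member. -/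
theorem line_of_nor_pair (hn : (finrank F V : F) ≠ 0) {t t₂ : E} (htt : t * t = -1) (htt₂ : t₂ * t₂ = -1)
    (hc : Commute t t₂) (hNt : Nor R t) (hNt₂ : Nor R t₂) (hP : Nor R ((1 + t) * (1 + t₂))) :
    Line R t ∨ Line R t₂ ∨ Line R (t * t₂) := by
  have h2 := h.two_ne
  have inv1 : ∀ {u : E}, u * u = -1 → u * -u = 1 ∧ -u * u = 1 := fun {u} e =>
    ⟨by rw [mul_neg, e, neg_neg], by rw [neg_mul, e, neg_neg]⟩
  obtain ⟨t1, t1'⟩ := inv1 htt
  obtain ⟨t21, t21'⟩ := inv1 htt₂
  have hNn : ∀ {u : E}, Nor R u → Nor R (-u) := fun {u} hu => by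
    have := hu.smul (-1)
    rwa [neg_one_smul] at this
  have hcomm1 : Commute (1 + t) t₂ := (Commute.one_left t₂).add_left hc
  -- the cover
  have hcover : ∀ r ∈ R, PM t r ∨ PM t₂ r ∨ PM (t * t₂) r := by
    intro r hr
    by_contra hcon
    push Not at hcon
    obtain ⟨nt, nt₂, ns⟩ := hcon
    obtain ⟨a, ha, hadef⟩ : ∃ a ∈ R, a = t * r * -t := ⟨_, nor_conj_mem t1 hNt hr, rfl⟩
    obtain ⟨b, hb, hbdef⟩ : ∃ b ∈ R, b = t₂ * r * -t₂ := ⟨_, nor_conj_mem t21 hNt₂ hr, rfl⟩
    obtain ⟨c, hc', hcdef⟩ : ∃ c ∈ R, c = t * b * -t := ⟨_, nor_conj_mem t1 hNt hb, rfl⟩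
    have hca : ¬ (a = r ∨ a = -r) := fun e => nt (pm_of_conj t1' (hadef ▸ e))
    have hcb : ¬ (b = r ∨ b = -r) := fun e => nt₂ (pm_of_conj t21' (hbdef ▸ e))
    have hcc : ¬ (c = r ∨ c = -r) := fun e => ns (pm_of_conj (g' := -t₂ * -t) (comp_inv t21' t1') (by
      rw [← conj_comp, ← hbdef, ← hcdef]; exact e))
    -- the four conjugates
    have hW : ∀ P Q : E, Nor R P → P * Q = (4 : F) • 1 → P * P = (4 : F) • (t * t₂) ∨ P * P = -((4 : F) • (t * t₂)) →
        LinearMap.trace F V (P * r * Q * r) = 0 := by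
      intro P Q hN hPQ hPP
      obtain ⟨w, hw, e⟩ := hN r hr
      have hwe : P * r * Q = (4 : F) • w := by rw [e, mul_assoc, hPQ, mul_smul_comm, mul_one]
      rw [hwe, smul_mul_assoc, map_smul]
      by_cases hwr : w = r ∨ w = -r
      · exfalso
        have hpm : PM P r := by
          rcases hwr with rfl | rfl
          · exact .inl e
          · exact .inr (by rw [e, neg_mul])
        have hpp := hpm.mul_left hpm
        have h4 : (4 : F) ≠ 0 := by
          rw [show (4 : F) = 2 * 2 by norm_num]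
          exact mul_ne_zero h2 h2
        refine ns ?_
        rcases hPP with e' | e' <;> rw [e'] at hpp
        · have := hpp.smul_left (4 : F)⁻¹
          rwa [inv_smul_smul₀ h4] at this
        · have := hpp.smul_left (-(4 : F)⁻¹)
          rwa [neg_smul, smul_neg, neg_neg, inv_smul_smul₀ h4] at this
      · rw [trace_mul_eq_zero h hw hr hwr, smul_zero]
    have hPQ : ∀ u v : E, u * u = -1 → v * v = -1 → (1 + u) * (1 + v) * ((1 - v) * (1 - u)) = (4 : F) • 1 := by
      intro u v hu hv
      rw [show (1 + u) * (1 + v) * ((1 - v) * (1 - u)) = (1 + u) * ((1 + v) * (1 - v)) * (1 - u) by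
          simp only [mul_assoc], one_add_mul_one_sub hv, mul_smul_comm, mul_one, smul_mul_assoc,
        one_add_mul_one_sub hu, smul_smul]
      norm_num
    have hPP : ∀ u v : E, u * u = -1 → v * v = -1 → Commute u v →
        (1 + u) * (1 + v) * ((1 + u) * (1 + v)) = (4 : F) • (u * v) := by
      intro u v hu hv huv
      have sq2 : ∀ w : E, w * w = -1 → (1 + w) * (1 + w) = (2 : F) • w := fun w hw => by
        simp only [mul_add, add_mul, mul_one, one_mul, hw, two_smul]; abel
      rw [((Commute.one_right (1 + v)).add_right ((Commute.one_left u).add_left huv.symm)).mul_mul_mul_comm,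
        sq2 u hu, sq2 v hv, smul_mul_smul_comm]
      norm_num
    have e1 := hW _ _ hP (hPQ t t₂ htt htt₂) (.inl (hPP t t₂ htt htt₂ hc))
    have e2 := hW ((1 + t) * (1 + -t₂)) ((1 - -t₂) * (1 - t))
      (by
        rw [← sub_eq_add_neg, one_sub_eq htt₂, ← mul_assoc, hcomm1.neg_right.eq, mul_assoc]
        exact (hNn hNt₂).mul hP)
      (hPQ t (-t₂) htt (by rwa [neg_mul_neg]))
      (.inr (by rw [hPP t (-t₂) htt (by rwa [neg_mul_neg]) hc.neg_right, mul_neg, smul_neg]))
    have e3 := hW ((1 + -t) * (1 + t₂)) ((1 - t₂) * (1 - -t))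
      (by
        rw [← sub_eq_add_neg, one_sub_eq htt, mul_assoc]
        exact (hNn hNt).mul hP)
      (hPQ (-t) t₂ (by rwa [neg_mul_neg]) htt₂)
      (.inr (by rw [hPP (-t) t₂ (by rwa [neg_mul_neg]) htt₂ hc.neg_left, neg_mul, smul_neg]))
    have e4 := hW ((1 + -t) * (1 + -t₂)) ((1 - -t₂) * (1 - -t))
      (by
        rw [← sub_eq_add_neg, ← sub_eq_add_neg, one_sub_eq htt₂, one_sub_eq htt,
          show -t * (1 + t) * (-t₂ * (1 + t₂)) = -t * ((1 + t) * -t₂) * (1 + t₂) by simp only [mul_assoc],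
          hcomm1.neg_right.eq,
          show -t * (-t₂ * (1 + t)) * (1 + t₂) = -t * -t₂ * ((1 + t) * (1 + t₂)) by simp only [mul_assoc]]
        exact ((hNn hNt).mul (hNn hNt₂)).mul hP)
      (hPQ (-t) (-t₂) (by rwa [neg_mul_neg]) (by rwa [neg_mul_neg]))
      (.inl (by rw [hPP (-t) (-t₂) (by rwa [neg_mul_neg]) (by rwa [neg_mul_neg]) hc.neg_left.neg_right,
        neg_mul_neg]))
    have hsum : (1 + t) * (1 + t₂) * r * ((1 - t₂) * (1 - t)) + (1 + t) * (1 + -t₂) * r * ((1 - -t₂) * (1 - t)) +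
        ((1 + -t) * (1 + t₂) * r * ((1 - t₂) * (1 - -t)) + (1 + -t) * (1 + -t₂) * r * ((1 - -t₂) * (1 - -t))) =
        (4 : F) • (r + b + (a + c)) := by
      rw [show 1 + -t₂ = 1 - t₂ from (sub_eq_add_neg _ _).symm, show 1 + -t = 1 - t from (sub_eq_add_neg _ _).symm,
        sub_neg_eq_add, sub_neg_eq_add]
      have inner := conj_one_add_sum t₂ r
      rw [← hbdef] at inner
      calc (1 + t) * (1 + t₂) * r * ((1 - t₂) * (1 - t)) + (1 + t) * (1 - t₂) * r * ((1 + t₂) * (1 - t)) +
            ((1 - t) * (1 + t₂) * r * ((1 - t₂) * (1 + t)) + (1 - t) * (1 - t₂) * r * ((1 + t₂) * (1 + t)))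
          = (1 + t) * ((1 + t₂) * r * (1 - t₂) + (1 - t₂) * r * (1 + t₂)) * (1 - t) +
            (1 - t) * ((1 + t₂) * r * (1 - t₂) + (1 - t₂) * r * (1 + t₂)) * (1 + t) := by
            have gen : ∀ A B C D : E, A * B * r * (C * D) = A * (B * r * C) * D := fun A B C D => by
              simp only [mul_assoc]
            rw [gen (1 + t), gen (1 + t), gen (1 - t), gen (1 - t)]
            generalize (1 + t₂) * r * (1 - t₂) = U
            generalize (1 - t₂) * r * (1 + t₂) = U'
            rw [mul_add (1 + t) U U', mul_add (1 - t) U U', add_mul _ _ (1 - t), add_mul _ _ (1 + t)]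
        _ = (2 : F) • ((1 + t) * (r + b) * (1 - t) + (1 - t) * (r + b) * (1 + t)) := by
            rw [inner, mul_smul_comm, mul_smul_comm, smul_mul_assoc, smul_mul_assoc, ← smul_add]
        _ = (4 : F) • (r + b + (a + c)) := by
            rw [conj_one_add_sum, smul_smul, mul_add t, add_mul _ _ (-t), ← hadef, ← hcdef]
            norm_num
    have htr := congrArg (fun f => LinearMap.trace F V (f * r)) hsum
    have trsum : ∀ A B C D : E, LinearMap.trace F V ((A + B + (C + D)) * r) = LinearMap.trace F V (A * r) +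
        LinearMap.trace F V (B * r) + (LinearMap.trace F V (C * r) + LinearMap.trace F V (D * r)) :=
      fun A B C D => by simp only [add_mul, map_add]
    simp only [smul_mul_assoc, map_smul, smul_eq_mul] at htr
    rw [trsum, trsum, e1, e2, e3, e4, trace_mul_eq_zero h ha hr hca, trace_mul_eq_zero h hb hr hcb,
      trace_mul_eq_zero h hc' hr hcc] at htr
    obtain ⟨s, hs, hrr⟩ := h.sq_sign hr
    rw [hrr, map_smul, LinearMap.trace_one, smul_eq_mul] at htr
    have : (4 : F) * (s * (finrank F V : F)) = 0 := by simpa using htr.symm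
    rcases mul_eq_zero.1 this with e | e
    · rw [show (4 : F) = 2 * 2 by norm_num] at e
      exact mul_ne_zero h2 h2 e
    · rcases hs with rfl | rfl <;> simp at e <;> exact hn e
  -- one of the three fixes everything up to a sign
  by_contra hcon
  push Not at hcon
  obtain ⟨nl, nl₂, nls⟩ := hcon
  have nall : ¬ ∀ r ∈ R, PM t r := fun e => nl (line_of_pm_all h t1 e)
  have nall₂ : ¬ ∀ r ∈ R, PM t₂ r := fun e => nl₂ (line_of_pm_all h t21 e)
  have nalls : ¬ ∀ r ∈ R, PM (t * t₂) r := fun e => nls (line_of_pm_all h (comp_inv t1 t21) e)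
  have two1 : ∀ {r : E}, PM t r → PM (t * t₂) r → PM t₂ r := fun {r} e e' => by
    have := ((e.smul_left (-1)).mul_left e')
    rwa [neg_one_smul, ← mul_assoc, t1', one_mul] at this
  have two2 : ∀ {r : E}, PM t₂ r → PM (t * t₂) r → PM t r := fun {r} e e' => by
    have := (e'.mul_left (e.smul_left (-1)))
    rwa [neg_one_smul, mul_assoc, t21, mul_one] at this
  obtain ⟨x₁, hx₁, p1, np1⟩ : ∃ x ∈ R, PM t x ∧ ¬ PM t₂ x := by
    by_contra hcon
    push Not at hcon
    rcases pm_two_cover h (f := t₂) (g := t * t₂) (fun r hr => by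
      rcases hcover r hr with e | e | e
      exacts [.inl (hcon r hr e), .inl e, .inr e]) with e | e
    exacts [nall₂ e, nalls e]
  obtain ⟨x₂, hx₂, p2, np2⟩ : ∃ x ∈ R, PM t₂ x ∧ ¬ PM t x := by
    by_contra hcon
    push Not at hcon
    rcases pm_two_cover h (f := t) (g := t * t₂) (fun r hr => by
      rcases hcover r hr with e | e | e
      exacts [.inl e, .inl (hcon r hr e), .inr e]) with e | e
    exacts [nall e, nalls e]
  obtain ⟨b, hb, hbdef⟩ : ∃ b ∈ R, b = t₂ * x₁ * -t₂ := ⟨_, nor_conj_mem t21 hNt₂ hx₁, rfl⟩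
  obtain ⟨a, ha, hadef⟩ : ∃ a ∈ R, a = t * x₂ * -t := ⟨_, nor_conj_mem t1 hNt hx₂, rfl⟩
  have hv : ∃ k : F, x₁ * b = k • (x₂ * a) := by
    have hs3 : PM (t * t₂) (x₁ * x₂) := by
      rcases hcover _ (h.mul_mem _ hx₁ _ hx₂) with e | e | e
      · refine absurd ?_ np2
        obtain ⟨k, hk⟩ := smul_comm_members h hx₁ hx₂
        refine pm_cancel_right h hx₁ ?_ p1
        rw [hk]
        exact e.smul_right k
      · exact absurd (pm_cancel_right h hx₂ e p2) np1
      · exact e
    have hconj := conj_of_pm h (comp_inv t1 t21) hs3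
    rw [← conj_mul (comp_inv t21' t1'), ← conj_comp (g := t) (k := t₂) (f := x₁) (k' := -t₂) (g' := -t),
      ← conj_comp (g := t) (k := t₂) (f := x₂) (k' := -t₂) (g' := -t), ← hbdef] at hconj
    obtain ⟨σ, hσ⟩ : ∃ σ : F, t * b * -t = σ • b := by
      have := PM.conj (g := t₂) (g' := -t₂) p1 t21'
      rw [← hbdef, hc.symm.eq, mul_assoc, t21, mul_one] at this
      rcases conj_of_pm h t1 this with e | e
      · exact ⟨1, by rw [e, one_smul]⟩
      · exact ⟨-1, by rw [e, neg_smul, one_smul]⟩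
    obtain ⟨ρ, hρ⟩ : ∃ ρ : F, t₂ * x₂ * -t₂ = ρ • x₂ := by
      rcases conj_of_pm h t21 p2 with e | e
      · exact ⟨1, by rw [e, one_smul]⟩
      · exact ⟨-1, by rw [e, neg_smul, one_smul]⟩
    rw [hσ, hρ, mul_smul_comm ρ t x₂, smul_mul_assoc ρ (t * x₂) (-t), ← hadef, smul_mul_smul_comm] at hconj
    obtain ⟨κ, hκ⟩ : ∃ κ : F, b * a = κ • (x₁ * x₂) := by
      have hne : σ * ρ ≠ 0 := fun e => by
        rw [e, zero_smul] at hconj
        rcases hconj with e' | e'
        · exact h.ne_zero (h.mul_mem _ hx₁ _ hx₂) e'.symm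
        · exact h.ne_zero (h.mul_mem _ hx₁ _ hx₂) (neg_eq_zero.1 e'.symm)
      rcases hconj with e | e
      · exact ⟨(σ * ρ)⁻¹, by rw [← e, inv_smul_smul₀ hne]⟩
      · exact ⟨-(σ * ρ)⁻¹, by rw [neg_smul, ← smul_neg, ← e, inv_smul_smul₀ hne]⟩
    obtain ⟨s, hs, haa⟩ := h.sq_sign ha
    obtain ⟨u, hu, hxx⟩ := h.sq_sign hx₁
    have hb' : b = (s * κ) • (x₁ * x₂ * a) := by
      have := congrArg (fun f => s • (f * a)) hκ
      simp only [mul_assoc b, haa, mul_smul_comm, mul_one, smul_smul, smul_mul_assoc] at this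
      rwa [show s * s = 1 by rcases hs with rfl | rfl <;> ring, one_smul] at this
    exact ⟨s * κ * u, by rw [hb', mul_smul_comm, ← mul_assoc, ← mul_assoc, hxx, smul_mul_assoc, one_mul,
      smul_mul_assoc, smul_smul]⟩
  have c2 : ∀ r ∈ R, PM t₂ r → Commute (x₁ * b) r := fun r hr e =>
    hbdef ▸ commute_moved h t21' hx₁ hr (conj_of_pm h t21 e)
  have c1 : ∀ r ∈ R, PM t r → Commute (x₁ * b) r := fun r hr e => by
    obtain ⟨k, hk⟩ := hv
    rw [hk]
    exact (hadef ▸ commute_moved h t1' hx₂ hr (conj_of_pm h t1 e)).smul_left k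
  have hall : ∀ r ∈ R, Commute (x₁ * b) r := by
    intro r hr
    rcases hcover r hr with e | e | e
    · exact c1 r hr e
    · exact c2 r hr e
    · refine commute_cancel_right h hx₁ ?_ (c1 x₁ hx₁ p1)
      rcases hcover _ (h.mul_mem _ hr _ hx₁) with e' | e' | e'
      · exact c1 _ (h.mul_mem _ hr _ hx₁) e'
      · exact c2 _ (h.mul_mem _ hr _ hx₁) e'
      · refine absurd (two1 p1 (pm_cancel_right h hr ?_ e)) np1
        obtain ⟨k, hk⟩ := smul_comm_members h hr hx₁
        rw [hk]
        exact e'.smul_right k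
  exact np1 (pm_of_conj t21' (by
    rw [← hbdef]
    exact h.eq_or_neg hx₁ hb (h.scalar_of_comm hall)))

/-- A member commuting with a given one and with a normalising map, outside the span of the first. -/
theorem exists_fixed_member (hdim : 8 ≤ finrank F V) {x t : E} (hx : x ∈ R) (htx : Commute t x) (hN : Nor R t)
    {s : F} (hs : s ≠ 0) (htt : t * t = s • 1) :
    ∃ r ∈ R, Commute r x ∧ Commute r t ∧ ¬ IsScalarMap r ∧ ¬ IsScalarMap (x * r) := by
  classical
  obtain ⟨t', ht'⟩ : ∃ t' : E, t' = s⁻¹ • t := ⟨_, rfl⟩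
  have t1 : t * t' = 1 := by rw [ht', mul_smul_comm, htt, inv_smul_smul₀ hs]
  have t2 : t' * t = 1 := by rw [ht', smul_mul_assoc, htt, inv_smul_smul₀ hs]
  have hinv : ∀ r : E, t * (t * r * t') * t' = r := fun r => by
    have e' : t' * t' = s⁻¹ • 1 := by
      rw [ht', smul_mul_smul_comm, htt, smul_smul, mul_assoc, inv_mul_cancel₀ hs, mul_one]
    rw [show t * (t * r * t') * t' = t * t * r * (t' * t') by simp only [mul_assoc], htt, e', smul_mul_assoc,
      one_mul, smul_mul_smul_comm, mul_one, mul_inv_cancel₀ hs, one_smul]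
  by_contra hcon
  push Not at hcon
  have hfix : ∀ r ∈ R, Commute r x → Commute r t → ∃ c : F, r = c • 1 ∨ r = c • x := by
    intro r hr c1 c2
    by_cases hrs : IsScalarMap r
    · obtain ⟨c, hc⟩ := hrs
      exact ⟨c, .inl hc⟩
    · rcases h.eq_or_neg hx hr (hcon r hr c1 c2 hrs) with e | e
      · exact ⟨1, .inr (by rw [e, one_smul])⟩
      · exact ⟨-1, .inr (by rw [e, neg_smul, one_smul])⟩
  obtain ⟨w₀, hw₀, hw₀x, hw₀t⟩ : ∃ w ∈ R, Commute w x ∧
      ((∀ r ∈ R, Commute r x → ¬ Anti t r) ∧ w = 1 ∨ Anti t w) := by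
    by_cases hex : ∃ r ∈ R, Commute r x ∧ Anti t r
    · obtain ⟨r, hr, c1, c2⟩ := hex
      exact ⟨r, hr, c1, .inr c2⟩
    · push Not at hex
      exact ⟨1, h.one_mem, Commute.one_left x, .inl ⟨hex, rfl⟩⟩
  set B : Finset E := {1, x, w₀, x * w₀} with hB
  have hBR : ∀ b ∈ B, b ∈ R := by
    intro b hb
    simp only [hB, Finset.mem_insert, Finset.mem_singleton] at hb
    rcases hb with rfl | rfl | rfl | rfl
    exacts [h.one_mem, hx, hw₀, h.mul_mem _ hx _ hw₀]
  -- members fixed up to a sign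
  have hC : ∀ r ∈ R, Commute r x → PM t r → ∃ b ∈ B, ∃ c : F, r = c • b := by
    intro r hr c1 e
    rcases e with e | e
    · obtain ⟨c, hc | hc⟩ := hfix r hr c1 (show Commute r t from Eq.symm e)
      · exact ⟨1, by simp [hB], c, hc⟩
      · exact ⟨x, by simp [hB], c, hc⟩
    · rcases hw₀t with ⟨hno, -⟩ | hw
      · exact absurd e (hno r hr c1)
      obtain ⟨u, -, hww⟩ := h.sq_sign hw₀
      have hr0 : r * w₀ * w₀ = u • r := by rw [mul_assoc, hww, mul_smul_comm, mul_one]
      have hu0 : u ≠ 0 := fun e => (h.isUnit hw₀).mul (h.isUnit hw₀) |>.ne_zero (by rw [hww, e, zero_smul])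
      have hr' : r = u⁻¹ • (r * w₀ * w₀) := by rw [hr0, inv_smul_smul₀ hu0]
      obtain ⟨c, hc | hc⟩ := hfix _ (h.mul_mem _ hr _ hw₀) (c1.mul_left hw₀x) (Anti.mul_anti e hw).symm
      · exact ⟨w₀, by simp [hB], u⁻¹ * c, by rw [hr', hc, smul_mul_assoc, one_mul, smul_smul]⟩
      · exact ⟨x * w₀, by simp [hB], u⁻¹ * c, by rw [hr', hc, smul_mul_assoc, smul_smul]⟩
  have hmove : ∀ r ∈ R, Commute r x → ∃ b ∈ B, ∃ c : F, r * (t * r * t') = c • b := by
    intro r hr c1
    have hτ := nor_conj_mem t1 hN hr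
    have hτx : Commute (t * r * t') x := commute_conj htx.eq (comm_inv t1 t2 htx.eq) c1.eq
    refine hC _ (h.mul_mem _ hr _ hτ) (c1.mul_left hτx) (pm_of_conj t2 ?_)
    rw [← conj_mul t2, hinv]
    rcases h.cases hτ hr with e | e
    · exact .inl e.eq
    · exact .inr e
  set ρ : E → E := fun b =>
    if hb : ∃ r ∈ R, Commute r x ∧ ∃ c : F, r * (t * r * t') = c • b then hb.choose else 1 with hρ
  set T : Finset E := (B ×ˢ B).image fun q => q.1 * ρ q.2 with hT
  have hS : ∀ r ∈ R, Commute r x → r ∈ Submodule.span F (T : Set E) := by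
    intro r hr c1
    obtain ⟨b, hb, c, hc⟩ := hmove r hr c1
    have hex : ∃ r ∈ R, Commute r x ∧ ∃ c : F, r * (t * r * t') = c • b := ⟨r, hr, c1, c, hc⟩
    obtain ⟨hq, q1, d, hd⟩ := hex.choose_spec
    have hρb : ρ b = hex.choose := by rw [hρ]; exact dif_pos hex
    rw [← hρb] at hq q1 hd
    obtain ⟨u, hu, hrr⟩ := h.sq_sign hr
    obtain ⟨u', hu', hqq⟩ := h.sq_sign hq
    obtain ⟨u'', -, hbb⟩ := h.sq_sign (hBR b hb)
    have er : t * r * t' = (u * c) • (r * b) := by
      have := congrArg (fun f => u • (r * f)) hc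
      simp only [← mul_assoc r r, hrr, smul_mul_assoc, one_mul, smul_smul, mul_smul_comm] at this
      rwa [show u * u = 1 by rcases hu with rfl | rfl <;> ring, one_smul] at this
    have eq' : t * ρ b * t' = (u' * d) • (ρ b * b) := by
      have := congrArg (fun f => u' • (ρ b * f)) hd
      simp only [← mul_assoc (ρ b) (ρ b), hqq, smul_mul_assoc, one_mul, smul_smul, mul_smul_comm] at this
      rwa [show u' * u' = 1 by rcases hu' with rfl | rfl <;> ring, one_smul] at this
    have hrq := h.mul_mem _ hr _ hq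
    obtain ⟨k, hk⟩ : ∃ k : F, t * (r * ρ b) * t' = k • (r * ρ b) := by
      obtain ⟨e, he⟩ := smul_comm_members h hq (hBR b hb)
      refine ⟨u * c * (u' * d) * e * u'', ?_⟩
      rw [← conj_mul t2, er, eq', smul_mul_smul_comm, mul_assoc r b, ← mul_assoc b, he, smul_mul_assoc,
        mul_assoc (ρ b) b b, hbb]
      simp only [mul_smul_comm, mul_one, smul_smul, mul_assoc]
    have hpm : PM t (r * ρ b) := pm_of_conj t2 (by
      rcases h.smul_sign hrq (nor_conj_mem t1 hN hrq) hk with e | e <;> rw [hk, e]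
      · exact .inl (one_smul _ _)
      · exact .inr (by rw [neg_smul, one_smul]))
    obtain ⟨b', hb', e, he⟩ := hC _ hrq (c1.mul_left q1) hpm
    have : r = (u' * e) • (b' * ρ b) := by
      have := congrArg (fun f => u' • (f * ρ b)) he
      simp only [mul_assoc r, hqq, mul_smul_comm, mul_one, smul_smul, smul_mul_assoc] at this
      rwa [show u' * u' = 1 by rcases hu' with rfl | rfl <;> ring, one_smul] at this
    rw [this]
    exact Submodule.smul_mem _ _ (Submodule.subset_span (Finset.mem_image.2 ⟨(b', b), Finset.mem_product.2 ⟨hb', hb⟩, rfl⟩))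
  obtain ⟨y₀, hy₀, hy₀x⟩ : ∃ y ∈ R, ∀ r ∈ R, Commute r x ∨ Commute (r * y) x := by
    by_cases hxs : IsScalarMap x
    · obtain ⟨c, rfl⟩ := hxs
      exact ⟨1, h.one_mem, fun r _ => .inl ((Commute.one_right r).smul_right c)⟩
    · obtain ⟨y, hy, ha⟩ := h.exists_anti hx hxs
      exact ⟨y, hy, fun r hr => (h.cases hr hx).imp id fun e => (Anti.mul_anti e.symm ha.symm).symm⟩
  set U : Finset E := T ∪ T.image (· * y₀) with hU
  have hle : Submodule.span F R ≤ Submodule.span F (U : Set E) := by
    refine Submodule.span_le.2 fun r hr => ?_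
    rcases hy₀x r hr with e | e
    · exact Submodule.span_mono (by simp [hU]) (hS r hr e)
    · obtain ⟨u, hu, hyy⟩ := h.sq_sign hy₀
      have hmap : (Submodule.span F (T : Set E)).map (LinearMap.mulRight F y₀) ≤ Submodule.span F (U : Set E) := by
        refine (Submodule.map_span_le _ _ _).2 fun z hz => Submodule.subset_span ?_
        rw [hU, Finset.mem_coe]
        exact Finset.mem_union_right _ (Finset.mem_image_of_mem _ hz)
      have hr' : r = u • (r * y₀ * y₀) := by
        rw [mul_assoc, hyy, mul_smul_comm, mul_one, smul_smul,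
          show u * u = 1 by rcases hu with rfl | rfl <;> ring, one_smul]
      rw [SetLike.mem_coe, hr']
      exact Submodule.smul_mem _ _ (hmap ⟨r * y₀, hS _ (h.mul_mem _ hr _ hy₀) e, rfl⟩)
  rw [h.full] at hle
  have h1 := Submodule.finrank_mono hle
  have hcard : U.card ≤ 32 := by
    have hT16 : T.card ≤ 16 := by
      refine Finset.card_image_le.trans ?_
      rw [Finset.card_product]
      exact Nat.mul_le_mul Finset.card_le_four Finset.card_le_four
    have := Finset.card_union_le T (T.image (· * y₀))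
    have := (Finset.card_image_le (s := T) (f := (· * y₀)))
    rw [hU]
    omega
  have h2 := (finrank_span_finset_le_card (R := F) U).trans hcard
  rw [finrank_top, Module.finrank_linearMap] at h1
  rw [Set.finrank] at h2
  nlinarith

end system

section ambient

variable (h : RPauli R) [Nontrivial V] {Γ : Subgroup (Module.End F V)ˣ} (hΓ : RAmbient R Γ)
  (hdim : 8 ≤ finrank F V) (hX : XGood R Γ) [Finite F] (hsize : SizeCase R)
include h hΓ hdim hX hsize

/-- An element commuting up to a sign with a non-scalar member normalises the system. -/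
theorem nor_of_pm {f m : E} (hf : InG Γ f) (hm : m ∈ R) (hms : ¬ IsScalarMap m) (hp : PM f m) : Nor R f := by
  rcases h.sq m hm with hmm | hmm
  swap
  · exact nor_of_pm_turn h hΓ hdim hX hf hm hmm hp
  have hfin := two_mul_finrank_plus h hm hmm hms
  have hfin' := two_mul_finrank_plus h (h.neg_mem hm) (neg_sq hmm h.two_ne) (not_scalar_neg_self h hms)
  have hcomm : ∀ k : E, InG Γ k → k * m = m * k → Nor R k := fun k hk hkm => by
    obtain ⟨k', -, k1, k2⟩ := InG.exists_inv hk
    exact nor_of_comm_pos h hΓ hdim hX hsize hm hmm hms hfin hfin' hk k1 k2 hkm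
  rcases hp with e | e
  · exact hcomm f hf e
  obtain ⟨y, hy, hym⟩ := h.exists_anti hm hms
  have hN := hcomm (y * f) ((inG_mem h hΓ hdim hy).mul hf) (by
    rw [mul_assoc, e, mul_neg, ← mul_assoc, hym, neg_mul, neg_neg, mul_assoc])
  obtain ⟨s, hs, hyy⟩ := h.sq_sign hy
  have := ((h.nor_mem hy).smul s).mul hN
  rwa [smul_mul_assoc, ← mul_assoc, hyy, smul_mul_assoc, one_mul, smul_smul,
    show s * s = 1 by rcases hs with rfl | rfl <;> ring, one_smul] at this

variable (hn : (finrank F V : F) ≠ 0)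
include hn

/-- The step towards normalisation. -/
theorem nor_or_mem {g g' x z y : E} (hg : InG Γ g) (h1 : g * g' = 1) (h2 : g' * g = 1) (hx : x ∈ R)
    (hxx : x * x = -1) (hNt : Nor R (g * x * g')) (hy : y ∈ R) (hys : ¬ IsScalarMap y) (hz : z ∈ R)
    (hzz : z * z = -1) (hxz : Commute x z) (hxzs : ¬ IsScalarMap (x * z)) (hyx : Commute (g' * y * g) x)
    (hyz : Commute (g' * y * g) z) : Nor R g ∨ g * (x * z) * g' ∈ R := by
  have t2 := h.two_ne
  have back : g * (g' * y * g) * g' = y := conj_cancel h1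
  have cy : ∀ {u : E}, Commute (g' * y * g) u → PM (g * u * g') y := fun {u} e => by
    have := commute_conj' (g := g) e h2
    rw [back] at this
    exact .inl this.eq.symm
  have hGz : InG Γ (g * z * g') := InG.conj hg (inG_turn h hΓ hdim hz hzz) h1
  have hNt₂ := nor_of_pm h hΓ hdim hX hsize hGz hy hys (cy hyz)
  have hgP : g * gate x z * g' = gate (g * x * g') (g * z * g') := by
    rw [gate, gate, mul_smul_comm, smul_mul_assoc, ← conj_mul h2]
    simp only [mul_add, add_mul, mul_one, h1]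
  have hNP := nor_of_pm h hΓ hdim hX hsize (InG.conj hg (inG_cgate h hΓ hdim hx hxx hz hzz hxz hxzs) h1) hy hys
    (cy (commute_gate hyx hyz))
  rw [hgP] at hNP
  have hNP' : Nor R ((1 + g * x * g') * (1 + g * z * g')) := by
    have := hNP.smul 2
    rwa [gate, smul_inv_smul₀ t2] at this
  have sqc : ∀ {u : E}, u * u = -1 → g * u * g' * (g * u * g') = -1 := fun {u} e => by
    rw [conj_mul h2, e, mul_neg_one, neg_mul, h1]
  rcases line_of_nor_pair h hn (sqc hxx) (sqc hzz) (commute_conj' hxz h2) hNt hNt₂ hNP' with e | e | e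
  · exact .inl (nor_of_conj_turn h hΓ hdim hX hg h1 h2 hx hxx (hΓ.fuse.mem h hg h1 h2 hx e))
  · exact .inl (nor_of_conj_turn h hΓ hdim hX hg h1 h2 hz hzz (hΓ.fuse.mem h hg h1 h2 hz e))
  · rw [conj_mul h2] at e
    exact .inr (hΓ.fuse.mem h hg h1 h2 (h.mul_mem _ hx _ hz) e)

/-- An element carrying a turn to a normalising map normalises. -/
theorem nor_of_nor_image {g g' x : E} (hg : InG Γ g) (h1 : g * g' = 1) (h2 : g' * g = 1) (hx : x ∈ R)
    (hxx : x * x = -1) (hNt : Nor R (g * x * g')) : Nor R g := by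
  have t2 := h.two_ne
  have hns := h.not_scalar_neg hx hxx
  obtain ⟨y, hy, -, hyt, hys, -⟩ := exists_fixed_member h hdim h.one_mem (t := g * x * g') (Commute.one_right _)
    hNt (neg_ne_zero.2 (one_ne_zero (α := F))) (by rw [conj_mul h2, hxx, mul_neg_one, neg_mul, h1, neg_smul, one_smul])
  have hy'x : Commute (g' * y * g) x := by
    have := commute_conj' (g := g') (g' := g) hyt h1
    rwa [conj_cancel h2] at this
  have hGy : InG Γ (g' * y * g) := InG.conj (hg.inv h1) (inG_mem h hΓ hdim hy) h2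
  obtain ⟨s, hs, hyy⟩ := h.sq_sign hy
  have hs0 : s ≠ 0 := by rcases hs with rfl | rfl <;> simp
  obtain ⟨z₀, hz₀, z₀x, z₀y, z₀s, xz₀s⟩ := exists_fixed_member h hdim hx hy'x (hX x hx hxx _ hGy hy'x.eq) hs0
    (by rw [conj_mul h1, hyy, mul_smul_comm, mul_one, smul_mul_assoc, h2])
  obtain ⟨z, hz, hzz, zx, zy, xzs⟩ : ∃ z ∈ R, z * z = -1 ∧ Commute z x ∧ Commute z (g' * y * g) ∧
      ¬ IsScalarMap (x * z) := by
    rcases h.sq z₀ hz₀ with e | e
    · refine ⟨z₀ * x, h.mul_mem _ hz₀ _ hx, by rw [z₀x.symm.mul_mul_mul_comm, e, hxx, one_mul],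
        z₀x.mul_left (Commute.refl x), z₀y.mul_left hy'x.symm, ?_⟩
      rw [z₀x.eq, ← mul_assoc, hxx, neg_one_mul]
      exact not_scalar_neg_self h z₀s
    · exact ⟨z₀, hz₀, e, z₀x, z₀y, xz₀s⟩
  rcases nor_or_mem h hΓ hdim hX hsize hn hg h1 h2 hx hxx hNt hy hys hz hzz zx.symm xzs hy'x zy.symm with e | hm
  · exact e
  have hms : ¬ IsScalarMap (g * (x * z) * g') := conj_nonscalar h1 h2 xzs
  by_contra hnot
  have hmem : ∀ z' ∈ R, z' * z' = -1 → Commute z' x → Commute z' z → ¬ IsScalarMap (x * z') →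
      g * (x * z') * g' ∈ R := by
    intro z' hz' hzz' c1 c2 hs'
    refine (nor_or_mem h hΓ hdim hX hsize hn hg h1 h2 hx hxx hNt hm hms hz' hzz' c1.symm hs' ?_ ?_).resolve_left hnot
    · rw [conj_cancel h2]; exact (Commute.refl x).mul_left zx
    · rw [conj_cancel h2]; exact (c1.mul_right c2).symm
  obtain ⟨w, hw, hww, hwx, hwz, u, hu, ux, uw, huxz⟩ :=
    h.exists_neg_anti_two (by omega) hx hxx hz hzz zx.symm xzs
  have hxzw : Commute (x * z) w := (Anti.mul_anti hwx hwz).symm
  obtain ⟨p, hp, q, hq, hpq, ⟨px, -, pxz, -⟩, qx, -, qxz, -⟩ := h.exists_pair_two (by omega) hx hw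
    (h.mul_mem _ hx _ hz) hu hwx huxz ((Commute.refl x).mul_left zx) hxzw ux uw
  have hzeq : z = -(x * (x * z)) := by rw [← mul_assoc, hxx, neg_one_mul, neg_neg]
  have mk : ∀ e ∈ R, Commute e x → Commute e (x * z) →
      ∃ e' ∈ R, e' * e' = -1 ∧ Commute e' x ∧ Commute e' z ∧ (∀ f, Anti f e → Commute f x → Anti f e') := by
    intro e he ex exz
    have ez : Commute e z := by rw [hzeq]; exact (ex.mul_right exz).neg_right
    rcases h.sq e he with e1 | e1
    · exact ⟨e * x, h.mul_mem _ he _ hx, by rw [ex.symm.mul_mul_mul_comm, e1, hxx, one_mul],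
        ex.mul_left (Commute.refl x), ez.mul_left zx.symm, fun f hf hfx => Anti.mul_comm_right hf hfx⟩
    · exact ⟨e, he, e1, ex, ez, fun f hf _ => hf⟩
  obtain ⟨p', hp', pp, p'x, p'z, hpA⟩ := mk p hp px pxz
  obtain ⟨q', hq', qq, q'x, q'z, hqA⟩ := mk q hq qx qxz
  have hA : Anti p' q' := hqA p' (hpA q hpq qx).symm p'x
  have nsx : ∀ e ∈ R, ∀ f ∈ R, Anti e f → Commute f x → ¬ IsScalarMap (x * e) := by
    intro e he f hf hef hfx hsc
    refine h.not_commute_anti (h.isUnit he) (h.isUnit hf) ?_ hef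
    rcases h.eq_or_neg hx he hsc with e' | e' <;> rw [e']
    · exact hfx.symm
    · exact hfx.symm.neg_left
  have m1 := hmem p' hp' pp p'x p'z (nsx p' hp' q' hq' hA q'x)
  have m2 := hmem q' hq' qq q'x q'z (nsx q' hq' p' hp' hA.symm p'x)
  have hmem' : g * (p' * q') * g' ∈ R := by
    have := h.neg_mem (h.mul_mem _ m1 _ m2)
    rwa [conj_mul h2, show x * p' * (x * q') = -(p' * q') by
        rw [← mul_assoc, mul_assoc x p' x, p'x.eq, ← mul_assoc x x p', hxx, neg_one_mul, neg_mul],
      mul_neg, neg_mul, neg_neg] at this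
  refine hnot (nor_of_conj_turn h hΓ hdim hX hg h1 h2 (h.mul_mem _ hp' _ hq') ?_ hmem')
  rw [show p' * q' * (p' * q') = p' * (q' * p') * q' by simp only [mul_assoc], hA.symm, mul_neg, neg_mul,
    show p' * (p' * q') * q' = p' * p' * (q' * q') by simp only [mul_assoc], pp, qq, neg_mul_neg, one_mul]

/-- Conjugates of involutions of the system normalise it. -/
theorem nor_conj_invol {g g' a : E} (hg : InG Γ g) (h1 : g * g' = 1) (h2 : g' * g = 1) (ha : a ∈ R)
    (haa : a * a = 1) (has : ¬ IsScalarMap a) : Nor R (g * a * g') := by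
  obtain ⟨y, hy, hya⟩ := h.exists_anti ha has
  obtain ⟨p, hp, q, hq, hpq, -, -, -, -⟩ := h.exists_pair (by omega) ha hy hya
  obtain ⟨x, hx, hxx, -⟩ := h.exists_neg_of_pair hp hq hpq
  have hGs : InG Γ (g * a * g') := InG.conj hg (inG_mem h hΓ hdim ha) h1
  have hss : g * a * g' * (g * a * g') = (1 : F) • 1 := by rw [conj_mul h2, haa, mul_one, h1, one_smul]
  have hGx := inG_turn h hΓ hdim hx hxx
  rcases pair_dichotomy hGx hGs (α := -1) (β := 1) (by rw [hxx, neg_smul, one_smul]) hss with
    ⟨k, k', hk, k1, k2, -, l, hl0, e⟩ | ⟨z, hz, hzs, -, hzx, hzv, -, k, k', hk, k1, k2, -, l, hl0, e⟩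
  · exfalso
    have hgk : g' * k * x * (k' * g) = l • a := by
      rw [← conj_comp, e, mul_smul_comm, smul_mul_assoc, conj_cancel h2]
    have := hΓ.fuse _ _ x a l ((hg.inv h1).mul hk) (comp_inv h2 k1) (comp_inv k2 h1) hx ha hgk
    have hsq := congrArg (fun f => f * f) hgk
    simp only [conj_mul (comp_inv k2 h1), hxx, smul_mul_smul_comm, haa, mul_neg, mul_one, neg_mul,
      comp_inv h2 k1] at hsq
    rw [show l * l = 1 by rcases this with rfl | rfl <;> ring, one_smul] at hsq
    exact h.neg_one_ne hsq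
  have hNz : Nor R z := nor_of_pm_turn h hΓ hdim hX hz hx hxx hzx
  have hNxz : Nor R (l • (x * z)) := ((h.nor_mem hx).mul hNz).smul l
  suffices hL : Line R (x * z) by
    obtain ⟨m, hm, c, hc⟩ := hL
    have hzm : z = (-c) • (x * m) := by
      rw [neg_smul, ← mul_smul_comm, ← hc, ← mul_assoc, hxx, neg_one_mul, neg_neg]
    have hc0 : -c ≠ 0 := fun e' => hzs ⟨0, by rw [hzm, e', zero_smul, zero_smul]⟩
    refine nor_of_pm h hΓ hdim hX hsize hGs (h.mul_mem _ hx _ hm) (fun hsc => hzs (hzm ▸ hsc.smul (-c))) ?_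
    have := (hzv.smul_left (-c)⁻¹).symm
    rwa [hzm, inv_smul_smul₀ hc0] at this
  have fin : ∀ {f : E}, f ∈ R → f = l • (x * z) → Line R (x * z) := fun {f} hf ef =>
    ⟨f, hf, l⁻¹, by rw [ef, inv_smul_smul₀ hl0]⟩
  rcases e with e | e
  · have := nor_of_nor_image h hΓ hdim hX hsize hn hk k1 k2 hx hxx (e ▸ hNxz)
    exact fin (nor_conj_mem k1 this hx) e
  · rw [conj_comp] at e
    have hp' : PM (g' * k' * x * (k * g)) a := by
      have h3 : PM x (l • (x * z)) := (PM.mul_right (pm_self x) hzx.symm).smul_right l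
      rw [← e] at h3
      have := h3.conj (g := g' * k') (g' := k * g) (comp_inv k1 h1)
      rwa [conj_cancel (comp_inv h2 k2)] at this
    have hGk : InG Γ (k * g) := hk.mul hg
    have hNy := nor_of_pm h hΓ hdim hX hsize
      (InG.conj (hGk.inv (comp_inv k1 h1)) hGx (comp_inv h2 k2)) ha has hp'
    have hN := nor_of_nor_image h hΓ hdim hX hsize hn (hGk.inv (comp_inv k1 h1)) (comp_inv h2 k2) (comp_inv k1 h1)
      hx hxx hNy
    exact fin (nor_conj_mem (comp_inv k1 h1) (nor_of_inv h (comp_inv h2 k2) (comp_inv k1 h1) hN) ha) e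

/-- If the centralisers of turns normalise the system, so does the group. -/
theorem nor_all : ∀ g : E, InG Γ g → Nor R g := by
  intro g hg
  obtain ⟨g', -, h1, h2⟩ := InG.exists_inv hg
  obtain ⟨y, hy, hys⟩ : ∃ y ∈ R, ¬ IsScalarMap y := by
    by_contra hcon
    push Not at hcon
    have hle : Submodule.span F R ≤ Submodule.span F {(1 : E)} := Submodule.span_le.2 fun r hr => by
      obtain ⟨c, rfl⟩ := hcon r hr
      exact Submodule.smul_mem _ c (Submodule.subset_span rfl)
    rw [h.full] at hle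
    have h3 := (Submodule.finrank_mono hle).trans
      ((finrank_span_le_card ({(1 : E)} : Set E)).trans (by simp : _ ≤ 1))
    rw [finrank_top, Module.finrank_linearMap] at h3
    nlinarith
  obtain ⟨u, hu, huy⟩ := h.exists_anti hy hys
  obtain ⟨x, hx, hxx, -⟩ := h.exists_neg_of_pair hy hu huy
  obtain ⟨a, ha, haa, hax⟩ := h.exists_pos_anti (by omega) hx hxx
  have has := h.not_scalar_anti ha hx hax
  have hb : a * x * (a * x) = 1 := by
    rw [show a * x * (a * x) = a * (x * a) * x by simp only [mul_assoc], hax.symm, mul_neg, neg_mul,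
      show a * (a * x) * x = a * a * (x * x) by simp only [mul_assoc], haa, hxx, mul_neg, mul_one, neg_neg]
  have hbs : ¬ IsScalarMap (a * x) :=
    h.not_scalar_anti (h.mul_mem _ ha _ hx) hx ((Anti.mul_comm_right hax.symm (Commute.refl x)).symm)
  have := (nor_conj_invol h hΓ hdim hX hsize hn hg h1 h2 ha haa has).mul
    (nor_conj_invol h hΓ hdim hX hsize hn hg h1 h2 (h.mul_mem _ ha _ hx) hb hbs)
  rw [conj_mul h2, show a * (a * x) = x by rw [← mul_assoc, haa, one_mul]] at this
  exact nor_of_nor_image h hΓ hdim hX hsize hn hg h1 h2 hx hxx this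

end ambient

end CfsgLib.Classical.PauliForm.Real
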