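import Cfsg.Agent.Lib.Classical.PauliForm.Real.Complex
import Cfsg.Agent.Lib.Classical.PauliForm.Real.Closure

/-!
# A group of similitudes containing an extraspecial system and its gates normalises it or is big at a turn
-/

set_option autoImplicit false
set_option linter.unusedSectionVars false

namespace CfsgLib.Classical.PauliForm.Real

open Module CfsgLib.Classical.PauliMax CfsgLib.Classical.PauliForm

variable {F : Type*} [Field F] {V : Type*} [AddCommGroup V] [Module F V] [FiniteDimensional F V]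

local notation "E" => Module.End F V

variable {R : Set (Module.End F V)} (h : RPauli R) [Nontrivial V] {Γ : Subgroup (Module.End F V)ˣ}
  (hΓ : RAmbient R Γ) (hdim : 8 ≤ finrank F V)
include h hΓ hdim

/-- The dichotomy at a turn. -/
theorem turnNor_or_bigAt [Finite F] {p : ℕ} [Fact p.Prime] [CharP F p] (hF : Nat.card F = p)
    {B : V →ₗ[F] V →ₗ[F] F} (hB : B.IsAlt ∨ ∀ u v, B u v = B v u) (hN : B.SeparatingRight)
    (hiso : ∀ r ∈ R, ∀ u v, B (r u) (r v) = B u v)
    (hsim : ∀ g : E, InG Γ g → ∃ μ : F, μ ≠ 0 ∧ ∀ u v, B (g u) (g v) = μ * B u v) {m : ℕ}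
    (hV : finrank F V = 2 ^ (m + 3)) {x : E} (hx : x ∈ R) (hxx : x * x = -1) :
    TurnNor R Γ x ∨ BigAt B Γ x := by
  classical
  haveI := Fintype.ofFinite F
  by_cases hsq : IsSquare (-1 : F)
  · have hp3 : p ≠ 3 := by
      rintro rfl
      rw [FiniteField.isSquare_neg_one_iff, ← Nat.card_eq_fintype_card, hF] at hsq
      exact hsq rfl
    obtain ⟨i, hi⟩ := hsq
    exact turnNor_or_bigAt_split h hΓ hdim hF hp3 hi.symm hN hiso hsim (m := m + 1) hV hx hxx
  have h4p : p % 4 = 3 := by
    rw [FiniteField.isSquare_neg_one_iff, ← Nat.card_eq_fintype_card, hF, not_ne_iff] at hsq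
    exact hsq
  have hxv : ∀ v, x (x v) = -v := fun v => by rw [← Module.End.mul_apply, hxx]; rfl
  rcases hB with hA | hS
  swap
  · exact turnNor_or_bigAt_complex h hΓ hdim hF h4p hS hN hx hxx (hiso x hx) (fun r hr _ => hiso r hr)
      (fun g hg _ => hsim g hg) hV
  -- the symmetric form of an alternating one
  obtain ⟨B', hB'⟩ : ∃ B' : V →ₗ[F] V →ₗ[F] F, ∀ u v, B' u v = B u (x v) := ⟨B.compl₂ x, fun u v => rfl⟩
  have hS' : ∀ u v, B' u v = B' v u := fun u v => by
    rw [hB', hB', ← hiso x hx v (x u), hxv, map_neg, hA.neg (x v) u]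
  have hN' : B'.SeparatingRight := fun v hv => by
    have := hN (x v) fun u => by rw [← hB']; exact hv u
    rw [← neg_eq_zero, ← hxv, this, map_zero]
  rcases turnNor_or_bigAt_complex h hΓ hdim hF h4p hS' hN' hx hxx
      (fun u v => by rw [hB', hB', hiso x hx])
      (fun r hr hrx u v => by
        rw [hB', hB', show x (r v) = r (x v) from (LinearMap.congr_fun hrx v).symm, hiso r hr])
      (fun g hg hgx => by
        obtain ⟨μ, hμ, hs⟩ := hsim g hg
        exact ⟨μ, hμ, fun u v => by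
          rw [hB', hB', show x (g v) = g (x v) from (LinearMap.congr_fun hgx v).symm, hs]⟩) hV with e | e
  · exact .inl e
  · exact .inr fun f hf hfx hf2 => e f (fun u v => by
      rw [hB', hB', show x (f v) = f (x v) from (LinearMap.congr_fun hfx v).symm, hf]) hfx hf2

/-- The group normalises the system or is big at a turn. -/
theorem nor_or_bigAt [Finite F] {p : ℕ} [Fact p.Prime] [CharP F p] (hF : Nat.card F = p)
    {B : V →ₗ[F] V →ₗ[F] F} (hB : B.IsAlt ∨ ∀ u v, B u v = B v u) (hN : B.SeparatingRight)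
    (hiso : ∀ r ∈ R, ∀ u v, B (r u) (r v) = B u v)
    (hsim : ∀ g : E, InG Γ g → ∃ μ : F, μ ≠ 0 ∧ ∀ u v, B (g u) (g v) = μ * B u v) {m : ℕ}
    (hV : finrank F V = 2 ^ (m + 3)) (hsize : SizeCase R) :
    (∀ g : E, InG Γ g → Nor R g) ∨ ∀ x ∈ R, x * x = -1 → BigAt B Γ x := by
  by_cases hbig : ∃ x ∈ R, x * x = -1 ∧ BigAt B Γ x
  · obtain ⟨x, hx, hxx, hb⟩ := hbig
    exact .inr (bigAt_all h hΓ hdim hsim hx hxx hb)
  · refine .inl (nor_all h hΓ hdim (xgood_of_turnNor h hΓ hdim fun x hx hxx => ?_) hsize ?_)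
    · exact (turnNor_or_bigAt h hΓ hdim hF hB hN hiso hsim hV hx hxx).resolve_right
        fun e => hbig ⟨x, hx, hxx, e⟩
    · rw [hV, Nat.cast_pow]
      exact pow_ne_zero _ h.two_ne

end CfsgLib.Classical.PauliForm.Real
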