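import Cfsg.Agent.Lib.Classical.PauliForm.Real.Centralizer

/-!
# Extraspecial systems of isometries

For a system of isometries of a non-degenerate bilinear form, turns are skew and the other members self-adjoint,
so a similitude can carry a member only to plus or minus a member.
-/

set_option autoImplicit false
set_option linter.unusedSectionVars false

namespace CfsgLib.Classical.PauliForm.Real

open Module CfsgLib.Classical.PauliMax CfsgLib.Classical.PauliForm

variable {F : Type*} [Field F] {V : Type*} [AddCommGroup V] [Module F V] [FiniteDimensional F V]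
  {B : V →ₗ[F] V →ₗ[F] F}

local notation "E" => Module.End F V

/-- Moving a member across the form multiplies by its square. -/
theorem member_adjoint {r : E} (hiso : ∀ u v, B (r u) (r v) = B u v) {s : F} (hs : r * r = s • 1)
    (hs2 : s * s = 1) (u v : V) : B (r u) v = s * B u (r v) := by
  have e : r (r v) = s • v := by rw [← Module.End.mul_apply, hs]; rfl
  have h1 := hiso u (r v)
  rw [e, map_smul, smul_eq_mul] at h1
  rw [← h1, ← mul_assoc, hs2, one_mul]

/-- An isometry squaring to `-1` is skew. -/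
theorem turn_skew {x : E} (hiso : ∀ u v, B (x u) (x v) = B u v) (hxx : x * x = -1) (u v : V) :
    B (x u) v = -B u (x v) := by
  rw [member_adjoint hiso (s := -1) (by rw [hxx, neg_smul, one_smul]) (by ring), neg_one_mul]

theorem one_add_turn_sim {x : E} (hiso : ∀ u v, B (x u) (x v) = B u v) (hxx : x * x = -1) (u v : V) :
    B ((1 + x) u) ((1 + x) v) = 2 * B u v := by
  simp only [LinearMap.add_apply, Module.End.one_apply, map_add, hiso, turn_skew hiso hxx]
  ring

/-- Gates are isometries. -/
theorem gate_iso (h2 : (2 : F) ≠ 0) {x z : E} (hx : ∀ u v, B (x u) (x v) = B u v) (hxx : x * x = -1)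
    (hz : ∀ u v, B (z u) (z v) = B u v) (hzz : z * z = -1) (u v : V) :
    B (gate x z u) (gate x z v) = B u v := by
  simp only [gate, LinearMap.smul_apply, Module.End.mul_apply, map_smul, smul_eq_mul]
  rw [one_add_turn_sim hx hxx, one_add_turn_sim hz hzz]
  field_simp

variable {R : Set (Module.End F V)}

/-- Conjugation by similitudes fuses members only up to a sign. -/
theorem fuse_of_sim [Nontrivial V] (h : RPauli R) (hN : B.SeparatingRight) (hiso : ∀ r ∈ R, ∀ u v, B (r u) (r v) = B u v)
    {Γ : Subgroup Eˣ} (hsim : ∀ g : E, InG Γ g → ∃ μ : F, μ ≠ 0 ∧ ∀ u v, B (g u) (g v) = μ * B u v) :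
    Fuse R Γ := by
  intro g g' r r₂ c hg h1 h2 hr hr₂ e
  obtain ⟨s, hs, hrr⟩ := h.sq_sign hr
  obtain ⟨s₂, hs₂, hrr₂⟩ := h.sq_sign hr₂
  obtain ⟨μ, hμ, hg'⟩ := hsim g hg
  have hs' : s * s = 1 := by rcases hs with rfl | rfl <;> ring
  have hs₂' : s₂ * s₂ = 1 := by rcases hs₂ with rfl | rfl <;> ring
  have hgg : ∀ u, g (g' u) = u := fun u => by rw [← Module.End.mul_apply, h1]; rfl
  have hX : ∀ u v, B ((g * r * g') u) v = s * B u ((g * r * g') v) := by
    intro u v
    conv_lhs => rw [← hgg v]
    conv_rhs => rw [← hgg u]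
    simp only [Module.End.mul_apply]
    rw [hg', hg', member_adjoint (hiso r hr) hrr hs']
    ring
  have hsq : s • (1 : E) = (c * c * s₂) • 1 := by
    have := congrArg (fun f => f * f) e
    simp only [conj_mul h2, hrr, mul_smul_comm, mul_one, smul_mul_assoc, h1, hrr₂, smul_smul] at this
    rw [this, mul_assoc]
  rw [smul_one_eq_iff] at hsq
  have hc : c ≠ 0 := fun hc => by
    rw [hc, zero_mul, zero_mul] at hsq
    rw [hsq, zero_mul] at hs'
    exact zero_ne_one hs'
  suffices hss : s₂ = s by
    rw [hss, mul_comm (c * c)] at hsq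
    refine mul_self_eq_one_iff.1 ?_
    calc c * c = s * s * (c * c) := by rw [hs', one_mul]
      _ = s * (s * (c * c)) := by ring
      _ = 1 := by rw [← hsq, hs']
  by_contra hne
  obtain ⟨v, hv⟩ := exists_ne (0 : V)
  have hall : ∀ u, B u (r₂ v) = 0 := fun u => by
    have h3 := hX u v
    rw [e, LinearMap.smul_apply, LinearMap.smul_apply, map_smul, LinearMap.smul_apply, map_smul, smul_eq_mul,
      smul_eq_mul, member_adjoint (hiso r₂ hr₂) hrr₂ hs₂'] at h3
    have h4 : (c * (s₂ - s)) * B u (r₂ v) = 0 := by linear_combination h3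
    exact (mul_eq_zero.1 h4).resolve_left (mul_ne_zero hc (sub_ne_zero.2 hne))
  obtain ⟨w, hw⟩ := h.isUnit hr₂
  have h0 : r₂ v = 0 := hN (r₂ v) hall
  refine hv ?_
  have := congrArg (↑w⁻¹ : E) h0
  rwa [← hw, ← Module.End.mul_apply, Units.inv_mul, map_zero] at this

/-- The form restricted to the fixed space of an involutory isometry is non-degenerate. -/
theorem separating_plus (h2 : (2 : F) ≠ 0) (hN : B.SeparatingRight) {a : E} (haa : a * a = 1)
    (hiso : ∀ u v, B (a u) (a v) = B u v) :
    (B.compl₁₂ (plusSpace a).subtype (plusSpace a).subtype).SeparatingRight := by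
  intro w hw
  refine Subtype.ext (hN (w : V) fun u => ?_)
  have hsplit : u = proj a u + proj (-a) u := by rw [← LinearMap.add_apply, proj_add_neg haa h2]; rfl
  have h1 : B (proj a u) (w : V) = 0 := hw ⟨proj a u, u, rfl⟩
  have h3 : B (proj (-a) u) (w : V) = 0 := by
    have ha' : ∀ x, B (a x) (w : V) = B x (w : V) := fun x => by
      conv_lhs => rw [← a_apply_of_mem haa h2 w, hiso]
    simp only [proj, LinearMap.smul_apply, LinearMap.add_apply, LinearMap.neg_apply, Module.End.one_apply,
      map_smul, map_add, map_neg, smul_eq_mul, ha', add_neg_cancel, mul_zero]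
  rw [hsplit, map_add, LinearMap.add_apply, h1, h3, add_zero]

/-- A group of similitudes containing the scalars and the gates is an ambient group. -/
theorem rambient_of_sim (h : RPauli R) [Nontrivial V] (hN : B.SeparatingRight)
    (hiso : ∀ r ∈ R, ∀ u v, B (r u) (r v) = B u v) {Γ : Subgroup Eˣ}
    (hsim : ∀ g : E, InG Γ g → ∃ μ : F, μ ≠ 0 ∧ ∀ u v, B (g u) (g v) = μ * B u v)
    (hscal : ∀ c : F, c ≠ 0 → InG Γ (c • 1))
    (hgate : ∀ x ∈ R, ∀ z ∈ R, x * x = -1 → z * z = -1 → Anti z x → InG Γ (gate x z)) : RAmbient R Γ := by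
  refine ⟨hscal, hgate, fuse_of_sim h hN hiso hsim, fun a ha haa has h2 => ?_⟩
  haveI : Nontrivial (plusSpace a) := by
    by_contra hnt
    rw [not_nontrivial_iff_subsingleton] at hnt
    have hP : proj a = 0 := LinearMap.ext fun v =>
      congrArg Subtype.val (Subsingleton.elim (⟨proj a v, v, rfl⟩ : plusSpace a) 0)
    rw [proj] at hP
    exact has ⟨-1, by
      rw [neg_smul, one_smul]
      exact eq_neg_of_add_eq_zero_right ((smul_eq_zero.1 hP).resolve_left (inv_ne_zero h.two_ne))⟩
  refine fuse_of_sim (B := B.compl₁₂ (plusSpace a).subtype (plusSpace a).subtype) (h.res_pauli ha haa has).2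
    (separating_plus h2 hN haa (hiso a ha)) ?_ ?_
  · rintro _ ⟨r, ⟨hr, hra⟩, rfl⟩ u v
    simp only [LinearMap.compl₁₂_apply, Submodule.coe_subtype, res_apply, apply_comm haa h2 hra]
    exact hiso r hr _ _
  · rintro _ ⟨u, hu, rfl⟩
    obtain ⟨g, hg, hga, hgu⟩ := (mem_resGroup haa h2).1 hu
    obtain ⟨μ, hμ, hs⟩ := hsim (g : E) ⟨g, hg, rfl⟩
    refine ⟨μ, hμ, fun x y => ?_⟩
    rw [← hgu]
    simp only [LinearMap.compl₁₂_apply, Submodule.coe_subtype, res_apply, apply_comm haa h2 hga]
    exact hs _ _

end CfsgLib.Classical.PauliForm.Real
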