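import Cfsg.Agent.Lib.Classical.PauliForm.Real.Data
import Cfsg.Agent.Lib.Classical.PauliForm.Real.Form
import Cfsg.Agent.Lib.Classical.PauliForm.Real.Dichotomy

/-!
# Maximality of the normaliser of an extraspecial system in a classical group

The dichotomy for groups of similitudes, read in matrices: a group between the normaliser and the classical
group is the normaliser, or the group once the big case generates it.
-/

set_option autoImplicit false
set_option linter.unusedSectionVars false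

namespace CfsgLib.Classical.PauliForm.Real

open Module Matrix Cfsg Cfsg.Geo CfsgLib.Classical.PauliMax CfsgLib.Classical.PauliForm
open scoped MatrixGroups

variable {F : Type*} [Field F] [Fintype F] {ι : Type} [Fintype ι] [DecidableEq ι] [Nonempty ι]
  {R : Subgroup (GL ι F)}

/-- A normalising map gives a normalising matrix. -/
theorem mem_normalizer_of_nor {g : GL ι F} (hg : Nor (mapOf R) (lin (g : Matrix ι ι F))) :
    g ∈ subgroupNormalizer R := by
  have hmaps : ∀ x ∈ R, g * x * g⁻¹ ∈ R := by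
    intro x hx
    obtain ⟨y, hy, e⟩ := hg _ (mem_mapOf hx)
    refine mem_of_mapOf ?_
    rw [lin, Units.val_mul, Units.val_mul, map_mul, map_mul, show Matrix.toLinAlgEquiv' (g : Matrix ι ι F) *
      Matrix.toLinAlgEquiv' (x : Matrix ι ι F) = _ from e, mul_assoc, lin, ← map_mul, Units.mul_inv, map_one, mul_one]
    exact hy
  haveI : Finite R := inferInstance
  have hbij : Function.Bijective fun x : R => (⟨g * x * g⁻¹, hmaps x x.2⟩ : R) :=
    Finite.injective_iff_bijective.1 fun x y e => Subtype.ext (by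
      have := congrArg Subtype.val e
      simpa using this)
  rw [subgroupNormalizer, Subgroup.mem_normalizer_iff]
  refine fun x => ⟨hmaps x, fun hx => ?_⟩
  obtain ⟨⟨y, hy⟩, e⟩ := hbij.2 ⟨_, hx⟩
  have e' : g * y * g⁻¹ = g * x * g⁻¹ := congrArg Subtype.val e
  rwa [← mul_left_cancel (mul_right_cancel e')]

/-- A normalising matrix gives a normalising map. -/
theorem nor_of_mem_normalizer {g : GL ι F} (hg : g ∈ subgroupNormalizer R) :
    Nor (mapOf R) (lin (g : Matrix ι ι F)) := by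
  rintro _ ⟨_, ⟨x, hx, rfl⟩, rfl⟩
  rw [subgroupNormalizer, Subgroup.mem_normalizer_iff] at hg
  refine ⟨_, mem_mapOf ((hg x).1 hx), ?_⟩
  rw [lin, lin, ← map_mul, ← map_mul, ← Units.val_mul, ← Units.val_mul, inv_mul_cancel_right]

variable {B : (ι → F) →ₗ[F] (ι → F) →ₗ[F] F}

/-- Maximality, given the gates, a non-normalising element and generation in the big case. -/
theorem normalizer_maximal {p : ℕ} (hp : p.Prime) (hF : Fintype.card F = p) (h : RPauli (mapOf R)) {m : ℕ}
    (hn : Fintype.card ι = 2 ^ (m + 3)) (hB : B.IsAlt ∨ ∀ u v, B u v = B v u) (hN : B.SeparatingRight)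
    (hsize : SizeCase (mapOf R)) {K : Subgroup (GL ι F)}
    (hK : ∀ g ∈ K, ∀ u v, B (lin (g : Matrix ι ι F) u) (lin (g : Matrix ι ι F) v) = B u v)
    (hR : ∀ x ∈ R, ∀ u v, B (lin (x : Matrix ι ι F) u) (lin (x : Matrix ι ι F) v) = B u v)
    (hgate : ∀ x ∈ mapOf R, ∀ z ∈ mapOf R, x * x = -1 → z * z = -1 → Anti z x → ∀ g : GL ι F,
      lin (g : Matrix ι ι F) = gate x z → g ∈ K)
    (hproper : ∃ g ∈ K, ¬ Nor (mapOf R) (lin (g : Matrix ι ι F)))
    (hgen : ∀ Γ : Subgroup (Module.End F (ι → F))ˣ, RAmbient (mapOf R) Γ →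
      (∀ g : Module.End F (ι → F), InG Γ g → ∃ μ : F, μ ≠ 0 ∧ ∀ u v, B (g u) (g v) = μ * B u v) →
      (∀ x ∈ mapOf R, x * x = -1 → BigAt B Γ x) → ∀ g ∈ K, InG Γ (lin (g : Matrix ι ι F))) :
    IsMaximalIn K (subgroupNormalizer R ⊓ K) := by
  classical
  haveI := Fact.mk hp
  haveI : CharP F p := charP_of_card_eq_prime hF
  haveI : Nontrivial (ι → F) := Function.nontrivial
  have h2 := h.two_ne
  have hfr : finrank F (ι → F) = 2 ^ (m + 3) := by rw [Module.finrank_fintype_fun_eq_card, hn]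
  have hdim : 8 ≤ finrank F (ι → F) := by
    rw [hfr, pow_add]
    have := Nat.one_le_two_pow (n := m)
    omega
  refine ⟨lt_of_le_of_ne inf_le_right fun e => ?_, fun M hNM hMK => ?_⟩
  · obtain ⟨g, hg, hgN⟩ := hproper
    exact hgN (nor_of_mem_normalizer (show g ∈ subgroupNormalizer R ⊓ K by rw [e]; exact hg).1)
  haveI hsn : (scalars ι F).Normal := ⟨fun z hz g => by
    obtain ⟨c, hc⟩ := (mem_scalars_iff z).1 hz
    refine (mem_scalars_iff _).2 ⟨c, ?_⟩
    rw [Units.val_mul, Units.val_mul, hc, mul_smul_comm, smul_mul_assoc, mul_one, Units.mul_inv]⟩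
  let Φ : GL ι F →* (Module.End F (ι → F))ˣ :=
    Units.map (Matrix.toLinAlgEquiv' (R := F) (n := ι)).toAlgHom.toRingHom.toMonoidHom
  set Γ := (M ⊔ scalars ι F).map Φ with hΓdef
  have inΓ : ∀ g ∈ M ⊔ scalars ι F, InG Γ (lin (g : Matrix ι ι F)) := fun g hg =>
    ⟨Φ g, Subgroup.mem_map_of_mem _ hg, rfl⟩
  have hscal : ∀ c : F, c ≠ 0 → InG Γ (c • 1) := fun c hc => by
    let s : GL ι F := Units.map (Matrix.scalar ι : F →+* Matrix ι ι F).toMonoidHom (Units.mk0 c hc)
    obtain ⟨d, hd⟩ := (mem_scalars_iff s).1 ⟨Units.mk0 c hc, rfl⟩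
    have hs : (s : Matrix ι ι F) = c • 1 := by
      show Matrix.scalar ι c = _
      rw [Matrix.scalar_apply, ← Matrix.smul_one_eq_diagonal]
    have := inΓ s (Subgroup.mem_sup_right ⟨Units.mk0 c hc, rfl⟩)
    rwa [lin, hs, map_smul, map_one] at this
  have hsim : ∀ g : Module.End F (ι → F), InG Γ g → ∃ μ : F, μ ≠ 0 ∧ ∀ u v, B (g u) (g v) = μ * B u v := by
    rintro _ ⟨u', hu', rfl⟩
    obtain ⟨g, hg, rfl⟩ := Subgroup.mem_map.1 hu'
    obtain ⟨a, ha, z, hz, rfl⟩ := Subgroup.mem_sup_of_normal_right.1 hg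
    obtain ⟨c, hc⟩ := (mem_scalars_iff z).1 hz
    refine ⟨(c : F) * c, mul_ne_zero c.ne_zero c.ne_zero, fun u v => ?_⟩
    show B (lin ((a * z : GL ι F) : Matrix ι ι F) u) (lin ((a * z : GL ι F) : Matrix ι ι F) v) = _
    simp only [lin, Units.val_mul, hc, mul_smul_comm, mul_one, map_smul, LinearMap.smul_apply, smul_eq_mul]
    rw [show B (Matrix.toLinAlgEquiv' (a : Matrix ι ι F) u)
        (Matrix.toLinAlgEquiv' (a : Matrix ι ι F) v) = B u v from hK a (hMK ha) u v]
    ring
  have hiso : ∀ r ∈ mapOf R, ∀ u v, B (r u) (r v) = B u v := by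
    rintro _ ⟨_, ⟨x, hx, rfl⟩, rfl⟩
    exact hR x hx
  have hG : ∀ x ∈ mapOf R, ∀ z ∈ mapOf R, x * x = -1 → z * z = -1 → Anti z x → InG Γ (gate x z) := by
    intro x hx z hz hxx hzz ha
    let u : (Module.End F (ι → F))ˣ :=
      ⟨gate x z, gateInv x z, gate_mul_inv h2 hxx hzz, gate_inv_mul h2 hxx hzz⟩
    let g : GL ι F := Units.map
      (Matrix.toLinAlgEquiv' (R := F) (n := ι)).symm.toAlgHom.toRingHom.toMonoidHom u
    have hgu : lin (g : Matrix ι ι F) = gate x z :=
      (Matrix.toLinAlgEquiv' (R := F) (n := ι)).apply_symm_apply (gate x z)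
    have hgN : g ∈ subgroupNormalizer R := mem_normalizer_of_nor (hgu ▸ h.nor_gate hx hxx hz hzz)
    have := inΓ g (Subgroup.mem_sup_left (hNM ⟨hgN, hgate x hx z hz hxx hzz ha g hgu⟩))
    rwa [hgu] at this
  have hΓ : RAmbient (mapOf R) Γ := rambient_of_sim h hN hiso hsim hscal hG
  rcases nor_or_bigAt h hΓ hdim (by rw [Nat.card_eq_fintype_card, hF]) hB hN hiso hsim hfr hsize with hnor | hbig
  · left
    exact le_antisymm (fun g hg => ⟨mem_normalizer_of_nor (hnor _ (inΓ g (Subgroup.mem_sup_left hg))), hMK hg⟩) hNM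
  · right
    refine le_antisymm hMK fun g hg => ?_
    obtain ⟨u, hu, hue⟩ := hgen Γ hΓ hsim hbig g hg
    obtain ⟨g', hg', rfl⟩ := Subgroup.mem_map.1 hu
    obtain rfl : g' = g := Units.ext (Matrix.toLinAlgEquiv'.injective hue)
    obtain ⟨a, ha, z, hz, rfl⟩ := Subgroup.mem_sup_of_normal_right.1 hg'
    have hzK : z ∈ K := by
      have := K.mul_mem (K.inv_mem (hMK ha)) hg
      rwa [inv_mul_cancel_left] at this
    obtain ⟨c, hc⟩ := (mem_scalars_iff z).1 hz
    have hlc : lin (z : Matrix ι ι F) = (c : F) • 1 := by rw [lin, hc, map_smul, map_one]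
    obtain ⟨v, hv⟩ := exists_ne (0 : ι → F)
    obtain ⟨u₀, hu₀⟩ : ∃ u, B u v ≠ 0 := by
      by_contra hcon
      push Not at hcon
      exact hv (hN v hcon)
    have hzR : z ∈ R := by
      have e := hK z hzK u₀ v
      simp only [hlc, LinearMap.smul_apply, Module.End.one_apply, map_smul, smul_eq_mul, ← mul_assoc] at e
      have hcc : (c : F) * c = 1 := (mul_eq_right₀ hu₀).1 e
      refine mem_of_mapOf ?_
      rcases mul_self_eq_one_iff.1 hcc with e' | e' <;> rw [hlc, e']
      · rw [one_smul]; exact h.one_mem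
      · rw [show (-1 : F) • (1 : Module.End F (ι → F)) = -1 from LinearMap.ext fun v => by simp]
        exact h.neg_one_mem
    exact M.mul_mem ha (hNM ⟨(Subgroup.le_normalizer (H := R)) hzR, hzK⟩)

end CfsgLib.Classical.PauliForm.Real
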