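import Cfsg.Agent.Lib.Classical.PauliMax.Tools
import Cfsg.Agent.Lib.Classical.PauliForm.Dihedral

/-!
# Extraspecial systems of maps

A set of maps closed under products, with squares `±1`, any two members commuting or anticommuting, spanning all
maps and with only `±1` as scalar members.  A member squaring to `-1` has the quarter turn `1 + x`; products of two
quarter turns are the gates.
-/

set_option autoImplicit false
set_option linter.unusedSectionVars false

namespace CfsgLib.Classical.PauliForm.Real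

open Module CfsgLib.Classical.PauliMax CfsgLib.Classical.PauliForm

variable {F : Type*} [Field F] {V : Type*} [AddCommGroup V] [Module F V] [FiniteDimensional F V]

local notation "E" => Module.End F V

/-- Anticommuting. -/
def Anti (x y : Module.End F V) : Prop := x * y = -(y * x)

theorem Anti.symm {x y : E} (h : Anti x y) : Anti y x := by rw [Anti, h, neg_neg]

theorem Anti.mul_comm_right {r x y : E} (hx : Anti r x) (hy : Commute r y) : Anti r (x * y) := by
  rw [Anti, ← mul_assoc, hx, neg_mul, mul_assoc, hy.eq, mul_assoc]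

theorem Anti.comm_mul_right {r x y : E} (hx : Commute r x) (hy : Anti r y) : Anti r (x * y) := by
  rw [Anti, ← mul_assoc, hx.eq, mul_assoc, hy, mul_neg, mul_assoc]

theorem Anti.mul_anti {r x y : E} (hx : Anti r x) (hy : Anti r y) : Commute r (x * y) := by
  rw [Commute, SemiconjBy, ← mul_assoc, hx, neg_mul, mul_assoc, hy, mul_neg, neg_neg, mul_assoc]

theorem Anti.neg_right {r x : E} (hx : Anti r x) : Anti r (-x) := by
  rw [Anti, mul_neg, hx, neg_mul]

theorem pm_iff {x y : E} : PM x y ↔ Commute x y ∨ Anti x y := Iff.rfl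

theorem anti_conj {x y g g' : E} (h : Anti x y) (h2 : g' * g = 1) : Anti (g * x * g') (g * y * g') := by
  rw [Anti, conj_mul h2, conj_mul h2, h, mul_neg, neg_mul]

theorem commute_conj' {x y g g' : E} (h : Commute x y) (h2 : g' * g = 1) :
    Commute (g * x * g') (g * y * g') := by
  rw [Commute, SemiconjBy, conj_mul h2, conj_mul h2, h.eq]

theorem smul_one_eq_iff [Nontrivial V] {c d : F} : c • (1 : E) = d • (1 : E) ↔ c = d := by
  refine ⟨fun e => ?_, fun e => by rw [e]⟩
  have : (c - d) • (1 : E) = 0 := by rw [sub_smul, e, sub_self]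
  exact sub_eq_zero.1 ((smul_eq_zero.1 this).resolve_right one_ne_zero)

/-- A product of two quarter turns, normalised. -/
def gate (x z : Module.End F V) : Module.End F V := (2 : F)⁻¹ • ((1 + x) * (1 + z))

/-- Its inverse. -/
def gateInv (x z : Module.End F V) : Module.End F V := (2 : F)⁻¹ • ((1 - z) * (1 - x))

theorem one_add_mul_one_sub {x : E} (hx : x * x = -1) : (1 + x) * (1 - x) = (2 : F) • 1 := by
  simp only [mul_sub, add_mul, mul_one, one_mul, hx, two_smul]; abel

theorem one_sub_mul_one_add {x : E} (hx : x * x = -1) : (1 - x) * (1 + x) = (2 : F) • 1 := by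
  simp only [mul_add, sub_mul, mul_one, one_mul, hx, two_smul]; abel

theorem gate_mul_inv (h2 : (2 : F) ≠ 0) {x z : E} (hx : x * x = -1) (hz : z * z = -1) :
    gate x z * gateInv x z = 1 := by
  rw [gate, gateInv, smul_mul_smul_comm,
    show (1 + x) * (1 + z) * ((1 - z) * (1 - x)) = (1 + x) * ((1 + z) * (1 - z)) * (1 - x) by simp only [mul_assoc],
    one_add_mul_one_sub hz, mul_smul_comm, mul_one, smul_mul_assoc, one_add_mul_one_sub hx, smul_smul, smul_smul,
    show (2 : F)⁻¹ * 2⁻¹ * 2 * 2 = 1 by field_simp, one_smul]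

theorem gate_inv_mul (h2 : (2 : F) ≠ 0) {x z : E} (hx : x * x = -1) (hz : z * z = -1) :
    gateInv x z * gate x z = 1 := by
  rw [gate, gateInv, smul_mul_smul_comm,
    show (1 - z) * (1 - x) * ((1 + x) * (1 + z)) = (1 - z) * ((1 - x) * (1 + x)) * (1 + z) by simp only [mul_assoc],
    one_sub_mul_one_add hx, mul_smul_comm, mul_one, smul_mul_assoc, one_sub_mul_one_add hz, smul_smul, smul_smul,
    show (2 : F)⁻¹ * 2⁻¹ * 2 * 2 = 1 by field_simp, one_smul]

theorem commute_gate {x z w : E} (hx : Commute w x) (hz : Commute w z) : Commute w (gate x z) :=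
  (((Commute.one_right w).add_right hx).mul_right ((Commute.one_right w).add_right hz)).smul_right _

theorem commute_gateInv {x z w : E} (hx : Commute w x) (hz : Commute w z) : Commute w (gateInv x z) :=
  (((Commute.one_right w).sub_right hz).mul_right ((Commute.one_right w).sub_right hx)).smul_right _

theorem gate_conj_comm (h2 : (2 : F) ≠ 0) {x z w : E} (hx : x * x = -1) (hz : z * z = -1) (hwx : Commute w x)
    (hwz : Commute w z) : gate x z * w * gateInv x z = w := by
  rw [← (commute_gate hwx hwz).eq, mul_assoc, gate_mul_inv h2 hx hz, mul_one]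

theorem one_add_conj {x y : E} (hx : x * x = -1) (hxy : Anti x y) :
    (1 + x) * y * (1 - x) = (2 : F) • (x * y) := by
  have e1 : y * (1 - x) = (1 + x) * y := by
    simp only [mul_sub, add_mul, mul_one, one_mul]
    rw [hxy, sub_eq_add_neg]
  rw [mul_assoc, e1, ← mul_assoc]
  have e2 : (1 + x) * (1 + x) = (2 : F) • x := by
    simp only [mul_add, add_mul, mul_one, one_mul, hx, two_smul]; abel
  rw [e2, smul_mul_assoc]

theorem one_add_conj_comm {x y : E} (hx : x * x = -1) (hxy : Commute x y) :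
    (1 + x) * y * (1 - x) = (2 : F) • y := by
  rw [mul_assoc, ((Commute.one_right y).sub_right hxy.symm).eq, ← mul_assoc, one_add_mul_one_sub hx,
    smul_mul_assoc, one_mul]

theorem gate_conj_eq {x z w u v : E} (h2 : (2 : F) ≠ 0) (h1 : (1 + z) * w * (1 - z) = (2 : F) • u)
    (h3 : (1 + x) * u * (1 - x) = (2 : F) • v) : gate x z * w * gateInv x z = v := by
  rw [gate, gateInv, smul_mul_assoc, smul_mul_smul_comm,
    show (1 + x) * (1 + z) * w * ((1 - z) * (1 - x)) = (1 + x) * ((1 + z) * w * (1 - z)) * (1 - x) by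
      simp only [mul_assoc],
    h1, mul_smul_comm, smul_mul_assoc, h3, smul_smul, smul_smul,
    show (2 : F)⁻¹ * 2⁻¹ * 2 * 2 = 1 by field_simp, one_smul]

/-- The gate carries its first turn to the second. -/
theorem gate_conj_left (h2 : (2 : F) ≠ 0) {x z : E} (hx : x * x = -1) (hz : z * z = -1) (ha : Anti z x) :
    gate x z * x * gateInv x z = z := by
  refine gate_conj_eq h2 (one_add_conj hz ha) ?_
  have hxzx : Anti x (z * x) := Anti.mul_comm_right ha.symm (Commute.refl x)
  rw [one_add_conj hx hxzx, ← mul_assoc, ha.symm, neg_mul, mul_assoc, hx, mul_neg, mul_one, neg_neg]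

/-- The gate carries its second turn to the product. -/
theorem gate_conj_right (h2 : (2 : F) ≠ 0) {x z : E} (hx : x * x = -1) (hz : z * z = -1) (ha : Anti z x) :
    gate x z * z * gateInv x z = x * z :=
  gate_conj_eq h2 (one_add_conj_comm hz (Commute.refl z)) (one_add_conj hx ha.symm)

/-- A gate is the product of two gates through a third turn. -/
theorem gate_mul_gate (h2 : (2 : F) ≠ 0) {x y w : E} (hw : w * w = -1) :
    gate x w * gate (-w) y = gate x y := by
  rw [gate, gate, gate, smul_mul_smul_comm,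
    show (1 + x) * (1 + w) * ((1 + -w) * (1 + y)) = (1 + x) * ((1 + w) * (1 - w)) * (1 + y) by
      simp only [mul_assoc, sub_eq_add_neg],
    one_add_mul_one_sub hw, mul_smul_comm, mul_one, smul_mul_assoc, smul_smul,
    show (2 : F)⁻¹ * 2⁻¹ * 2 = 2⁻¹ by field_simp]

/-- A turn is a product of two gates. -/
theorem gate_mul_gate_neg (h2 : (2 : F) ≠ 0) {x z : E} (hx : x * x = -1) (hz : z * z = -1) (ha : Anti z x) :
    gate x z * gate (-z) x = x := by
  have e2 : (1 + x) * (1 + x) = (2 : F) • x := by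
    simp only [mul_add, add_mul, mul_one, one_mul, hx, two_smul]; abel
  rw [gate_mul_gate h2 hz, gate, e2, inv_smul_smul₀ h2]

/-- The four members spanned by an anticommuting pair, up to sign. -/
def InTriple (x z f : Module.End F V) : Prop :=
  ∃ e : Module.End F V, (e = 1 ∨ e = x ∨ e = z ∨ e = x * z) ∧ (f = e ∨ f = -e)

theorem InTriple.neg {x z f : E} (h : InTriple x z f) : InTriple x z (-f) := by
  obtain ⟨e, he, rfl | rfl⟩ := h
  · exact ⟨_, he, .inr rfl⟩
  · exact ⟨_, he, .inl (neg_neg _)⟩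

theorem InTriple.commute {x z f u : E} (h : InTriple x z f) (hx : Commute u x) (hz : Commute u z) :
    Commute u f := by
  obtain ⟨e, he, hf⟩ := h
  have : Commute u e := by
    rcases he with rfl | rfl | rfl | rfl
    exacts [Commute.one_right u, hx, hz, hx.mul_right hz]
  rcases hf with rfl | rfl
  exacts [this, this.neg_right]

/-- An extraspecial system. -/
structure RPauli (R : Set (Module.End F V)) : Prop where
  two_ne : (2 : F) ≠ 0
  one_mem : (1 : Module.End F V) ∈ R
  neg_one_mem : (-1 : Module.End F V) ∈ R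
  mul_mem : ∀ x ∈ R, ∀ y ∈ R, x * y ∈ R
  sq : ∀ x ∈ R, x * x = 1 ∨ x * x = -1
  comm : ∀ x ∈ R, ∀ y ∈ R, PM x y
  full : Submodule.span F R = ⊤
  scalar_mem : ∀ x ∈ R, IsScalarMap x → x = 1 ∨ x = -1

namespace RPauli

variable {R : Set (Module.End F V)} (h : RPauli R)
include h

theorem neg_mem {x : E} (hx : x ∈ R) : -x ∈ R := by
  have := h.mul_mem _ h.neg_one_mem x hx
  rwa [neg_one_mul] at this

theorem sign_mem {x : E} (hx : x ∈ R) {c : F} (hc : c = 1 ∨ c = -1) : c • x ∈ R := by
  rcases hc with rfl | rfl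
  · rwa [one_smul]
  · rw [neg_smul, one_smul]; exact h.neg_mem hx

theorem cases {x y : E} (hx : x ∈ R) (hy : y ∈ R) : Commute x y ∨ Anti x y := pm_iff.1 (h.comm x hx y hy)

theorem sq_sign {x : E} (hx : x ∈ R) : ∃ s : F, (s = 1 ∨ s = -1) ∧ x * x = s • 1 := by
  rcases h.sq x hx with e | e
  · exact ⟨1, .inl rfl, by rw [e, one_smul]⟩
  · exact ⟨-1, .inr rfl, by rw [e, neg_smul, one_smul]⟩

theorem isUnit {x : E} (hx : x ∈ R) : IsUnit x := by
  rcases h.sq x hx with e | e
  · exact ⟨⟨x, x, e, e⟩, rfl⟩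
  · exact ⟨⟨x, -x, by rw [mul_neg, e, neg_neg], by rw [neg_mul, e, neg_neg]⟩, rfl⟩

variable [Nontrivial V]

theorem ne_zero {x : E} (hx : x ∈ R) : x ≠ 0 := (h.isUnit hx).ne_zero

theorem eq_zero_of_eq_neg {W : Type*} [AddCommGroup W] [Module F W] {x : W} (e : x = -x) : x = 0 := by
  have : (2 : F) • x = 0 := by rw [two_smul]; nth_rw 1 [e]; exact neg_add_cancel x
  exact (smul_eq_zero.1 this).resolve_left h.two_ne

theorem neg_one_ne : (-1 : E) ≠ 1 := fun e => one_ne_zero (h.eq_zero_of_eq_neg e.symm)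

theorem not_commute_anti {x y : E} (hx : IsUnit x) (hy : IsUnit y) (hc : Commute x y) : ¬ Anti x y := fun ha => by
  have h1 : y * x = -(y * x) := hc.eq.symm.trans ha
  exact (hy.mul hx).ne_zero (h.eq_zero_of_eq_neg h1)

theorem not_scalar_neg {x : E} (hx : x ∈ R) (hxx : x * x = -1) : ¬ IsScalarMap x := fun hs => by
  rcases h.scalar_mem x hx hs with rfl | rfl
  · rw [mul_one] at hxx; exact h.neg_one_ne hxx.symm
  · rw [neg_mul_neg, mul_one] at hxx; exact h.neg_one_ne hxx.symm

theorem not_scalar_anti {x y : E} (hx : x ∈ R) (hy : y ∈ R) (ha : Anti x y) : ¬ IsScalarMap x := by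
  rintro ⟨c, rfl⟩
  refine h.not_commute_anti (h.isUnit hx) (h.isUnit hy) ?_ ha
  exact (Commute.one_left y).smul_left c

/-- An element commuting with the whole system is a scalar. -/
theorem scalar_of_comm {x : E} (hc : ∀ y ∈ R, Commute x y) : IsScalarMap x := by
  have hall : ∀ f : E, f * x = x * f := by
    intro f
    have hle : Submodule.span F R ≤ LinearMap.ker (LinearMap.mulRight F x - LinearMap.mulLeft F x) :=
      Submodule.span_le.2 fun y hy => by simp [(hc y hy).eq]
    have := hle (h.full.symm ▸ Submodule.mem_top (x := f))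
    simpa [sub_eq_zero] using this
  have hx : x ∈ Subalgebra.center F E := Subalgebra.mem_center_iff.2 hall
  rw [Algebra.IsCentral.center_eq_bot F E] at hx
  obtain ⟨c, hc'⟩ := Algebra.mem_bot.1 hx
  exact ⟨c, by rw [← hc', Algebra.algebraMap_eq_smul_one]⟩

theorem exists_anti {x : E} (hx : x ∈ R) (hns : ¬ IsScalarMap x) : ∃ y ∈ R, Anti y x := by
  by_contra hcon
  push Not at hcon
  exact hns (h.scalar_of_comm fun y hy => ((h.cases hy hx).resolve_right (hcon y hy)).symm)

theorem trace_eq_zero {x : E} (hx : x ∈ R) (hns : ¬ IsScalarMap x) : LinearMap.trace F V x = 0 := by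
  obtain ⟨y, hy, ha⟩ := h.exists_anti hx hns
  obtain ⟨u, hu⟩ := h.isUnit hy
  have e : y * x * (↑u⁻¹ : E) = -x := by rw [ha, neg_mul, mul_assoc, ← hu, Units.mul_inv, mul_one]
  have h1 : LinearMap.trace F V (y * x * (↑u⁻¹ : E)) = LinearMap.trace F V x :=
    trace_conj (by rw [← hu, Units.inv_mul])
  rw [e, map_neg] at h1
  exact h.eq_zero_of_eq_neg h1.symm

/-- Two members with scalar quotient agree up to a sign. -/
theorem eq_or_neg {x y : E} (hx : x ∈ R) (hy : y ∈ R) (hs : IsScalarMap (x * y)) : y = x ∨ y = -x := by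
  rcases h.scalar_mem _ (h.mul_mem _ hx _ hy) hs with e | e <;> rcases h.sq x hx with hxx | hxx <;>
    have e' := congrArg (x * ·) e <;> simp only [← mul_assoc, hxx, mul_one, one_mul, mul_neg, neg_mul] at e'
  · exact .inl e'
  · exact .inr (neg_eq_iff_eq_neg.1 e')
  · exact .inr e'
  · exact .inl (neg_inj.1 e')

theorem eq_or_neg_of_smul {x y : E} (hx : x ∈ R) (hy : y ∈ R) {c : F} (e : y = c • x) : y = x ∨ y = -x := by
  refine h.eq_or_neg hx hy ?_
  obtain ⟨s, -, hxx⟩ := h.sq_sign hx
  exact ⟨c * s, by rw [e, mul_smul_comm, hxx, smul_smul]⟩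

/-- A multiple of a member that is a member is the member up to a sign. -/
theorem smul_sign {x y : E} (hx : x ∈ R) (hy : y ∈ R) {c : F} (e : y = c • x) : c = 1 ∨ c = -1 := by
  rcases h.eq_or_neg_of_smul hx hy e with e' | e' <;> rw [e'] at e
  · left
    have : (c - 1) • x = 0 := by rw [sub_smul, one_smul, ← e, sub_self]
    exact sub_eq_zero.1 ((smul_eq_zero.1 this).resolve_right (h.ne_zero hx))
  · right
    have : (c + 1) • x = 0 := by rw [add_smul, one_smul, ← e, neg_add_cancel]
    exact eq_neg_of_add_eq_zero_left ((smul_eq_zero.1 this).resolve_right (h.ne_zero hx))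

/-- A non-zero map commuting up to a sign with all members is a multiple of a member. -/
theorem exists_line {f : E} (hf : f ≠ 0) (hc : ∀ x ∈ R, PM f x) : ∃ r ∈ R, ∃ c : F, c ≠ 0 ∧ f = c • r := by
  obtain ⟨r, hr, hne⟩ : ∃ r ∈ R, LinearMap.trace F V (f * r) ≠ 0 := by
    by_contra hcon
    push Not at hcon
    refine hf (LinearMap.ext fun v => ?_)
    by_contra hv
    obtain ⟨φ, hφ⟩ : ∃ φ : V →ₗ[F] F, φ (f v) ≠ 0 := by
      by_contra hall
      push Not at hall
      exact hv ((Module.forall_dual_apply_eq_zero_iff F _).1 hall)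
    have hle : Submodule.span F R ≤ LinearMap.ker ((LinearMap.trace F V).comp (LinearMap.mulLeft F f)) :=
      Submodule.span_le.2 fun y hy => hcon y hy
    have := hle (h.full.symm ▸ Submodule.mem_top (x := φ.smulRight v))
    rw [LinearMap.mem_ker, LinearMap.comp_apply, LinearMap.mulLeft_apply] at this
    refine hφ ?_
    rw [← LinearMap.trace_smulRight φ (f v), show φ.smulRight (f v) = f * φ.smulRight v from
      LinearMap.ext fun w => by simp]
    exact this
  have hall : ∀ y ∈ R, Commute (f * r) y := by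
    intro y hy
    rcases pm_iff.1 ((hc y hy).mul_left (h.comm r hr y hy)) with e | e
    · exact e
    exfalso
    obtain ⟨u, hu⟩ := h.isUnit hy
    have e1 : (↑u⁻¹ : E) * (f * r) * y = -(f * r) := by
      rw [mul_assoc, e, mul_neg, ← mul_assoc, ← hu, Units.inv_mul, one_mul]
    have h1 : LinearMap.trace F V ((↑u⁻¹ : E) * (f * r) * y) = LinearMap.trace F V (f * r) :=
      trace_conj (by rw [← hu, Units.mul_inv])
    rw [e1, map_neg] at h1
    exact hne (h.eq_zero_of_eq_neg h1.symm)
  obtain ⟨c, hc'⟩ := h.scalar_of_comm hall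
  obtain ⟨s, hs, hrr⟩ := h.sq_sign hr
  have hfr : f = (c * s) • r := by
    have := congrArg (· * r) hc'
    simp only [mul_assoc, hrr, mul_smul_comm, mul_one, smul_mul_assoc, one_mul] at this
    rw [mul_comm c s, ← smul_smul, ← this, smul_smul, show s * s = 1 by rcases hs with rfl | rfl <;> ring, one_smul]
  exact ⟨r, hr, c * s, fun e => hf (by rw [hfr, e, zero_smul]), hfr⟩

theorem gate_pair_cases {x y : E} (hx : x ∈ R) (hy : y ∈ R) (ha : Anti y x) (r : E) (hr : r ∈ R) :
    ∃ e, (e = 1 ∨ e = x ∨ e = y ∨ e = x * y) ∧ Commute (r * e) x ∧ Commute (r * e) y := by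
  rcases h.cases hr hx with cx | cx <;> rcases h.cases hr hy with cy | cy
  · exact ⟨1, .inl rfl, by rwa [mul_one], by rwa [mul_one]⟩
  · exact ⟨x, .inr (.inl rfl), cx.mul_left (Commute.refl x), (Anti.mul_anti cy.symm ha).symm⟩
  · exact ⟨y, .inr (.inr (.inl rfl)), (Anti.mul_anti cx.symm ha.symm).symm, cy.mul_left (Commute.refl y)⟩
  · exact ⟨x * y, .inr (.inr (.inr rfl)),
      (Anti.mul_anti cx.symm (Anti.comm_mul_right (Commute.refl x) ha.symm)).symm,
      (Anti.mul_anti cy.symm (Anti.mul_comm_right ha (Commute.refl y))).symm⟩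

omit h in
theorem corr_mem (h : RPauli R) {x y e : E} (hx : x ∈ R) (hy : y ∈ R)
    (he : e = 1 ∨ e = x ∨ e = y ∨ e = x * y) : e ∈ R := by
  rcases he with rfl | rfl | rfl | rfl
  exacts [h.one_mem, hx, hy, h.mul_mem _ hx _ hy]

omit h in
theorem corr_comm {x y e u : E} (he : e = 1 ∨ e = x ∨ e = y ∨ e = x * y) (hux : Commute u x) (huy : Commute u y) :
    Commute u e := by
  rcases he with rfl | rfl | rfl | rfl
  exacts [Commute.one_right u, hux, huy, hux.mul_right huy]

/-- Members commuting with a hyperbolic pair contain a non-scalar one, above degree two. -/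
theorem exists_comm_pair (hdim : 3 ≤ finrank F V) {x y : E} (hx : x ∈ R) (hy : y ∈ R) (ha : Anti y x) :
    ∃ r ∈ R, Commute r x ∧ Commute r y ∧ ¬ IsScalarMap r := by
  classical
  by_contra hcon
  push Not at hcon
  have hle : Submodule.span F R ≤ Submodule.span F (({1, x, y, x * y} : Finset E) : Set E) := by
    refine Submodule.span_le.2 fun r hr => ?_
    obtain ⟨e, he, c1, c2⟩ := h.gate_pair_cases hx hy ha r hr
    have heR := corr_mem h hx hy he
    have hre : r = e ∨ r = -e := h.eq_or_neg heR hr (by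
      obtain ⟨c, hc⟩ := hcon _ (h.mul_mem _ hr _ heR) c1 c2
      rcases h.cases heR hr with e' | e'
      · exact ⟨c, by rw [e'.eq, hc]⟩
      · exact ⟨-c, by rw [e', hc, neg_smul]⟩)
    have hemem : e ∈ Submodule.span F (({1, x, y, x * y} : Finset E) : Set E) :=
      Submodule.subset_span (by simpa using he)
    rcases hre with rfl | rfl
    exacts [hemem, Submodule.neg_mem _ hemem]
  rw [h.full] at hle
  have h1 := Submodule.finrank_mono hle
  have h2 := (finrank_span_finset_le_card (R := F) ({1, x, y, x * y} : Finset E)).trans Finset.card_le_four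
  rw [finrank_top, Module.finrank_linearMap] at h1
  rw [Set.finrank] at h2
  nlinarith

/-- A hyperbolic pair commuting with a hyperbolic pair. -/
theorem exists_pair (hdim : 3 ≤ finrank F V) {x y : E} (hx : x ∈ R) (hy : y ∈ R) (ha : Anti y x) :
    ∃ e ∈ R, ∃ f ∈ R, Anti f e ∧ Commute e x ∧ Commute e y ∧ Commute f x ∧ Commute f y := by
  obtain ⟨r, hr, rx, ry, hrs⟩ := h.exists_comm_pair hdim hx hy ha
  obtain ⟨f, hf, hfr⟩ := h.exists_anti hr hrs
  obtain ⟨e, he, c1, c2⟩ := h.gate_pair_cases hx hy ha f hf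
  exact ⟨r, hr, f * e, h.mul_mem _ hf _ (corr_mem h hx hy he),
    (Anti.mul_comm_right hfr.symm (corr_comm he rx ry)).symm, rx, ry, c1, c2⟩

/-- A hyperbolic pair commuting with two orthogonal hyperbolic pairs. -/
theorem exists_pair_two (hdim : 5 ≤ finrank F V) {x y u v : E} (hx : x ∈ R) (hy : y ∈ R) (hu : u ∈ R) (hv : v ∈ R)
    (hxy : Anti y x) (huv : Anti v u) (hux : Commute u x) (huy : Commute u y) (hvx : Commute v x)
    (hvy : Commute v y) :
    ∃ e ∈ R, ∃ f ∈ R, Anti f e ∧ (Commute e x ∧ Commute e y ∧ Commute e u ∧ Commute e v) ∧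
      Commute f x ∧ Commute f y ∧ Commute f u ∧ Commute f v := by
  classical
  have corr : ∀ r ∈ R, ∃ e₁ e₂ : E, (e₁ = 1 ∨ e₁ = x ∨ e₁ = y ∨ e₁ = x * y) ∧
      (e₂ = 1 ∨ e₂ = u ∨ e₂ = v ∨ e₂ = u * v) ∧ Commute (r * e₁ * e₂) x ∧ Commute (r * e₁ * e₂) y ∧
      Commute (r * e₁ * e₂) u ∧ Commute (r * e₁ * e₂) v := by
    intro r hr
    obtain ⟨e₁, he₁, c1, c2⟩ := h.gate_pair_cases hx hy hxy r hr
    obtain ⟨e₂, he₂, c3, c4⟩ := h.gate_pair_cases hu hv huv _ (h.mul_mem _ hr _ (corr_mem h hx hy he₁))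
    exact ⟨e₁, e₂, he₁, he₂, c1.mul_left (corr_comm he₂ hux.symm hvx.symm).symm,
      c2.mul_left (corr_comm he₂ huy.symm hvy.symm).symm, c3, c4⟩
  obtain ⟨r, hr, rx, ry, ru, rv, hrs⟩ : ∃ r ∈ R, Commute r x ∧ Commute r y ∧ Commute r u ∧ Commute r v ∧
      ¬ IsScalarMap r := by
    by_contra hcon
    push Not at hcon
    set T : Finset E := (({1, x, y, x * y} : Finset E) ×ˢ ({1, u, v, u * v} : Finset E)).image
      (fun q => q.1 * q.2) with hT
    have hle : Submodule.span F R ≤ Submodule.span F (T : Set E) := by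
      refine Submodule.span_le.2 fun r hr => ?_
      obtain ⟨e₁, e₂, he₁, he₂, c1, c2, c3, c4⟩ := corr r hr
      have h1R := corr_mem h hx hy he₁
      have h2R := corr_mem h hu hv he₂
      have heR := h.mul_mem _ h1R _ h2R
      have hre : r = e₁ * e₂ ∨ r = -(e₁ * e₂) := h.eq_or_neg heR hr (by
        obtain ⟨c, hc⟩ := hcon _ (h.mul_mem _ (h.mul_mem _ hr _ h1R) _ h2R) c1 c2 c3 c4
        rcases h.cases heR hr with e' | e'
        · exact ⟨c, by rw [e'.eq, ← mul_assoc, hc]⟩
        · exact ⟨-c, by rw [e', ← mul_assoc, hc, neg_smul]⟩)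
      have hemem : e₁ * e₂ ∈ Submodule.span F (T : Set E) := by
        refine Submodule.subset_span ?_
        rw [Finset.mem_coe, hT, Finset.mem_image]
        exact ⟨(e₁, e₂), Finset.mem_product.2 ⟨by simpa using he₁, by simpa using he₂⟩, rfl⟩
      rcases hre with rfl | rfl
      exacts [hemem, Submodule.neg_mem _ hemem]
    rw [h.full] at hle
    have h1 := Submodule.finrank_mono hle
    have hcard : T.card ≤ 16 := by
      refine Finset.card_image_le.trans ?_
      rw [Finset.card_product]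
      exact Nat.mul_le_mul Finset.card_le_four Finset.card_le_four
    have h2 := (finrank_span_finset_le_card (R := F) T).trans hcard
    rw [finrank_top, Module.finrank_linearMap] at h1
    rw [Set.finrank] at h2
    nlinarith
  obtain ⟨f, hf, hfr⟩ := h.exists_anti hr hrs
  obtain ⟨e₁, e₂, he₁, he₂, c1, c2, c3, c4⟩ := corr f hf
  refine ⟨r, hr, f * e₁ * e₂, h.mul_mem _ (h.mul_mem _ hf _ (corr_mem h hx hy he₁)) _ (corr_mem h hu hv he₂),
    ?_, ⟨rx, ry, ru, rv⟩, c1, c2, c3, c4⟩
  exact (Anti.mul_comm_right (Anti.mul_comm_right hfr.symm (corr_comm he₁ rx ry)) (corr_comm he₂ ru rv)).symm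

/-- Of an anticommuting pair and its product one squares to `-1`. -/
theorem exists_neg_of_pair {e f : E} (he : e ∈ R) (hf : f ∈ R) (ha : Anti f e) :
    ∃ c ∈ R, c * c = -1 ∧ ∀ u, Commute u e → Commute u f → Commute u c := by
  rcases h.sq e he with h1 | h1
  swap
  · exact ⟨e, he, h1, fun u hu _ => hu⟩
  rcases h.sq f hf with h2 | h2
  swap
  · exact ⟨f, hf, h2, fun u _ hu => hu⟩
  refine ⟨e * f, h.mul_mem _ he _ hf, ?_, fun u hu hu' => hu.mul_right hu'⟩
  rw [mul_assoc, ← mul_assoc f e f, ha, neg_mul, mul_assoc e f f, h2, mul_one, mul_neg, h1]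

/-- A member squaring to `-1` anticommuting with a given one that does so. -/
theorem exists_neg_anti (hdim : 3 ≤ finrank F V) {x : E} (hx : x ∈ R) (hxx : x * x = -1) :
    ∃ z ∈ R, z * z = -1 ∧ Anti z x := by
  obtain ⟨y, hy, hyx⟩ := h.exists_anti hx (h.not_scalar_neg hx hxx)
  rcases h.sq y hy with e | e
  swap
  · exact ⟨y, hy, e, hyx⟩
  obtain ⟨p, hp, q, hq, hpq, px, py, qx, qy⟩ := h.exists_pair hdim hx hy hyx
  obtain ⟨c, hc, hcc, hcu⟩ := h.exists_neg_of_pair hp hq hpq
  have cx := hcu x px.symm qx.symm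
  have cy := hcu y py.symm qy.symm
  exact ⟨y * c, h.mul_mem _ hy _ hc, by rw [cy.symm.mul_mul_mul_comm, e, hcc, one_mul],
    (Anti.mul_comm_right hyx.symm cx).symm⟩

/-- A member squaring to one anticommuting with a given one squaring to `-1`. -/
theorem exists_pos_anti (hdim : 3 ≤ finrank F V) {x : E} (hx : x ∈ R) (hxx : x * x = -1) :
    ∃ a ∈ R, a * a = 1 ∧ Anti a x := by
  obtain ⟨y, hy, hyx⟩ := h.exists_anti hx (h.not_scalar_neg hx hxx)
  rcases h.sq y hy with e | e
  · exact ⟨y, hy, e, hyx⟩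
  obtain ⟨p, hp, q, hq, hpq, px, py, qx, qy⟩ := h.exists_pair hdim hx hy hyx
  obtain ⟨c, hc, hcc, hcu⟩ := h.exists_neg_of_pair hp hq hpq
  have cx := hcu x px.symm qx.symm
  have cy := hcu y py.symm qy.symm
  exact ⟨y * c, h.mul_mem _ hy _ hc, by rw [cy.symm.mul_mul_mul_comm, e, hcc, neg_mul_neg, one_mul],
    (Anti.mul_comm_right hyx.symm cx).symm⟩

/-- For two independent commuting members squaring to `-1`, another one anticommutes with both. -/
theorem exists_neg_anti_two (hdim : 5 ≤ finrank F V) {x y : E} (hx : x ∈ R) (hxx : x * x = -1) (hy : y ∈ R)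
    (hyy : y * y = -1) (hc : Commute x y) (hns : ¬ IsScalarMap (x * y)) :
    ∃ w ∈ R, w * w = -1 ∧ Anti w x ∧ Anti w y ∧
      ∃ s ∈ R, Commute s x ∧ Commute s w ∧ Anti s (x * y) := by
  obtain ⟨u, hu⟩ : ∃ u : E, u = x * y := ⟨_, rfl⟩
  have huR : u ∈ R := hu ▸ h.mul_mem _ hx _ hy
  have hux : Commute u x := hu ▸ (Commute.refl x).mul_left hc.symm
  obtain ⟨w, hw, hwx, hwu⟩ : ∃ w ∈ R, Anti w x ∧ Commute w u := by
    obtain ⟨y₂, hy₂, a₂⟩ := h.exists_anti hy (h.not_scalar_neg hy hyy)
    rcases h.cases hy₂ hx with c₂ | c₂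
    swap
    · exact ⟨y₂, hy₂, c₂, hu ▸ Anti.mul_anti c₂ a₂⟩
    have hy₂u : Anti y₂ u := hu ▸ Anti.comm_mul_right c₂ a₂
    obtain ⟨y₁, hy₁, a₁⟩ := h.exists_anti hx (h.not_scalar_neg hx hxx)
    rcases h.cases hy₁ huR with c₁ | c₁
    · exact ⟨y₁, hy₁, a₁, c₁⟩
    · exact ⟨y₁ * y₂, h.mul_mem _ hy₁ _ hy₂, (Anti.mul_comm_right a₁.symm c₂.symm).symm,
        (Anti.mul_anti c₁.symm hy₂u.symm).symm⟩
  obtain ⟨s, hs, hsu⟩ := h.exists_anti huR (hu ▸ hns)
  obtain ⟨e, he, sx, sw⟩ := h.gate_pair_cases hx hw hwx s hs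
  have hsu' : Anti (s * e) u := (Anti.mul_comm_right hsu.symm (corr_comm he hux hwu.symm)).symm
  have hsR : s * e ∈ R := h.mul_mem _ hs _ (corr_mem h hx hw he)
  have hxyu : y = -(x * u) := by rw [hu, ← mul_assoc, hxx, neg_one_mul, neg_neg]
  have hwy : Anti w y := by rw [hxyu]; exact (Anti.mul_comm_right hwx hwu).neg_right
  rcases h.sq w hw with hww | hww
  swap
  · exact ⟨w, hw, hww, hwx, hwy, s * e, hsR, sx, sw, hu ▸ hsu'⟩
  obtain ⟨p, hp, q, hq, hpq, ⟨px, pw, pu, ps⟩, qx, qw, qu, qs⟩ :=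
    h.exists_pair_two hdim hx hw huR hsR hwx hsu' hux hwu.symm sx sw
  obtain ⟨c, hcR, hcc, hcu⟩ := h.exists_neg_of_pair hp hq hpq
  have cx := hcu x px.symm qx.symm
  have cw := hcu w pw.symm qw.symm
  have cu := hcu u pu.symm qu.symm
  have cs := hcu (s * e) ps.symm qs.symm
  refine ⟨w * c, h.mul_mem _ hw _ hcR, by rw [cw.symm.mul_mul_mul_comm, hww, hcc, one_mul],
    (Anti.mul_comm_right hwx.symm cx).symm, ?_, s * e, hsR, sx, sw.mul_right cs, hu ▸ hsu'⟩
  rw [hxyu]
  exact (Anti.mul_comm_right (Anti.mul_comm_right hwx.symm cx).symm (hwu.mul_left cu.symm)).neg_right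

/-- A quarter turn normalises the system. -/
theorem nor_one_add {x : E} (hx : x ∈ R) (hxx : x * x = -1) : Nor R (1 + x) := by
  intro r hr
  rcases h.cases hr hx with e | e
  · exact ⟨r, hr, ((Commute.one_left r).add_left e.symm).eq⟩
  · refine ⟨x * r, h.mul_mem _ hx _ hr, ?_⟩
    rw [mul_add, mul_one, mul_assoc x r x, e, mul_neg, ← mul_assoc, hxx, neg_one_mul, neg_neg, add_mul, one_mul,
      add_comm]

theorem nor_gate {x z : E} (hx : x ∈ R) (hxx : x * x = -1) (hz : z ∈ R) (hzz : z * z = -1) : Nor R (gate x z) :=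
  ((h.nor_one_add hx hxx).mul (h.nor_one_add hz hzz)).smul _

theorem nor_gateInv {x z : E} (hx : x ∈ R) (hxx : x * x = -1) (hz : z ∈ R) (hzz : z * z = -1) :
    Nor R (gateInv x z) := by
  have e : gateInv x z = gate (-z) (-x) := by rw [gateInv, gate, sub_eq_add_neg, sub_eq_add_neg]
  rw [e]
  exact h.nor_gate (h.neg_mem hz) (by rwa [neg_mul_neg]) (h.neg_mem hx) (by rwa [neg_mul_neg])

theorem nor_mem {r : E} (hr : r ∈ R) : Nor R r := by
  intro x hx
  rcases h.cases hr hx with e | e
  · exact ⟨x, hx, e⟩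
  · exact ⟨-x, h.neg_mem hx, by rw [neg_mul]; exact e⟩

/-- The displacement of a member under a gate lies in the pair. -/
theorem gate_move {x z : E} (hx : x ∈ R) (hxx : x * x = -1) (hz : z ∈ R) (hzz : z * z = -1) (ha : Anti z x)
    {w : E} (hw : w ∈ R) : InTriple x z (w * (gate x z * w * gateInv x z)) := by
  obtain ⟨e, he, c1, c2⟩ := h.gate_pair_cases hx hz ha w hw
  obtain ⟨w₀, hw₀⟩ : ∃ w₀ : E, w₀ = w * e := ⟨_, rfl⟩
  rw [← hw₀] at c1 c2
  have heR := corr_mem h hx hz he
  obtain ⟨s, hs, hee⟩ := h.sq_sign heR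
  have hwe : w = s • (w₀ * e) := by
    rw [hw₀, mul_assoc, hee, mul_smul_comm, mul_one, smul_smul,
      show s * s = 1 by rcases hs with rfl | rfl <;> ring, one_smul]
  have hec : Commute w₀ e := corr_comm he c1 c2
  have hmul : gate x z * w * gateInv x z = s • (w₀ * (gate x z * e * gateInv x z)) := by
    rw [hwe, mul_smul_comm, smul_mul_assoc, ← mul_assoc (gate x z), ← (commute_gate c1 c2).eq]
    simp only [mul_assoc]
  have hsq : ∃ t : F, (t = 1 ∨ t = -1) ∧ w₀ * w₀ = t • 1 := h.sq_sign (hw₀ ▸ h.mul_mem _ hw _ heR)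
  obtain ⟨t, ht, hww⟩ := hsq
  have hprod : w * (gate x z * w * gateInv x z) = t • (e * (gate x z * e * gateInv x z)) := by
    rw [hmul, hwe, smul_mul_smul_comm, show s * s = 1 by rcases hs with rfl | rfl <;> ring, one_smul, hec.eq,
      mul_assoc, ← mul_assoc w₀ w₀, hww, smul_mul_assoc, one_mul, mul_smul_comm]
  rw [hprod]
  have hbase : InTriple x z (e * (gate x z * e * gateInv x z)) := by
    rcases he with rfl | rfl | rfl | rfl
    · rw [mul_one, gate_mul_inv h.two_ne hxx hzz, mul_one]; exact ⟨1, .inl rfl, .inl rfl⟩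
    · rw [gate_conj_left h.two_ne hxx hzz ha]; exact ⟨_, .inr (.inr (.inr rfl)), .inl rfl⟩
    · rw [gate_conj_right h.two_ne hxx hzz ha, ← mul_assoc, ha, neg_mul, mul_assoc, hzz, mul_neg, mul_one, neg_neg]
      exact ⟨_, .inr (.inl rfl), .inl rfl⟩
    · rw [show gate x z * (x * z) * gateInv x z = (gate x z * x * gateInv x z) * (gate x z * z * gateInv x z) from
          (conj_mul (gate_inv_mul h.two_ne hxx hzz)).symm,
        gate_conj_left h.two_ne hxx hzz ha, gate_conj_right h.two_ne hxx hzz ha,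
        show x * z * (z * (x * z)) = x * (z * z) * (x * z) by simp only [mul_assoc],
        hzz, mul_neg_one, neg_mul, ← mul_assoc, hxx, neg_one_mul, neg_neg]
      exact ⟨_, .inr (.inr (.inl rfl)), .inl rfl⟩
  rcases ht with rfl | rfl
  · rwa [one_smul]
  · rw [neg_smul, one_smul]; exact hbase.neg

/-- The members commuting with an involution of the system, compressed to its fixed space. -/
theorem res_pauli {a : E} (ha : a ∈ R) (haa : a * a = 1) (has : ¬ IsScalarMap a) :
    (∀ x ∈ R, Commute x a → ¬ IsScalarMap x → ¬ IsScalarMap (a * x) → ¬ IsScalarMap (res a x)) ∧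
      RPauli (resSet a R) := by
  have hmem : ∀ x ∈ R, x * a = a * x → res a x ∈ resSet a R := fun x hx hc => ⟨x, ⟨hx, hc⟩, rfl⟩
  have hns : ∀ x ∈ R, Commute x a → ¬ IsScalarMap x → ¬ IsScalarMap (a * x) → ¬ IsScalarMap (res a x) := by
    intro x hx hxa hxs haxs
    -- a member anticommuting with `x` and `a x`
    obtain ⟨y, hy, ya, yx⟩ : ∃ y ∈ R, Commute y a ∧ Anti y x := by
      obtain ⟨y₁, hy₁, a₁⟩ := h.exists_anti hx hxs
      rcases h.cases hy₁ ha with c₁ | c₁
      · exact ⟨y₁, hy₁, c₁, a₁⟩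
      obtain ⟨y₂, hy₂, a₂⟩ := h.exists_anti (h.mul_mem _ ha _ hx) haxs
      rcases h.cases hy₂ ha with c₂ | c₂
      · exact ⟨y₂, hy₂, c₂, (h.cases hy₂ hx).resolve_left fun e =>
          h.not_commute_anti (h.isUnit hy₂) (h.isUnit (h.mul_mem _ ha _ hx)) (c₂.mul_right e) a₂⟩
      · refine ⟨y₁ * y₂, h.mul_mem _ hy₁ _ hy₂, (Anti.mul_anti c₁.symm c₂.symm).symm, ?_⟩
        refine (Anti.mul_comm_right a₁.symm ((h.cases hy₂ hx).resolve_right fun e => ?_).symm).symm
        exact h.not_commute_anti (h.isUnit hy₂) (h.isUnit (h.mul_mem _ ha _ hx)) (Anti.mul_anti c₂ e) a₂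
    haveI : Nontrivial (plusSpace a) := by
      by_contra hnt
      rw [not_nontrivial_iff_subsingleton] at hnt
      have hP : proj a = 0 := LinearMap.ext fun v =>
        congrArg Subtype.val (Subsingleton.elim (⟨proj a v, v, rfl⟩ : plusSpace a) 0)
      rw [proj] at hP
      exact has ⟨-1, by
        rw [neg_smul, one_smul]
        exact eq_neg_of_add_eq_zero_right ((smul_eq_zero.1 hP).resolve_left (inv_ne_zero h.two_ne))⟩
    rintro ⟨c, hc⟩
    have h1 : res a (y * x) = res a (x * y) := by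
      rw [res_mul haa h.two_ne hxa.eq, res_mul haa h.two_ne ya.eq, hc]; simp
    rw [yx, map_neg] at h1
    have h0 := h.eq_zero_of_eq_neg h1.symm
    rw [res_mul haa h.two_ne ya.eq, hc, smul_mul_assoc, one_mul] at h0
    rcases smul_eq_zero.1 h0 with e | e
    · have := congrArg (fun f => f * f) hc
      simp only [← res_mul haa h.two_ne hxa.eq, e, zero_smul, zero_mul] at this
      rcases h.sq x hx with e' | e' <;> rw [e'] at this <;> simp [res_one haa h.two_ne] at this
    · have := congrArg (fun f => f * f) e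
      simp only [← res_mul haa h.two_ne ya.eq, zero_mul] at this
      rcases h.sq y hy with e' | e' <;> rw [e'] at this <;> simp [res_one haa h.two_ne] at this
  refine ⟨hns, h.two_ne, ⟨1, ⟨h.one_mem, by simp⟩, res_one haa h.two_ne⟩, ⟨-1, ⟨h.neg_one_mem, by simp⟩, ?_⟩,
    ?_, ?_, ?_, ?_, ?_⟩
  · rw [map_neg, res_one haa h.two_ne]
  · rintro _ ⟨x, ⟨hx, hxa⟩, rfl⟩ _ ⟨y, ⟨hy, hya⟩, rfl⟩
    exact ⟨x * y, ⟨h.mul_mem _ hx _ hy, (Commute.mul_left (show Commute x a from hxa) hya).eq⟩, res_mul haa h.two_ne hya⟩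
  · rintro _ ⟨x, ⟨hx, hxa⟩, rfl⟩
    rw [← res_mul haa h.two_ne hxa]
    rcases h.sq x hx with e | e <;> simp [e, res_one haa h.two_ne]
  · rintro _ ⟨x, ⟨hx, hxa⟩, rfl⟩ _ ⟨y, ⟨hy, hya⟩, rfl⟩
    rcases h.comm x hx y hy with e | e
    · exact .inl (by rw [← res_mul haa h.two_ne hya, e, res_mul haa h.two_ne hxa])
    · exact .inr (by rw [← res_mul haa h.two_ne hya, e, map_neg, res_mul haa h.two_ne hxa])
  · refine eq_top_iff.2 fun f _ => ?_
    let X : E := (plusSpace a).subtype ∘ₗ f ∘ₗ (proj a).rangeRestrict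
    have hX : res a X = f := by
      refine LinearMap.ext fun w => Subtype.ext ?_
      have h1 : (proj a).rangeRestrict (w : V) = w := Subtype.ext (apply_of_mem haa h.two_ne w)
      simp [res_apply, X, h1, apply_of_mem haa h.two_ne]
    have hle : (Submodule.span F R).map (res a) ≤ Submodule.span F (resSet a R) := by
      refine (Submodule.map_span_le _ _ _).2 fun x hx => ?_
      rcases h.cases hx ha with e | e
      · exact Submodule.subset_span (hmem x hx e.eq)
      · rw [res_eq_zero_of_anti haa h.two_ne e]; exact Submodule.zero_mem _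
    exact hle ⟨X, h.full.symm ▸ Submodule.mem_top, hX⟩
  · rintro _ ⟨x, ⟨hx, hxa⟩, rfl⟩ hs
    by_cases hxs : IsScalarMap x
    · rcases h.scalar_mem x hx hxs with rfl | rfl
      · exact .inl (res_one haa h.two_ne)
      · exact .inr (by rw [map_neg, res_one haa h.two_ne])
    by_cases haxs : IsScalarMap (a * x)
    · rcases h.eq_or_neg ha hx haxs with rfl | rfl
      · exact .inl (res_self haa h.two_ne)
      · exact .inr (by rw [map_neg, res_self haa h.two_ne])
    exact absurd hs (hns x hx hxa hxs haxs)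

end RPauli

end CfsgLib.Classical.PauliForm.Real
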