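import Cfsg.Agent.Lib.Classical.PauliForm.Real.Kernel

/-!
# Centralisers of involutions, given those of turns

If the group contains the gates and the centraliser of each turn normalises the system, so does every element
carrying a turn to a member, and every element commuting up to a sign with a member.
-/

set_option autoImplicit false
set_option linter.unusedSectionVars false

namespace CfsgLib.Classical.PauliForm.Real

open Module CfsgLib.Classical.PauliMax CfsgLib.Classical.PauliForm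

variable {F : Type*} [Field F] {V : Type*} [AddCommGroup V] [Module F V] [FiniteDimensional F V]

local notation "E" => Module.End F V

/-- The ring of maps of a subspace, found ahead of the piecewise instances. -/
@[reducible] noncomputable def subEndRing (q : Submodule F V) : Ring (Module.End F q) := Module.End.instRing

/-- The additive group of maps of a subspace, found ahead of the piecewise instances. -/
@[reducible] noncomputable def subEndGrp (q : Submodule F V) : AddCommGroup (Module.End F q) := LinearMap.addCommGroup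

attribute [local instance high] subEndRing subEndGrp

/-- The hypotheses on the group: scalars, gates, no fusion of members with multiples of members. -/
structure RAmbient (R : Set (Module.End F V)) (Γ : Subgroup (Module.End F V)ˣ) : Prop where
  scal : ∀ c : F, c ≠ 0 → InG Γ (c • 1)
  gate : ∀ x ∈ R, ∀ z ∈ R, x * x = -1 → z * z = -1 → Anti z x → InG Γ (Real.gate x z)
  fuse : Fuse R Γ
  fuse_res : ∀ a ∈ R, ∀ ha : a * a = 1, ¬ IsScalarMap a → ∀ h2 : (2 : F) ≠ 0,
    Fuse (resSet a R) (resGroup ha h2 Γ)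

/-- The centralisers of turns normalise the system. -/
def XGood (R : Set (Module.End F V)) (Γ : Subgroup (Module.End F V)ˣ) : Prop :=
  ∀ x ∈ R, x * x = -1 → ∀ g : Module.End F V, InG Γ g → g * x = x * g → Nor R g

/-- In degree eight no three independent commuting involutions; or the degree is larger. -/
def SizeCase (R : Set (Module.End F V)) : Prop :=
  16 ≤ finrank F V ∨ ∀ a ∈ R, ∀ s ∈ R, ∀ t ∈ R, a * a = 1 → s * s = 1 → t * t = 1 → Commute a s → Commute a t →
    Commute s t → ¬ IsScalarMap a → ¬ IsScalarMap s → ¬ IsScalarMap (a * s) →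
      IsScalarMap t ∨ IsScalarMap (a * t) ∨ IsScalarMap (s * t) ∨ IsScalarMap (a * (s * t))

section compression

variable {a : Module.End F V} (haa : a * a = 1) (h2 : (2 : F) ≠ 0)
include haa h2

theorem neg_sq : -a * -a = (1 : E) := by rw [neg_mul_neg, haa]

theorem comm_neg {f : E} (hf : f * a = a * f) : f * -a = -a * f := by rw [mul_neg, hf, neg_mul]

/-- A map commuting with an involution is determined by its two compressions. -/
theorem ext_res {f g : E} (hf : f * a = a * f) (hg : g * a = a * g) (h₁ : res a f = res a g)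
    (h₂ : res (-a) f = res (-a) g) : f = g := by
  have key : ∀ b : E, b * b = 1 → f * b = b * f → g * b = b * g → res b f = res b g → f * proj b = g * proj b := by
    intro b hb hfb hgb e
    rw [res_eq_iff hb h2, ← comm_proj hb h2 hfb, ← comm_proj hb h2 hgb, mul_assoc, mul_assoc,
      proj_mul_self hb h2] at e
    exact e
  calc f = f * (proj a + proj (-a)) := by rw [proj_add_neg haa h2, mul_one]
    _ = g * (proj a + proj (-a)) := by
      rw [mul_add, mul_add, key a haa hf hg h₁, key (-a) (neg_sq haa h2) (comm_neg haa h2 hf) (comm_neg haa h2 hg) h₂]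
    _ = g := by rw [proj_add_neg haa h2, mul_one]

theorem res_neg_self : res (-a) a = -1 := by
  have e : res (-a) (-a) = 1 := res_self (neg_sq haa h2) h2
  rw [map_neg, neg_eq_iff_eq_neg] at e
  exact e

theorem res_gate {x z : E} (hz : z * a = a * z) : res a (gate x z) = gate (res a x) (res a z) := by
  rw [gate, gate, map_smul, res_mul haa h2 (((Commute.one_left a).add_left hz).eq), map_add, map_add,
    res_one haa h2]

theorem res_gateInv {x z : E} (hx : x * a = a * x) : res a (gateInv x z) = gateInv (res a x) (res a z) := by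
  rw [gateInv, gateInv, map_smul, res_mul haa h2 (((Commute.one_left a).sub_left hx).eq), map_sub, map_sub,
    res_one haa h2]

theorem res_conj {g g' f : E} (hf : f * a = a * f) (hg' : g' * a = a * g') :
    res a (g * f * g') = res a g * res a f * res a g' := by
  rw [res_mul haa h2 hg', res_mul haa h2 hf]

theorem res_inv {g g' : E} (h1 : g * g' = 1) (hg' : g' * a = a * g') : res a g * res a g' = 1 := by
  rw [← res_mul haa h2 hg', h1, res_one haa h2]

theorem gate_comm {x z : E} (hx : x * a = a * x) (hz : z * a = a * z) : gate x z * a = a * gate x z :=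
  (commute_gate (x := x) (z := z) (w := a) hx.symm hz.symm).symm.eq

theorem gateInv_comm {x z : E} (hx : x * a = a * x) (hz : z * a = a * z) : gateInv x z * a = a * gateInv x z :=
  (commute_gateInv (x := x) (z := z) (w := a) hx.symm hz.symm).symm.eq

/-- The elements acting as scalars on the moved space, compressed to the fixed space. -/
def kerGroup (Γ : Subgroup (Module.End F V)ˣ) : Subgroup (Module.End F (plusSpace a))ˣ where
  carrier := {u | ∃ g g' : E, InG Γ g ∧ InG Γ g' ∧ g * g' = 1 ∧ g' * g = 1 ∧ g * a = a * g ∧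
    (u : Module.End F (plusSpace a)) = res a g ∧ ((u⁻¹ : (Module.End F (plusSpace a))ˣ) : Module.End F (plusSpace a)) = res a g' ∧
    ∃ c c' : F, res (-a) g = c • 1 ∧ res (-a) g' = c' • 1}
  one_mem' := ⟨1, 1, ⟨1, Γ.one_mem, rfl⟩, ⟨1, Γ.one_mem, rfl⟩, one_mul 1, one_mul 1, by rw [one_mul, mul_one],
    by rw [res_one haa h2]; rfl, by rw [inv_one, res_one haa h2]; rfl,
    1, 1, by rw [res_one (neg_sq haa h2) h2, one_smul], by rw [res_one (neg_sq haa h2) h2, one_smul]⟩
  mul_mem' := by
    rintro u v ⟨g, g', hg, hg', g1, g2, ga, hu, hu', c, c', hc, hc'⟩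
      ⟨k, k', hk, hk', k1, k2, ka, hv, hv', d, d', hd, hd'⟩
    have ga' := comm_inv g1 g2 ga
    have ka' := comm_inv k1 k2 ka
    refine ⟨g * k, k' * g', hg.mul hk, hk'.mul hg', comp_inv g1 k1, comp_inv k2 g2,
      (Commute.mul_left ga ka).eq, by rw [Units.val_mul, hu, hv, res_mul haa h2 ka],
      by rw [_root_.mul_inv_rev, Units.val_mul, hu', hv', res_mul haa h2 ga'], c * d, d' * c', ?_, ?_⟩
    · rw [res_mul (neg_sq haa h2) h2 (comm_neg haa h2 ka), hc, hd, smul_mul_smul_comm, one_mul]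
    · rw [res_mul (neg_sq haa h2) h2 (comm_neg haa h2 ga'), hc', hd', smul_mul_smul_comm, one_mul]
  inv_mem' := by
    rintro u ⟨g, g', hg, hg', g1, g2, ga, hu, hu', c, c', hc, hc'⟩
    exact ⟨g', g, hg', hg, g2, g1, comm_inv g1 g2 ga, hu', by rw [inv_inv, hu], c', c, hc', hc⟩

theorem inG_kerGroup {Γ : Subgroup Eˣ} {f : Module.End F (plusSpace a)} (hf : InG (kerGroup haa h2 Γ) f) :
    ∃ g g' : E, InG Γ g ∧ g * g' = 1 ∧ g' * g = 1 ∧ g * a = a * g ∧ f = res a g ∧ ∃ c : F, res (-a) g = c • 1 := by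
  obtain ⟨u, ⟨g, g', hg, -, g1, g2, ga, hu, -, c, -, hc, -⟩, rfl⟩ := hf
  exact ⟨g, g', hg, g1, g2, ga, hu, c, hc⟩

theorem mem_kerGroup {Γ : Subgroup Eˣ} {g g' : E} (hg : InG Γ g) (g1 : g * g' = 1) (g2 : g' * g = 1)
    (ga : g * a = a * g) {c : F} (hc : res (-a) g = c • 1) : InG (kerGroup haa h2 Γ) (res a g) := by
  have ga' := comm_inv g1 g2 ga
  have e : c • res (-a) g' = 1 := by
    have := res_inv (neg_sq haa h2) h2 g1 (comm_neg haa h2 ga')
    rwa [hc, smul_mul_assoc, one_mul] at this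
  refine ⟨⟨res a g, res a g', res_inv haa h2 g1 ga', res_inv haa h2 g2 ga⟩,
    ⟨g, g', hg, hg.inv g1, g1, g2, ga, rfl, rfl, c, c⁻¹, hc, ?_⟩, rfl⟩
  by_cases hc0 : c = 0
  · rw [hc0, zero_smul] at e
    rw [hc0, inv_zero, zero_smul, ← mul_one (res (-a) g'), ← e, mul_zero]
  · rw [← e, inv_smul_smul₀ hc0]

theorem kerGroup_le {Γ : Subgroup Eˣ} {f : Module.End F (plusSpace a)} (hf : InG (kerGroup haa h2 Γ) f) :
    InG (resGroup haa h2 Γ) f := by
  obtain ⟨u, ⟨g, g', ⟨k, hk, rfl⟩, -, -, -, ga, hu, -⟩, rfl⟩ := hf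
  exact ⟨u, ⟨k, hk, ga, hu.symm⟩, rfl⟩

theorem inG_resGroup {Γ : Subgroup Eˣ} {g g' : E} (hg : InG Γ g) (g1 : g * g' = 1) (g2 : g' * g = 1)
    (ga : g * a = a * g) : InG (resGroup haa h2 Γ) (res a g) := by
  obtain ⟨k, hk, rfl⟩ := hg
  exact ⟨⟨res a (k : E), res a g', res_inv haa h2 g1 (comm_inv g1 g2 ga), res_inv haa h2 g2 ga⟩,
    ⟨k, hk, ga, rfl⟩, rfl⟩

end compression

section

variable {R : Set (Module.End F V)} (h : RPauli R) [Nontrivial V]
include h

theorem nontrivial_plus {a : E} (haa : a * a = 1) (has : ¬ IsScalarMap a) : Nontrivial (plusSpace a) := by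
  by_contra hnt
  rw [not_nontrivial_iff_subsingleton] at hnt
  have hP : proj a = 0 := LinearMap.ext fun v =>
    congrArg Subtype.val (Subsingleton.elim (⟨proj a v, v, rfl⟩ : plusSpace a) 0)
  rw [proj] at hP
  refine has ⟨-1, ?_⟩
  rw [neg_smul, one_smul]
  exact eq_neg_of_add_eq_zero_right ((smul_eq_zero.1 hP).resolve_left (inv_ne_zero h.two_ne))

theorem not_scalar_neg_self {a : E} (has : ¬ IsScalarMap a) : ¬ IsScalarMap (-a) := fun hc => has (by
  have := hc.smul (-1)
  rwa [neg_one_smul, neg_neg] at this)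

/-- A member compressing to a turn is a turn. -/
theorem sq_of_res {a x : E} (haa : a * a = 1) (has : ¬ IsScalarMap a) (hx : x ∈ R) (hxa : x * a = a * x)
    (e : res a x * res a x = -1) : x * x = -1 := by
  haveI := nontrivial_plus h haa has
  refine (h.sq x hx).resolve_left fun e' => ?_
  rw [← res_mul haa h.two_ne hxa, e', res_one haa h.two_ne] at e
  have h1 : (2 : F) • (1 : Module.End F (plusSpace a)) = 0 := by
    rw [two_smul]
    nth_rw 1 [e]
    exact neg_add_cancel 1
  exact one_ne_zero ((smul_eq_zero.1 h1).resolve_left h.two_ne)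

theorem res_isUnit {a x : E} (haa : a * a = 1) (hx : x ∈ R) (hxa : x * a = a * x) : IsUnit (res a x) := by
  obtain ⟨s, hs, e⟩ := h.sq_sign hx
  have e' : res a x * res a x = s • 1 := by rw [← res_mul haa h.two_ne hxa, e, res_smul_one haa h.two_ne]
  have hss : s * s = 1 := by rcases hs with rfl | rfl <;> ring
  exact ⟨⟨res a x, s • res a x, by rw [mul_smul_comm, e', smul_smul, hss, one_smul],
    by rw [smul_mul_assoc, e', smul_smul, hss, one_smul]⟩, rfl⟩

/-- Commutation is seen on a compression. -/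
theorem commute_of_res {a x y : E} (ha : a ∈ R) (haa : a * a = 1) (has : ¬ IsScalarMap a) (hx : x ∈ R)
    (hy : y ∈ R) (hxa : x * a = a * x) (hya : y * a = a * y) (hc : Commute (res a x) (res a y)) : Commute x y := by
  refine (h.cases hx hy).resolve_right fun e => ?_
  haveI := nontrivial_plus h haa has
  refine (h.res_pauli ha haa has).2.not_commute_anti (res_isUnit h haa hx hxa) (res_isUnit h haa hy hya) hc ?_
  rw [Anti, ← res_mul haa h.two_ne hxa, ← res_mul haa h.two_ne hya, e, map_neg]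

theorem anti_of_res {a x y : E} (ha : a ∈ R) (haa : a * a = 1) (has : ¬ IsScalarMap a) (hx : x ∈ R)
    (hy : y ∈ R) (hxa : x * a = a * x) (hya : y * a = a * y) (hc : Anti (res a x) (res a y)) : Anti x y := by
  refine (h.cases hx hy).resolve_left fun e => ?_
  haveI := nontrivial_plus h haa has
  refine (h.res_pauli ha haa has).2.not_commute_anti (res_isUnit h haa hx hxa) (res_isUnit h haa hy hya) ?_ hc
  rw [Commute, SemiconjBy, ← res_mul haa h.two_ne hxa, ← res_mul haa h.two_ne hya, e.eq]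

/-- Turns on a compression come with a commuting involution other than a scalar. -/
theorem exists_pos_comm [Finite F] (hdim : 8 ≤ finrank F V) (hsize : SizeCase R) {a x z : E} (ha : a ∈ R)
    (haa : a * a = 1) (has : ¬ IsScalarMap a) (hfin : 2 * finrank F (plusSpace a) = finrank F V)
    (hx : x ∈ R) (hz : z ∈ R) (hxa : x * a = a * x) (hza : z * a = a * z) (hxx : x * x = -1) (hzz : z * z = -1)
    (hzx : Anti z x) :
    ∃ c ∈ R, c * c = 1 ∧ c * a = a * c ∧ Commute c x ∧ Commute c z ∧ ¬ IsScalarMap (res a c) := by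
  obtain ⟨hns, hW⟩ := h.res_pauli ha haa has
  haveI := nontrivial_plus h haa has
  have h2 := h.two_ne
  have hX : res a x * res a x = -1 := by rw [← res_mul haa h2 hxa, hxx, map_neg, res_one haa h2]
  have hXm : res a x ∈ resSet a R := ⟨x, ⟨hx, hxa⟩, rfl⟩
  have hZm : res a z ∈ resSet a R := ⟨z, ⟨hz, hza⟩, rfl⟩
  have hA : Anti (res a z) (res a x) := by rw [Anti, ← res_mul haa h2 hxa, ← res_mul haa h2 hza, hzx, map_neg]
  have hZ : res a z * res a z = -1 := by rw [← res_mul haa h2 hza, hzz, map_neg, res_one haa h2]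
  -- lifting back
  have lift' : ∀ C ∈ resSet a R, C * C = 1 → ¬ IsScalarMap C → Commute C (res a x) → Commute C (res a z) →
      ∃ c ∈ R, c * c = 1 ∧ c * a = a * c ∧ Commute c x ∧ Commute c z ∧ ¬ IsScalarMap (res a c) := by
    rintro _ ⟨c, ⟨hc, hca⟩, rfl⟩ hC hCs cx cz
    refine ⟨c, hc, (h.sq c hc).resolve_right fun e => ?_, hca, commute_of_res h ha haa has hc hx hca hxa cx,
      commute_of_res h ha haa has hc hz hca hza cz, hCs⟩
    rw [← res_mul haa h2 hca, e, map_neg, res_one haa h2] at hC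
    exact hW.neg_one_ne hC
  rcases hsize with hbig | hminus
  · obtain ⟨p, hp, q, hq, hpq, px, pz, qx, qz⟩ := hW.exists_pair (by omega) hXm hZm hA
    obtain ⟨e, he, f, hf, hef, ⟨ex, ez, ep, eq⟩, fx, fz, fp, fq⟩ :=
      hW.exists_pair_two (by omega) hXm hZm hp hq hA hpq px pz qx qz
    rcases hW.sq e he with e1 | e1
    · exact lift' e he e1 (hW.not_scalar_anti he hf hef.symm) ex ez
    rcases hW.sq p hp with p1 | p1
    · exact lift' p hp p1 (hW.not_scalar_anti hp hq hpq.symm) px pz
    refine lift' (p * e) (hW.mul_mem _ hp _ he) ?_ ?_ (px.mul_left ex) (pz.mul_left ez)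
    · rw [ep.mul_mul_mul_comm, p1, e1, neg_mul_neg, one_mul]
    · refine hW.not_scalar_anti (hW.mul_mem _ hp _ he) hq (?_ : Anti (p * e) q)
      exact (Anti.mul_comm_right hpq eq.symm).symm
  · obtain ⟨p, hp, q, hq, hpq, px, pz, qx, qz⟩ := hW.exists_pair (by omega) hXm hZm hA
    rcases hW.sq p hp with p1 | p1
    · exact lift' p hp p1 (hW.not_scalar_anti hp hq hpq.symm) px pz
    rcases hW.sq q hq with q1 | q1
    · exact lift' q hq q1 (hW.not_scalar_anti hq hp hpq) qx qz
    exfalso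
    obtain ⟨p₀, ⟨hp₀, hp₀a⟩, rfl⟩ := hp
    obtain ⟨q₀, ⟨hq₀, hq₀a⟩, rfl⟩ := hq
    have cpx := commute_of_res h ha haa has hp₀ hx hp₀a hxa px
    have cpz := commute_of_res h ha haa has hp₀ hz hp₀a hza pz
    have cqx := commute_of_res h ha haa has hq₀ hx hq₀a hxa qx
    have cqz := commute_of_res h ha haa has hq₀ hz hq₀a hza qz
    have apq := anti_of_res h ha haa has hq₀ hp₀ hq₀a hp₀a hpq
    have pp := sq_of_res h haa has hp₀ hp₀a p1
    have qq := sq_of_res h haa has hq₀ hq₀a q1
    -- two commuting involutions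
    obtain ⟨s, hs⟩ : ∃ s : E, s = x * p₀ := ⟨_, rfl⟩
    obtain ⟨t, ht⟩ : ∃ t : E, t = z * q₀ := ⟨_, rfl⟩
    have hsR : s ∈ R := hs ▸ h.mul_mem _ hx _ hp₀
    have htR : t ∈ R := ht ▸ h.mul_mem _ hz _ hq₀
    have hss : s * s = 1 := by rw [hs, cpx.mul_mul_mul_comm, hxx, pp, neg_mul_neg, one_mul]
    have htt : t * t = 1 := by rw [ht, cqz.mul_mul_mul_comm, hzz, qq, neg_mul_neg, one_mul]
    have sz : Anti s z := hs ▸ (Anti.mul_comm_right hzx cpz.symm).symm
    have sx : Commute s x := hs ▸ (Commute.refl x).mul_left cpx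
    have tx : Anti t x := ht ▸ (Anti.mul_comm_right hzx.symm cqx.symm).symm
    have tz : Commute t z := ht ▸ (Commute.refl z).mul_left cqz
    have hsa : Commute a s := hs ▸ (Commute.mul_right hxa.symm hp₀a.symm)
    have hta : Commute a t := ht ▸ (Commute.mul_right hza.symm hq₀a.symm)
    have hst : Commute s t := by
      rw [ht]
      refine Anti.mul_anti sz ?_
      rw [hs]
      exact (Anti.comm_mul_right cqx apq).symm
    have cxa : Commute x a := hxa
    have cza : Commute z a := hza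
    rcases hminus a ha s hsR t htR haa hss htt hsa hta hst has (h.not_scalar_anti hsR hz sz)
        (h.not_scalar_anti (h.mul_mem _ ha _ hsR) hz ((Anti.comm_mul_right cza sz.symm).symm)) with hd | hd | hd | hd
    · exact h.not_scalar_anti htR hx tx hd
    · exact h.not_scalar_anti (h.mul_mem _ ha _ htR) hx ((Anti.comm_mul_right cxa tx.symm).symm) hd
    · exact h.not_scalar_anti (h.mul_mem _ hsR _ htR) hz ((Anti.mul_comm_right sz.symm tz.symm).symm) hd
    · exact h.not_scalar_anti (h.mul_mem _ ha _ (h.mul_mem _ hsR _ htR)) hz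
        ((Anti.comm_mul_right cza (Anti.mul_comm_right sz.symm tz.symm)).symm) hd

variable {Γ : Subgroup (Module.End F V)ˣ} (hΓ : RAmbient R Γ) (hdim : 8 ≤ finrank F V)
include hΓ hdim

theorem inG_turn {x : E} (hx : x ∈ R) (hxx : x * x = -1) : InG Γ x := by
  obtain ⟨z, hz, hzz, hzx⟩ := h.exists_neg_anti (by omega) hx hxx
  have := (hΓ.gate x hx z hz hxx hzz hzx).mul
    (hΓ.gate (-z) (h.neg_mem hz) x hx (by rwa [neg_mul_neg]) hxx hzx.symm.neg_right)
  rwa [gate_mul_gate_neg h.two_ne hxx hzz hzx] at this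

theorem inG_mem {r : E} (hr : r ∈ R) : InG Γ r := by
  by_cases hrs : IsScalarMap r
  · rcases h.scalar_mem r hr hrs with rfl | rfl
    · simpa using hΓ.scal 1 one_ne_zero
    · simpa using hΓ.scal (-1) (neg_ne_zero.2 one_ne_zero)
  rcases h.sq r hr with e | e
  swap
  · exact inG_turn h hΓ hdim hr e
  obtain ⟨y, hy, hyr⟩ := h.exists_anti hr hrs
  obtain ⟨p, hp, q, hq, hpq, pr, -, qr, -⟩ := h.exists_pair (by omega) hr hy hyr
  obtain ⟨c, hc, hcc, hcu⟩ := h.exists_neg_of_pair hp hq hpq
  have cr := hcu r pr.symm qr.symm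
  have h1 := (inG_turn h hΓ hdim (h.mul_mem _ hr _ hc) (by
    rw [cr.symm.mul_mul_mul_comm, e, hcc, one_mul])).mul
    (inG_turn h hΓ hdim (h.neg_mem hc) (by rwa [neg_mul_neg]))
  rwa [mul_assoc, mul_neg, hcc, neg_neg, mul_one] at h1

/-- The product of two commuting quarter turns. -/
theorem inG_cgate {x y : E} (hx : x ∈ R) (hxx : x * x = -1) (hy : y ∈ R) (hyy : y * y = -1) (hc : Commute x y)
    (hns : ¬ IsScalarMap (x * y)) : InG Γ (gate x y) := by
  obtain ⟨w, hw, hww, hwx, hwy, -⟩ := h.exists_neg_anti_two (by omega) hx hxx hy hyy hc hns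
  have := (hΓ.gate x hx w hw hxx hww hwx).mul
    (hΓ.gate (-w) (h.neg_mem hw) y hy (by rwa [neg_mul_neg]) hyy hwy.symm.neg_right)
  rwa [gate_mul_gate h.two_ne hww] at this

/-- The turns are permuted transitively by the normaliser inside the group. -/
theorem exists_carrier {x r : E} (hx : x ∈ R) (hxx : x * x = -1) (hr : r ∈ R) (hrr : r * r = -1) :
    ∃ n n' : E, InG Γ n ∧ n * n' = 1 ∧ n' * n = 1 ∧ Nor R n ∧ n * x * n' = r := by
  have h2 := h.two_ne
  rcases h.cases hr hx with c | c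
  swap
  · exact ⟨gate x r, gateInv x r, hΓ.gate x hx r hr hxx hrr c, gate_mul_inv h2 hxx hrr, gate_inv_mul h2 hxx hrr,
      h.nor_gate hx hxx hr hrr, gate_conj_left h2 hxx hrr c⟩
  by_cases hns : IsScalarMap (x * r)
  · rcases h.eq_or_neg hx hr hns with rfl | rfl
    · exact ⟨1, 1, by simpa using hΓ.scal 1 one_ne_zero, one_mul 1, one_mul 1, nor_one, by rw [one_mul, mul_one]⟩
    obtain ⟨z, hz, hzz, hzx⟩ := h.exists_neg_anti (by omega) hx hxx
    refine ⟨z, -z, inG_turn h hΓ hdim hz hzz, by rw [mul_neg, hzz, neg_neg], by rw [neg_mul, hzz, neg_neg],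
      h.nor_mem hz, ?_⟩
    rw [hzx, mul_neg, neg_mul, neg_neg, mul_assoc, hzz, mul_neg_one]
  obtain ⟨w, hw, hww, hwx, hwr, -⟩ := h.exists_neg_anti_two (by omega) hx hxx hr hrr c.symm hns
  refine ⟨gate w r * gate x w, gateInv x w * gateInv w r,
    (hΓ.gate w hw r hr hww hrr hwr.symm).mul (hΓ.gate x hx w hw hxx hww hwx), comp_inv (gate_mul_inv h2 hww hrr)
      (gate_mul_inv h2 hxx hww), comp_inv (gate_inv_mul h2 hxx hww) (gate_inv_mul h2 hww hrr),
    (h.nor_gate hw hww hr hrr).mul (h.nor_gate hx hxx hw hww), ?_⟩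
  rw [← conj_comp, gate_conj_left h2 hxx hww hwx, gate_conj_left h2 hww hrr hwr.symm]

variable (hX : XGood R Γ)
include hX

/-- An element carrying a turn to a member normalises the system. -/
theorem nor_of_conj_turn {g g' x : E} (hg : InG Γ g) (h1 : g * g' = 1) (h2 : g' * g = 1) (hx : x ∈ R)
    (hxx : x * x = -1) (hm : g * x * g' ∈ R) : Nor R g := by
  obtain ⟨n, n', hn, n1, n2, hnN, he⟩ := exists_carrier h hΓ hdim hx hxx hm
    (by rw [conj_mul h2, hxx, mul_neg, mul_one, neg_mul, h1])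
  have hk := hX x hx hxx (n' * g) ((hn.inv n1).mul hg) (by
    calc n' * g * x = n' * (g * x * g') * g := by simp only [mul_assoc]; rw [h2, mul_one]
      _ = n' * (n * x * n') * g := by rw [he]
      _ = (n' * n) * x * (n' * g) := by simp only [mul_assoc]
      _ = x * (n' * g) := by rw [n2, one_mul])
  have := hnN.mul hk
  rwa [← mul_assoc, n1, one_mul] at this

theorem nor_of_pm_turn {f m : E} (hf : InG Γ f) (hm : m ∈ R) (hmm : m * m = -1) (hp : PM f m) : Nor R f := by
  rcases hp with e | e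
  · exact hX m hm hmm f hf e
  obtain ⟨z, hz, hzz, hzm⟩ := h.exists_neg_anti (by omega) hm hmm
  have hzf := hX m hm hmm (z * f) ((inG_turn h hΓ hdim hz hzz).mul hf) (by
    rw [mul_assoc, e, mul_neg, ← mul_assoc, hzm, neg_mul, neg_neg, mul_assoc])
  have := (h.nor_mem (h.neg_mem hz)).mul hzf
  rwa [← mul_assoc, neg_mul, hzz, neg_neg, one_mul] at this

variable [Finite F] (hsize : SizeCase R)
include hsize

/-- An element of the group centralising `a` and scalar on the moved space compresses to a line. -/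
theorem kernel_res {a : E} (ha : a ∈ R) (haa : a * a = 1) (has : ¬ IsScalarMap a)
    (hfin : 2 * finrank F (plusSpace a) = finrank F V) {g g' : E} (hg : InG Γ g) (h1 : g * g' = 1)
    (h2 : g' * g = 1) (ga : g * a = a * g) {c : F} (hc : res (-a) g = c • 1) :
    Line (resSet a R) (res a g) := by
  have t2 := h.two_ne
  obtain ⟨hns, hW⟩ := h.res_pauli ha haa has
  haveI := nontrivial_plus h haa has
  have hna := h.neg_mem ha
  have hnaa := neg_sq haa t2
  have hnas := not_scalar_neg_self h has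
  obtain ⟨hns', -⟩ := h.res_pauli hna hnaa hnas
  refine kernel_line hW (K := kerGroup haa t2 Γ) ⟨?_, ?_, ?_, ?_⟩ (by omega) ?_
    (mem_kerGroup haa t2 hg h1 h2 ga hc)
  · -- the members
    have hneg : ∀ D ∈ resSet a R, D * D = -1 → InG (kerGroup haa t2 Γ) D := by
      rintro _ ⟨d, ⟨hd, hda⟩, rfl⟩ hDD
      have hdd := sq_of_res h haa has hd hda hDD
      have had : a * d ∈ R := h.mul_mem _ ha _ hd
      have cda : Commute d a := hda
      have hadd : a * d * (a * d) = -1 := by rw [cda.mul_mul_mul_comm, haa, hdd, one_mul]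
      have hcc : Commute d (a * d) := cda.mul_right (Commute.refl d)
      have hnsd : ¬ IsScalarMap (d * (a * d)) := by
        rw [← mul_assoc, hda, mul_assoc, hdd, mul_neg_one]
        exact hnas
      have hada : a * d * a = a * (a * d) := ((Commute.refl a).mul_left cda).eq
      have hL := inG_cgate h hΓ hdim hd hdd had hadd hcc hnsd
      have e0 : res (-a) (gate d (a * d)) = (1 : F) • 1 := by
        rw [res_gate hnaa t2 (comm_neg haa t2 hada), res_mul hnaa t2 (comm_neg haa t2 hda), res_neg_self haa t2,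
          neg_one_mul, gate, ← sub_eq_add_neg, one_add_mul_one_sub, inv_smul_smul₀ t2, one_smul]
        rw [← res_mul hnaa t2 (comm_neg haa t2 hda), hdd, map_neg, res_one hnaa t2]
      have e1 : res a (gate d (a * d)) = res a d := by
        rw [res_gate haa t2 hada, res_mul haa t2 hda, res_self haa t2, one_mul, gate]
        have : (1 + res a d) * (1 + res a d) = (2 : F) • res a d := by
          simp only [mul_add, add_mul, mul_one, one_mul, hDD, two_smul]; abel
        rw [this, inv_smul_smul₀ t2]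
      rw [← e1]
      exact mem_kerGroup haa t2 hL (gate_mul_inv t2 hdd hadd) (gate_inv_mul t2 hdd hadd)
        (gate_comm haa t2 hda hada) e0
    intro D hD
    have hscal : ∀ t : F, t ≠ 0 → InG (kerGroup haa t2 Γ) (t • 1) := fun t ht => by
      have := mem_kerGroup haa t2 (g' := t⁻¹ • (1 : E)) (c := t) (hΓ.scal t ht)
        (by rw [smul_mul_smul_comm, mul_one, mul_inv_cancel₀ ht, one_smul])
        (by rw [smul_mul_smul_comm, mul_one, inv_mul_cancel₀ ht, one_smul]) (by simp) (res_smul_one hnaa t2 t)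
      rwa [res_smul_one haa t2] at this
    by_cases hDs : IsScalarMap D
    · rcases hW.scalar_mem D hD hDs with rfl | rfl
      · simpa using hscal 1 one_ne_zero
      · simpa using hscal (-1) (neg_ne_zero.2 one_ne_zero)
    rcases hW.sq D hD with e | e
    swap
    · exact hneg D hD e
    obtain ⟨y, hy, hyD⟩ := hW.exists_anti hD hDs
    obtain ⟨p, hp, q, hq, hpq, pr, -, qr, -⟩ := hW.exists_pair (by omega) hD hy hyD
    obtain ⟨u, hu, huu, hcu⟩ := hW.exists_neg_of_pair hp hq hpq
    have cu := hcu D pr.symm qr.symm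
    have := (hneg _ (hW.mul_mem _ hD _ hu) (by rw [cu.symm.mul_mul_mul_comm, e, huu, one_mul])).mul
      (hneg _ (hW.neg_mem hu) (by rwa [neg_mul_neg]))
    rwa [mul_assoc, mul_neg, huu, neg_neg, mul_one] at this
  · -- no fusion
    intro k k' r r₂ t hk k1 k2 hr hr₂ e
    exact hΓ.fuse_res a ha haa has t2 k k' r r₂ t (kerGroup_le haa t2 hk) k1 k2 hr hr₂ e
  · -- invariance under gates
    rintro _ ⟨x, ⟨hx, hxa⟩, rfl⟩ _ ⟨z, ⟨hz, hza⟩, rfl⟩ hX' hZ' hA k hk
    obtain ⟨f, f', hf, f1, f2, fa, rfl, d, hd⟩ := inG_kerGroup haa t2 hk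
    have hxx := sq_of_res h haa has hx hxa hX'
    have hzz := sq_of_res h haa has hz hza hZ'
    have hzx := anti_of_res h ha haa has hz hx hza hxa hA
    have gA := gate_comm haa t2 hxa hza
    have gB := gateInv_comm haa t2 hxa hza
    have p1 := gate_mul_inv t2 hxx hzz
    have p2 := gate_inv_mul t2 hxx hzz
    have hP := hΓ.gate x hx z hz hxx hzz hzx
    have e0 : res (-a) (gate x z * f * gateInv x z) = d • 1 := by
      rw [res_conj hnaa t2 (comm_neg haa t2 fa) (comm_neg haa t2 gB), hd, mul_smul_comm, mul_one, smul_mul_assoc,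
        res_inv hnaa t2 p1 (comm_neg haa t2 gB)]
    have hmem := mem_kerGroup haa t2 (InG.conj hP hf p1) (g' := gate x z * f' * gateInv x z)
      (by rw [conj_mul p2, f1, mul_one, p1]) (by rw [conj_mul p2, f2, mul_one, p1])
      (commute_conj gA gB fa) e0
    rwa [res_conj haa t2 fa gB, res_gate haa t2 hza, res_gateInv haa t2 hxa] at hmem
  · -- centralisers of turns
    intro k hk X hX0 hXX hp
    obtain ⟨f, f', hf, f1, f2, fa, rfl, d, hd⟩ := inG_kerGroup haa t2 hk
    obtain ⟨x, ⟨hx, hxa⟩, rfl⟩ := hX0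
    have hxx := sq_of_res h haa has hx hxa hXX
    have fa' := comm_inv f1 f2 fa
    have hfx : f * x * f' * a = a * (f * x * f') := commute_conj fa fa' hxa
    have hminus : ∀ r : E, r * a = a * r → res (-a) (f * r * f') = res (-a) r := by
      intro r hra
      have e := res_inv hnaa t2 f1 (comm_neg haa t2 fa')
      rw [hd, smul_mul_assoc, one_mul] at e
      rw [res_conj hnaa t2 (comm_neg haa t2 hra) (comm_neg haa t2 fa'), hd, smul_mul_assoc, one_mul, smul_mul_assoc,
        ← mul_smul_comm, e, mul_one]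
    have hplus : res a (f * x * f') = res a x ∨ res a (f * x * f') = -res a x := by
      rw [res_conj haa t2 hxa fa']
      rcases hp with e | e
      · exact .inl (by rw [e, mul_assoc, res_inv haa t2 f1 fa', mul_one])
      · exact .inr (by rw [e, neg_mul, mul_assoc, res_inv haa t2 f1 fa', mul_one])
    have hm : f * x * f' ∈ R := by
      rcases hplus with e | e
      · rw [ext_res haa t2 hfx hxa e (hminus x hxa)]; exact hx
      · have hax : -(a * x) * a = a * -(a * x) :=
          (((Commute.refl a).mul_left (show Commute x a from hxa)).neg_left).eq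
        rw [ext_res haa t2 hfx hax (by rw [e, map_neg, res_mul haa t2 hxa, res_self haa t2, one_mul])
          (by rw [hminus x hxa, map_neg, res_mul hnaa t2 (comm_neg haa t2 hxa), res_neg_self haa t2, neg_one_mul,
            neg_neg])]
        exact h.neg_mem (h.mul_mem _ ha _ hx)
    have hN := nor_of_conj_turn h hΓ hdim hX hf f1 f2 hx hxx hm
    have hfne : res a f ≠ 0 := fun e => one_ne_zero (α := Module.End F (plusSpace a)) (by
      rw [← res_inv haa t2 f1 fa', e, zero_mul])
    obtain ⟨r₀, hr₀, c₀, -, e₀⟩ := hW.exists_line hfne (by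
      rintro _ ⟨r, ⟨hr, hra⟩, rfl⟩
      have hrR : f * r * f' ∈ R := nor_conj_mem f1 hN hr
      have hrc : f * r * f' * a = a * (f * r * f') := commute_conj fa fa' hra
      obtain ⟨u, hu⟩ : ∃ u : E, u = r * (f * r * f') := ⟨_, rfl⟩
      have hua : u * -a = -a * u := by
        rw [hu]
        exact (Commute.mul_left (show Commute r (-a) from comm_neg haa t2 hra) (comm_neg haa t2 hrc)).eq
      have hus : IsScalarMap (res (-a) u) := by
        obtain ⟨s, -, hrr⟩ := h.sq_sign hr
        rw [hu, res_mul hnaa t2 (comm_neg haa t2 hrc), hminus r hra, ← res_mul hnaa t2 (comm_neg haa t2 hra),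
          hrr, res_smul_one hnaa t2]
        exact ⟨s, rfl⟩
      have hcase : IsScalarMap u ∨ IsScalarMap (-a * u) := by
        by_contra hcon
        rw [not_or] at hcon
        exact hns' u (hu ▸ h.mul_mem _ hr _ hrR) hua hcon.1 hcon.2 hus
      have himg : res a (f * r * f') = res a r ∨ res a (f * r * f') = -res a r := by
        rcases hcase with hs | hs
        · rcases h.eq_or_neg hr hrR (hu ▸ hs) with e | e <;> rw [e]
          · exact .inl rfl
          · exact .inr (map_neg _ _)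
        · rw [hu, ← mul_assoc] at hs
          rcases h.eq_or_neg (h.mul_mem _ hna _ hr) hrR hs with e | e <;> rw [e] <;>
            simp [res_mul haa t2 hra, res_self haa t2]
      have hk' : res a f * res a r * res a f' = res a (f * r * f') := (res_conj haa t2 hra fa').symm
      refine pm_of_conj (g' := res a f') (res_inv haa t2 f2 fa) ?_
      rw [hk']
      exact himg)
    exact ⟨r₀, hr₀, c₀, e₀⟩
  · rcases hsize with hbig | hminus
    · exact .inl (by omega)
    · refine .inr ?_
      rintro _ ⟨s, ⟨hs, hsa⟩, rfl⟩ _ ⟨t, ⟨ht, hta⟩, rfl⟩ hS hT hSs hTs hST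
      have hsq : ∀ u ∈ R, u * a = a * u → res a u * res a u = 1 → u * u = 1 := fun u hu hua e =>
        (h.sq u hu).resolve_right fun e' => by
          rw [← res_mul haa t2 hua, e', map_neg, res_one haa t2] at e
          exact hW.neg_one_ne e
      have hnsc : ∀ u ∈ R, u * a = a * u → ¬ IsScalarMap (res a u) → ¬ IsScalarMap u ∧ ¬ IsScalarMap (a * u) := by
        intro u hu hua hus
        refine ⟨fun hc => hus ?_, fun hc => hus ?_⟩
        · obtain ⟨d, rfl⟩ := hc
          exact ⟨d, res_smul_one haa t2 d⟩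
        · obtain ⟨d, hd⟩ := hc
          exact ⟨d, by
            have := congrArg (res a) hd
            rwa [res_mul haa t2 hua, res_self haa t2, one_mul, res_smul_one haa t2] at this⟩
      obtain ⟨s1, s2⟩ := hnsc s hs hsa hSs
      obtain ⟨u1, u2⟩ := hnsc t ht hta hTs
      rcases hminus a ha s hs t ht haa (hsq s hs hsa hS) (hsq t ht hta hT) (Eq.symm hsa) (Eq.symm hta)
        (commute_of_res h ha haa has hs ht hsa hta hST) has s1 s2 with hd | hd | hd | hd
      · exact absurd hd u1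
      · exact absurd hd u2
      · rcases h.eq_or_neg hs ht hd with e | e <;> rw [e]
        · exact .inl rfl
        · exact .inr (map_neg _ _)
      · rw [← mul_assoc] at hd
        rcases h.eq_or_neg (h.mul_mem _ ha _ hs) ht hd with e | e <;> rw [e] <;>
          simp [res_mul haa t2 hsa, res_self haa t2]

/-- The compressions of a centralising element permute the compressed turns. -/
theorem res_conj_turn {a : E} (ha : a ∈ R) (haa : a * a = 1) (has : ¬ IsScalarMap a)
    (hfin : 2 * finrank F (plusSpace a) = finrank F V) {g g' : E} (hg : InG Γ g) (h1 : g * g' = 1)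
    (h2 : g' * g = 1) (ga : g * a = a * g) {d : E} (hd : d ∈ R) (hdd : d * d = -1) (hda : d * a = a * d) :
    ∃ d₂ ∈ R, d₂ * a = a * d₂ ∧ res a (g * d * g') = res a d₂ := by
  have t2 := h.two_ne
  obtain ⟨-, hW⟩ := h.res_pauli ha haa has
  haveI := nontrivial_plus h haa has
  have hnaa := neg_sq haa t2
  have had : a * d ∈ R := h.mul_mem _ ha _ hd
  have cda : Commute d a := hda
  have hadd : a * d * (a * d) = -1 := by rw [cda.mul_mul_mul_comm, haa, hdd, one_mul]
  have hnsd : ¬ IsScalarMap (d * (a * d)) := by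
    rw [← mul_assoc, hda, mul_assoc, hdd, mul_neg_one]
    exact not_scalar_neg_self h has
  have hada : a * d * a = a * (a * d) := ((Commute.refl a).mul_left cda).eq
  have hL := inG_cgate h hΓ hdim hd hdd had hadd (cda.mul_right (Commute.refl d)) hnsd
  have ga' := comm_inv h1 h2 ga
  have gA := gate_comm haa t2 hda hada
  have l1 : res (-a) (gate d (a * d)) = 1 := by
    rw [res_gate hnaa t2 (comm_neg haa t2 hada), res_mul hnaa t2 (comm_neg haa t2 hda), res_neg_self haa t2,
      neg_one_mul, gate, ← sub_eq_add_neg, one_add_mul_one_sub, inv_smul_smul₀ t2]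
    rw [← res_mul hnaa t2 (comm_neg haa t2 hda), hdd, map_neg, res_one hnaa t2]
  have hDD : res a d * res a d = -1 := by rw [← res_mul haa t2 hda, hdd, map_neg, res_one haa t2]
  have l2 : res a (gate d (a * d)) = res a d := by
    rw [res_gate haa t2 hada, res_mul haa t2 hda, res_self haa t2, one_mul, gate]
    have : (1 + res a d) * (1 + res a d) = (2 : F) • res a d := by
      simp only [mul_add, add_mul, mul_one, one_mul, hDD, two_smul]; abel
    rw [this, inv_smul_smul₀ t2]
  have hc : res (-a) (g * gate d (a * d) * g') = (1 : F) • 1 := by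
    rw [res_conj hnaa t2 (comm_neg haa t2 gA) (comm_neg haa t2 ga'), l1, mul_one,
      res_inv hnaa t2 h1 (comm_neg haa t2 ga'), one_smul]
  obtain ⟨_, ⟨d₂, ⟨hd₂, hd₂a⟩, rfl⟩, c, e⟩ := kernel_res h hΓ hdim hX hsize ha haa has hfin
    (InG.conj hg hL h1) (g' := g * gateInv d (a * d) * g')
    (by rw [conj_mul h2, gate_mul_inv t2 hdd hadd, mul_one, h1])
    (by rw [conj_mul h2, gate_inv_mul t2 hdd hadd, mul_one, h1])
    (commute_conj ga ga' gA) hc
  rw [res_conj haa t2 gA ga', l2, ← res_conj haa t2 hda ga'] at e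
  have hmem : res a (g * d * g') ∈ resSet a R := by
    rw [e]
    refine hW.sign_mem ⟨d₂, ⟨hd₂, hd₂a⟩, rfl⟩ (hΓ.fuse_res a ha haa has t2 (res a g) (res a g') (res a d) (res a d₂) c
      (inG_resGroup haa t2 hg h1 h2 ga) (res_inv haa t2 h1 ga') (res_inv haa t2 h2 ga) ⟨d, ⟨hd, hda⟩, rfl⟩
      ⟨d₂, ⟨hd₂, hd₂a⟩, rfl⟩ ?_)
    rw [← res_conj haa t2 hda ga']
    exact e
  obtain ⟨d₃, ⟨hd₃, hd₃a⟩, e₃⟩ := hmem
  exact ⟨d₃, hd₃, hd₃a, e₃.symm⟩

/-- An element commuting with an involution of the system normalises it. -/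
theorem nor_of_comm_pos {a : E} (ha : a ∈ R) (haa : a * a = 1) (has : ¬ IsScalarMap a)
    (hfin : 2 * finrank F (plusSpace a) = finrank F V) (hfin' : 2 * finrank F (plusSpace (-a)) = finrank F V)
    {g g' : E} (hg : InG Γ g) (h1 : g * g' = 1) (h2 : g' * g = 1) (ga : g * a = a * g) : Nor R g := by
  have t2 := h.two_ne
  obtain ⟨hns, hW⟩ := h.res_pauli ha haa has
  haveI := nontrivial_plus h haa has
  have hna := h.neg_mem ha
  have hnaa := neg_sq haa t2
  have hnas := not_scalar_neg_self h has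
  obtain ⟨hns', hU⟩ := h.res_pauli hna hnaa hnas
  haveI := nontrivial_plus h hnaa hnas
  have ga' := comm_inv h1 h2 ga
  -- a pair and an involution centralising `a`
  obtain ⟨b, hb, hba⟩ := h.exists_anti ha has
  obtain ⟨p, hp, q, hq, hpq, pa, -, qa, -⟩ := h.exists_pair (by omega) ha hb hba
  obtain ⟨x, hx, hxx, hxc⟩ := h.exists_neg_of_pair hp hq hpq
  have hxa : x * a = a * x := ((hxc a pa.symm qa.symm).symm).eq
  have hXm : res a x ∈ resSet a R := ⟨x, ⟨hx, hxa⟩, rfl⟩
  have hX2 : res a x * res a x = -1 := by rw [← res_mul haa t2 hxa, hxx, map_neg, res_one haa t2]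
  obtain ⟨Z, hZ, hZZ, hZX⟩ := hW.exists_neg_anti (by omega) hXm hX2
  obtain ⟨z, ⟨hz, hza⟩, rfl⟩ := hZ
  have hzz := sq_of_res h haa has hz hza hZZ
  have hzx := anti_of_res h ha haa has hz hx hza hxa hZX
  obtain ⟨c, hc, hcc, hca, cx, cz, hcs⟩ :=
    exists_pos_comm h hdim hsize ha haa has hfin hx hz hxa hza hxx hzz hzx
  -- images on the moved space
  obtain ⟨x₁, hx₁, hx₁a', ex₁⟩ := res_conj_turn h hΓ hdim hX hsize hna hnaa hnas hfin' hg h1 h2
    (comm_neg haa t2 ga) hx hxx (comm_neg haa t2 hxa)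
  obtain ⟨z₁, hz₁, hz₁a', ez₁⟩ := res_conj_turn h hΓ hdim hX hsize hna hnaa hnas hfin' hg h1 h2
    (comm_neg haa t2 ga) hz hzz (comm_neg haa t2 hza)
  have hcx : c * x * (c * x) = -1 := by rw [cx.symm.mul_mul_mul_comm, hcc, hxx, one_mul]
  have hcxa : c * x * a = a * (c * x) := (Commute.mul_left (show Commute c a from hca) hxa).eq
  obtain ⟨w₁, hw₁, hw₁a', ew₁⟩ := res_conj_turn h hΓ hdim hX hsize hna hnaa hnas hfin' hg h1 h2
    (comm_neg haa t2 ga) (h.mul_mem _ hc _ hx) hcx (comm_neg haa t2 hcxa)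
  have cx₁ : Commute x₁ (-a) := hx₁a'
  have cz₁ : Commute z₁ (-a) := hz₁a'
  obtain ⟨c₁, hc₁def⟩ : ∃ c₁ : E, c₁ = -(w₁ * x₁) := ⟨_, rfl⟩
  have hc₁ : c₁ ∈ R := hc₁def ▸ h.neg_mem (h.mul_mem _ hw₁ _ hx₁)
  have hc₁a' : c₁ * -a = -a * c₁ := hc₁def ▸ ((Commute.mul_left hw₁a' cx₁).neg_left).eq
  have hga' := comm_neg haa t2 ga'
  have ec₁ : res (-a) (g * c * g') = res (-a) c₁ := by
    rw [hc₁def, map_neg, res_mul hnaa t2 hx₁a', ← ew₁, ← ex₁,
      ← res_mul hnaa t2 (commute_conj (comm_neg haa t2 ga) hga' (comm_neg haa t2 hxa)), conj_mul h2, ← map_neg]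
    congr 1
    rw [mul_assoc c x x, hxx, mul_neg_one, mul_neg, neg_mul, neg_neg]
  have conv : ∀ {u : E}, u * -a = -a * u → u * a = a * u := fun {u} e => by
    rw [mul_neg, neg_mul] at e
    exact neg_injective e
  have hx₁a := conv hx₁a'
  have hz₁a := conv hz₁a'
  have hc₁a := conv hc₁a'
  -- squares and signs on the moved space
  have img_sq : ∀ {u u₁ : E} (s : F), u * a = a * u → u * u = s • 1 → u₁ * -a = -a * u₁ →
      res (-a) (g * u * g') = res (-a) u₁ → res (-a) u₁ * res (-a) u₁ = s • 1 := by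
    intro u u₁ s hua huu hu₁ e
    rw [← e, ← res_mul hnaa t2 (commute_conj (comm_neg haa t2 ga) hga' (comm_neg haa t2 hua)),
      conj_mul h2, huu, mul_smul_comm, mul_one, smul_mul_assoc, h1, res_smul_one hnaa t2]
  have hx₁₁ : x₁ * x₁ = -1 := sq_of_res h hnaa hnas hx₁ hx₁a' (by
    rw [img_sq (-1) hxa (by rw [hxx, neg_smul, one_smul]) hx₁a' ex₁, neg_smul, one_smul])
  have hz₁₁ : z₁ * z₁ = -1 := sq_of_res h hnaa hnas hz₁ hz₁a' (by
    rw [img_sq (-1) hza (by rw [hzz, neg_smul, one_smul]) hz₁a' ez₁, neg_smul, one_smul])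
  have hc₁₁ : c₁ * c₁ = 1 := (h.sq c₁ hc₁).resolve_right fun e => by
    have h5 := img_sq 1 hca (by rw [hcc, one_smul]) hc₁a' ec₁
    rw [← res_mul hnaa t2 hc₁a', e, map_neg, res_one hnaa t2, one_smul] at h5
    exact hU.neg_one_ne h5
  have himgc : ∀ {u v u₁ v₁ : E}, u₁ * -a = -a * u₁ → v₁ * -a = -a * v₁ → u * a = a * u → v * a = a * v →
      res (-a) (g * u * g') = res (-a) u₁ → res (-a) (g * v * g') = res (-a) v₁ →
      res (-a) u₁ * res (-a) v₁ = res (-a) (g * (u * v) * g') := by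
    intro u v u₁ v₁ _ _ hua hva eu ev
    rw [← eu, ← ev, ← res_mul hnaa t2 (commute_conj (comm_neg haa t2 ga) hga' (comm_neg haa t2 hva)), conj_mul h2]
  have hz₁x₁ : Anti z₁ x₁ := anti_of_res h hna hnaa hnas hz₁ hx₁ hz₁a' hx₁a' (by
    rw [Anti, himgc hz₁a' hx₁a' hza hxa ez₁ ex₁, himgc hx₁a' hz₁a' hxa hza ex₁ ez₁, hzx]
    simp)
  have cc₁x : Commute c₁ x₁ := commute_of_res h hna hnaa hnas hc₁ hx₁ hc₁a' hx₁a' (by
    rw [Commute, SemiconjBy, himgc hc₁a' hx₁a' hca hxa ec₁ ex₁, himgc hx₁a' hc₁a' hxa hca ex₁ ec₁, cx.eq])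
  have cc₁z : Commute c₁ z₁ := commute_of_res h hna hnaa hnas hc₁ hz₁ hc₁a' hz₁a' (by
    rw [Commute, SemiconjBy, himgc hc₁a' hz₁a' hca hza ec₁ ez₁, himgc hz₁a' hc₁a' hza hca ez₁ ec₁, cz.eq])
  have hC₁ : ¬ IsScalarMap (res a c₁) := by
    have hU1 : ¬ IsScalarMap (res (-a) c₁) := by
      have hcU : ¬ IsScalarMap (res (-a) c) := by
        refine hns' c hc (comm_neg haa t2 hca) (fun hs => hcs ?_) (fun hs => hcs ?_)
        · obtain ⟨d, rfl⟩ := hs
          exact ⟨d, res_smul_one haa t2 d⟩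
        · obtain ⟨d, hd⟩ := hs
          exact ⟨-d, by
            have := congrArg (res a) hd
            rw [neg_mul, map_neg, res_mul haa t2 hca, res_self haa t2, one_mul, res_smul_one haa t2] at this
            rw [neg_smul, ← this, neg_neg]⟩
      rw [← ec₁, res_conj hnaa t2 (comm_neg haa t2 hca) hga']
      exact conj_nonscalar (res_inv hnaa t2 h1 hga') (res_inv hnaa t2 h2 (comm_neg haa t2 ga)) hcU
    refine hns c₁ hc₁ hc₁a (fun hs => hU1 ?_) (fun hs => hU1 ?_)
    · obtain ⟨d, rfl⟩ := hs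
      exact ⟨d, res_smul_one hnaa t2 d⟩
    · obtain ⟨d, hd⟩ := hs
      exact ⟨-d, by
        have := congrArg (res (-a)) hd
        rw [res_mul hnaa t2 hc₁a', res_neg_self haa t2, neg_one_mul, res_smul_one hnaa t2] at this
        rw [neg_smul, ← this, neg_neg]⟩
  -- the image on the fixed space lies in the triple
  have fxa : g * x * g' * a = a * (g * x * g') := commute_conj ga ga' hxa
  obtain ⟨x₂, hx₂, hx₂a, ex₂⟩ := res_conj_turn h hΓ hdim hX hsize ha haa has hfin hg h1 h2 ga hx hxx hxa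
  have triple : ∀ (u u₁ : E), u ∈ R → u * u = -1 → u * a = a * u → Anti u x → u₁ ∈ R → u₁ * u₁ = -1 →
      u₁ * a = a * u₁ → Anti u₁ x₁ → res (-a) (g * u * g') = res (-a) u₁ →
      InTriple (res a x₁) (res a u₁) (res a x₂) := by
    intro u u₁ hu huu hua hux hu₁ hu₁₁ hu₁a hu₁x eu
    obtain ⟨u₂, hu₂, hu₂a, eu₂⟩ := res_conj_turn h hΓ hdim hX hsize ha haa has hfin hg h1 h2 ga hu huu hua
    have p1 := gate_mul_inv t2 hxx huu
    have p2 := gate_inv_mul t2 hxx huu
    have q1 := gate_mul_inv t2 hx₁₁ hu₁₁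
    have q2 := gate_inv_mul t2 hx₁₁ hu₁₁
    have gA := gate_comm haa t2 hxa hua
    have qB := gateInv_comm haa t2 hx₁a hu₁a
    have qA := gate_comm haa t2 hx₁a hu₁a
    have hgP : g * gate x u * g' = gate (g * x * g') (g * u * g') := by
      rw [gate, gate, mul_smul_comm, smul_mul_assoc, ← conj_mul h2]
      simp only [mul_add, add_mul, mul_one, h1]
    have fua : g * u * g' * a = a * (g * u * g') := commute_conj ga ga' hua
    have hneg : res (-a) (g * gate x u * g') = res (-a) (gate x₁ u₁) := by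
      rw [hgP, res_gate hnaa t2 (comm_neg haa t2 fua), res_gate hnaa t2 (comm_neg haa t2 hu₁a), ex₁, eu]
    have hc0 : res (-a) (g * gate x u * g' * gateInv x₁ u₁) = (1 : F) • 1 := by
      rw [res_mul hnaa t2 (comm_neg haa t2 qB), hneg, res_inv hnaa t2 q1 (comm_neg haa t2 qB), one_smul]
    obtain ⟨D, hD, d, ed⟩ := kernel_res h hΓ hdim hX hsize ha haa has hfin
      ((InG.conj hg (hΓ.gate x hx u hu hxx huu hux) h1).mul ((hΓ.gate x₁ hx₁ u₁ hu₁ hx₁₁ hu₁₁ hu₁x).inv q1))
      (g' := gate x₁ u₁ * (g * gateInv x u * g'))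
      (comp_inv (by rw [conj_mul h2, p1, mul_one, h1]) q2) (comp_inv q1 (by rw [conj_mul h2, p2, mul_one, h1]))
      ((Commute.mul_left (show Commute (g * gate x u * g') a from commute_conj ga ga' gA) qB).eq) hc0
    rw [res_mul haa t2 qB, hgP, res_gate haa t2 fua, ex₂, eu₂, res_gateInv haa t2 hx₁a] at ed
    have hX₁ : res a x₁ * res a x₁ = -1 := by rw [← res_mul haa t2 hx₁a, hx₁₁, map_neg, res_one haa t2]
    have hU₁ : res a u₁ * res a u₁ = -1 := by rw [← res_mul haa t2 hu₁a, hu₁₁, map_neg, res_one haa t2]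
    have hA₁ : Anti (res a u₁) (res a x₁) := by
      rw [Anti, ← res_mul haa t2 hx₁a, ← res_mul haa t2 hu₁a, hu₁x, map_neg]
    have hX₂ : res a x₂ * res a x₂ = -1 := by
      rw [← ex₂, ← res_mul haa t2 fxa, conj_mul h2, hxx, mul_neg_one, neg_mul, h1, map_neg, res_one haa t2]
    have hU₂ : res a u₂ * res a u₂ = -1 := by
      rw [← eu₂, ← res_mul haa t2 fua, conj_mul h2, huu, mul_neg_one, neg_mul, h1, map_neg, res_one haa t2]
    have hA₂ : Anti (res a u₂) (res a x₂) := by
      rw [Anti, ← ex₂, ← eu₂, ← res_mul haa t2 fxa, ← res_mul haa t2 fua, conj_mul h2, conj_mul h2, hux, mul_neg,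
        neg_mul, map_neg]
    have hx₁W : res a x₁ ∈ resSet a R := ⟨x₁, ⟨hx₁, hx₁a⟩, rfl⟩
    have hu₁W : res a u₁ ∈ resSet a R := ⟨u₁, ⟨hu₁, hu₁a⟩, rfl⟩
    have hu₂W : res a u₂ ∈ resSet a R := ⟨u₂, ⟨hu₂, hu₂a⟩, rfl⟩
    set P₁ := gate (res a x₁) (res a u₁) with hP₁
    set Q₁ := gateInv (res a x₁) (res a u₁) with hQ₁
    set P₂ := gate (res a x₂) (res a u₂) with hP₂
    have r1 : P₁ * Q₁ = 1 := gate_mul_inv t2 hX₁ hU₁
    have r2 : Q₁ * P₁ = 1 := gate_inv_mul t2 hX₁ hU₁
    have hP : P₂ = d • (D * P₁) := by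
      have := congrArg (· * P₁) ed
      simp only [mul_assoc, r2, mul_one, smul_mul_assoc] at this
      exact this
    obtain ⟨w, hw, hwe⟩ : ∃ w ∈ resSet a R, w = P₁ * res a u₂ * Q₁ :=
      ⟨_, nor_conj_mem r1 (hW.nor_gate hx₁W hX₁ hu₁W hU₁) hu₂W, rfl⟩
    obtain ⟨s, hs, hsD⟩ : ∃ s : F, (s = 1 ∨ s = -1) ∧ D * w = s • (w * D) := by
      rcases hW.cases hD hw with e | e
      · exact ⟨1, .inl rfl, by rw [e.eq, one_smul]⟩
      · exact ⟨-1, .inr rfl, by rw [e, neg_smul, one_smul]⟩
    have hP2inv : P₂ * gateInv (res a x₂) (res a u₂) = 1 := gate_mul_inv t2 hX₂ hU₂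
    have himg : res a x₂ * res a u₂ = s • w := by
      rw [← gate_conj_right t2 hX₂ hU₂ hA₂, ← hP₂]
      have hw1 : P₂ * res a u₂ = (s • w) * P₂ := by
        rw [hP, smul_mul_assoc, mul_assoc D P₁, show P₁ * res a u₂ = w * P₁ by
          rw [hwe, mul_assoc (P₁ * res a u₂), r2, mul_one], ← mul_assoc D w, hsD]
        simp only [smul_mul_assoc, mul_smul_comm, smul_smul, mul_assoc, mul_comm d s]
      rw [hw1, mul_assoc, hP2inv, mul_one]
    have hb := hW.gate_move hx₁W hX₁ hu₁W hU₁ hA₁ hu₂W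
    rw [← hP₁, ← hQ₁, ← hwe] at hb
    have hx2e : res a x₂ = s • (res a u₂ * w) := by
      rw [← mul_smul_comm, ← himg, ← mul_assoc, hA₂, neg_mul, mul_assoc, hU₂, mul_neg_one, neg_neg]
    rw [hx2e]
    rcases hs with rfl | rfl
    · rwa [one_smul]
    · rw [neg_smul, one_smul]; exact hb.neg
  have cza : Commute z a := hza
  have hz'1 : z * c * (z * c) = -1 := by rw [cz.mul_mul_mul_comm, hzz, hcc, mul_one]
  have hz1' : z₁ * c₁ * (z₁ * c₁) = -1 := by rw [cc₁z.mul_mul_mul_comm, hz₁₁, hc₁₁, mul_one]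
  have t1 := triple z z₁ hz hzz hza hzx hz₁ hz₁₁ hz₁a hz₁x₁ ez₁
  have t2' := triple (z * c) (z₁ * c₁) (h.mul_mem _ hz _ hc) hz'1 (cza.mul_left hca).eq
    (Anti.mul_comm_right hzx.symm cx.symm).symm (h.mul_mem _ hz₁ _ hc₁) hz1'
    ((Commute.mul_left (show Commute z₁ a from hz₁a) hc₁a).eq)
    (Anti.mul_comm_right hz₁x₁.symm cc₁x.symm).symm
    (by rw [res_mul hnaa t2 hc₁a', himgc hz₁a' hc₁a' hza hca ez₁ ec₁])
  have hmem : g * x * g' ∈ R := by
    have hx₂s : ¬ IsScalarMap (res a x₂) := by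
      refine hW.not_scalar_neg ⟨x₂, ⟨hx₂, hx₂a⟩, rfl⟩ ?_
      rw [← ex₂, ← res_mul haa t2 fxa, conj_mul h2, hxx, mul_neg_one, neg_mul, h1, map_neg, res_one haa t2]
    have hpm : res a x₂ = res a x₁ ∨ res a x₂ = -res a x₁ := by
      have hX₁m : res a x₁ ∈ resSet a R := ⟨x₁, ⟨hx₁, hx₁a⟩, rfl⟩
      have hZ₁m : res a z₁ ∈ resSet a R := ⟨z₁, ⟨hz₁, hz₁a⟩, rfl⟩
      have hC₁m : res a c₁ ∈ resSet a R := ⟨c₁, ⟨hc₁, hc₁a⟩, rfl⟩
      have hA : Anti (res a z₁) (res a x₁) := by
        rw [Anti, ← res_mul haa t2 hx₁a, ← res_mul haa t2 hz₁a, hz₁x₁, map_neg]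
      have kx : Commute (res a z₁) (res a c₁) := by
        rw [Commute, SemiconjBy, ← res_mul haa t2 hc₁a, ← res_mul haa t2 hz₁a, cc₁z.eq]
      have e' : res a (z₁ * c₁) = res a z₁ * res a c₁ := res_mul haa t2 hc₁a
      have k1 : Commute (res a z₁) (res a z₁ * res a c₁) := (Commute.refl _).mul_right kx
      have hAXZ : Anti (res a z₁) (res a x₁ * res a z₁) := Anti.mul_comm_right hA (Commute.refl _)
      have hAXZC : Anti (res a z₁) (res a x₁ * (res a z₁ * res a c₁)) := Anti.mul_comm_right hA k1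
      have hne : ∀ {w u v : Module.End F (plusSpace a)}, w ∈ resSet a R → v ∈ resSet a R → Commute w u →
          Anti w v → (u = v ∨ u = -v) → False := by
        intro w u v hw hv cu av e
        rcases e with rfl | rfl
        · exact hW.not_commute_anti (hW.isUnit hw) (hW.isUnit hv) cu av
        · exact hW.not_commute_anti (hW.isUnit hw) (hW.isUnit hv) (Commute.neg_right_iff.1 cu) av
      have hsame : ∀ {u : Module.End F (plusSpace a)}, u ∈ resSet a R →
          (u = u * res a c₁ ∨ u = -(u * res a c₁)) → False := by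
        intro u hu e
        rcases e with e | e
        · exact hC₁ ⟨1, by rw [one_smul]; exact ((hW.isUnit hu).mul_left_cancel (by rw [mul_one, ← e])).symm⟩
        · refine hC₁ ⟨-1, ?_⟩
          rw [neg_smul, one_smul]
          refine ((hW.isUnit hu).mul_left_cancel ?_).symm
          rw [mul_neg, mul_one]
          exact neg_eq_iff_eq_neg.2 e
      have hXZ := hW.mul_mem _ hX₁m _ hZ₁m
      have hZC := hW.mul_mem _ hZ₁m _ hC₁m
      have hXZC := hW.mul_mem _ hX₁m _ hZC
      rw [e'] at t2'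
      have hm2 : res a x₂ ∈ resSet a R := ⟨x₂, ⟨hx₂, hx₂a⟩, rfl⟩
      have q1 := triple_anti_ne hW hX₁m hZ₁m hm2 hx₂s t1
      have q2 := triple_anti_ne hW hX₁m hZC hm2 hx₂s t2'
      have link : ∀ {u v : Module.End F (plusSpace a)}, (res a x₂ = u ∨ res a x₂ = -u) →
          (res a x₂ = v ∨ res a x₂ = -v) → u = v ∨ u = -v := by
        rintro u v (e1 | e1) (e2 | e2) <;> rw [e1] at e2
        exacts [.inl e2, .inr e2, .inr (neg_eq_iff_eq_neg.1 e2), .inl (neg_inj.1 e2)]
      simp only [← or_assoc] at q1 q2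
      simp only [or_assoc (a := res a x₂ = res a x₁ ∨ res a x₂ = -res a x₁)] at q1 q2
      rcases q1 with q1 | q1
      · exact q1
      exfalso
      rcases (by tauto : (res a x₂ = res a z₁ ∨ res a x₂ = -res a z₁) ∨
        (res a x₂ = res a x₁ * res a z₁ ∨ res a x₂ = -(res a x₁ * res a z₁))) with e | e <;>
        rcases (by tauto : (res a x₂ = res a x₁ ∨ res a x₂ = -res a x₁) ∨
          (res a x₂ = res a z₁ * res a c₁ ∨ res a x₂ = -(res a z₁ * res a c₁)) ∨
          (res a x₂ = res a x₁ * (res a z₁ * res a c₁) ∨ res a x₂ = -(res a x₁ * (res a z₁ * res a c₁)))) with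
          e2 | e2 | e2
      · exact hne hZ₁m hX₁m (Commute.refl _) hA (link e e2)
      · exact hsame hZ₁m (link e e2)
      · exact hne hZ₁m hXZC (Commute.refl _) hAXZC (link e e2)
      · exact hne hX₁m hXZ (Commute.refl _) (Anti.comm_mul_right (Commute.refl _) hA.symm) (link e2 e)
      · exact hne hZ₁m hXZ k1 hAXZ (link e2 e)
      · exact hsame hXZ (by rw [mul_assoc]; exact link e e2)
    rcases hpm with e | e
    · rw [ext_res haa t2 fxa hx₁a (ex₂.trans e) ex₁]; exact hx₁
    · have hax : -(a * x₁) * a = a * -(a * x₁) :=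
        (((Commute.refl a).mul_left (show Commute x₁ a from hx₁a)).neg_left).eq
      rw [ext_res haa t2 fxa hax
        (by rw [ex₂, e, map_neg, res_mul haa t2 hx₁a, res_self haa t2, one_mul])
        (by rw [ex₁, map_neg, res_mul hnaa t2 hx₁a', res_neg_self haa t2, neg_one_mul, neg_neg])]
      exact h.neg_mem (h.mul_mem _ ha _ hx₁)
  exact nor_of_conj_turn h hΓ hdim hX hg h1 h2 hx hxx hmem

end

end CfsgLib.Classical.PauliForm.Real
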