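import Cfsg.Agent.Lib.Classical.PauliForm.Real.Turn
import Cfsg.Agent.Lib.Classical.PauliMax.Main

/-!
# The centraliser of a turn when minus one is a square

The fixed space of the scaled turn is totally singular and in duality with the other eigenspace, so the dichotomy for
groups of maps containing a system with a square root of minus one applies to it.
-/

set_option autoImplicit false
set_option linter.unusedSectionVars false

namespace CfsgLib.Classical.PauliForm.Real

open Module CfsgLib.Classical.PauliMax CfsgLib.Classical.PauliForm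

variable {F : Type*} [Field F] {V : Type*} [AddCommGroup V] [Module F V] [FiniteDimensional F V]

local notation "E" => Module.End F V

attribute [local instance high] subEndRing subEndGrp

theorem InG.pow {Γ : Subgroup Eˣ} {f : E} (hf : InG Γ f) : ∀ j : ℕ, InG Γ (f ^ j)
  | 0 => ⟨1, Γ.one_mem, by rw [pow_zero]; rfl⟩
  | j + 1 => by rw [pow_succ]; exact (InG.pow hf j).mul hf

theorem one_add_pow {N : E} (hN : N * N = 0) : ∀ j : ℕ, (1 + N) ^ j = 1 + (j : F) • N
  | 0 => by simp
  | j + 1 => by
    rw [pow_succ, one_add_pow hN j, add_mul, one_mul, smul_mul_assoc, mul_add, mul_one, hN, add_zero, Nat.cast_succ,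
      add_smul, one_smul]
    abel

theorem conj_isometry {B : V →ₗ[F] V →ₗ[F] F} {g g' r : E} {μ : F} (hs : ∀ u v, B (g u) (g v) = μ * B u v)
    (hr : ∀ u v, B (r u) (r v) = B u v) (h1 : g * g' = 1) (u v : V) :
    B ((g * r * g') u) ((g * r * g') v) = B u v := by
  rw [Module.End.mul_apply, Module.End.mul_apply, Module.End.mul_apply, Module.End.mul_apply, hs, hr, ← hs,
    ← Module.End.mul_apply g g', ← Module.End.mul_apply g g', h1, Module.End.one_apply, Module.End.one_apply]

section split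

variable {a : Module.End F V} (haa : a * a = 1) (h2 : (2 : F) ≠ 0) {B : V →ₗ[F] V →ₗ[F] F}
  (ha : ∀ u v, B (a u) (a v) = -B u v) (hN : B.SeparatingRight)
include haa h2 ha hN

/-- A similitude centralising `a` and trivial on the fixed space is scalar on the other eigenspace. -/
theorem eq_proj_of_res_one {k : E} (hk : k * a = a * k) {μ : F} (hs : ∀ u v, B (k u) (k v) = μ * B u v)
    (h1 : res a k = 1) : k = proj a + μ • proj (-a) := by
  have hnaa : -a * -a = 1 := by rw [neg_mul_neg, haa]
  have hk' : k * -a = -a * k := by rw [mul_neg, hk, neg_mul]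
  have hW : ∀ w ∈ plusSpace a, k w = w := fun w hw => by
    have := congrArg Subtype.val (LinearMap.congr_fun h1 ⟨w, hw⟩)
    rwa [res_apply, apply_comm haa h2 hk] at this
  have hU : ∀ u ∈ plusSpace (-a), ∀ v ∈ plusSpace (-a), B u v = 0 := fun u hu v hv => by
    have hau : a u = -u := by
      have := a_apply_of_mem hnaa h2 ⟨u, hu⟩
      rw [LinearMap.neg_apply] at this
      exact neg_eq_iff_eq_neg.1 this
    have hav : a v = -v := by
      have := a_apply_of_mem hnaa h2 ⟨v, hv⟩
      rw [LinearMap.neg_apply] at this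
      exact neg_eq_iff_eq_neg.1 this
    have := ha u v
    rw [hau, hav, map_neg, map_neg, LinearMap.neg_apply, neg_neg] at this
    exact (mul_eq_zero.1 (show (2 : F) * B u v = 0 by linear_combination this)).resolve_left h2
  refine LinearMap.ext fun v => ?_
  rw [LinearMap.add_apply, LinearMap.smul_apply]
  have hsplit : proj a v + proj (-a) v = v := LinearMap.congr_fun (proj_add_neg haa h2) v
  nth_rw 1 [← hsplit]
  rw [map_add, hW _ ⟨v, rfl⟩]
  congr 1
  refine sub_eq_zero.1 (hN _ fun z => ?_)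
  have hsplit' : proj a z + proj (-a) z = z := LinearMap.congr_fun (proj_add_neg haa h2) z
  have hku : k (proj (-a) v) ∈ plusSpace (-a) := ⟨k v, by
    rw [← Module.End.mul_apply, ← Module.End.mul_apply, comm_proj hnaa h2 hk']⟩
  have e1 : B (proj a z) (k (proj (-a) v)) = μ * B (proj a z) (proj (-a) v) := by
    rw [← hs, hW _ ⟨z, rfl⟩]
  rw [← hsplit', map_add, LinearMap.add_apply, map_sub, map_sub, map_smul, map_smul, smul_eq_mul, smul_eq_mul, e1,
    hU _ ⟨z, rfl⟩ _ hku, hU _ ⟨z, rfl⟩ _ ⟨v, rfl⟩]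
  ring

omit ha hN in
theorem proj_add_smul_pow (μ : F) : ∀ j : ℕ, (proj a + μ • proj (-a)) ^ j = proj a + μ ^ j • proj (-a)
  | 0 => by rw [pow_zero, pow_zero, one_smul, proj_add_neg haa h2]
  | j + 1 => by
    have hnaa : -a * -a = 1 := by rw [neg_mul_neg, haa]
    have e2 : proj (-a) * proj a = 0 := by
      have := proj_neg_mul hnaa h2
      rwa [neg_neg] at this
    rw [pow_succ, proj_add_smul_pow μ j, add_mul, mul_add, mul_add, proj_mul_self haa h2, mul_smul_comm,
      proj_neg_mul haa h2, smul_zero, add_zero, smul_mul_assoc, e2, smul_zero, zero_add, smul_mul_smul_comm,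
      proj_mul_self hnaa h2, pow_succ]

end split

variable {R : Set (Module.End F V)} (h : RPauli R) [Nontrivial V] {Γ : Subgroup (Module.End F V)ˣ}
  (hΓ : RAmbient R Γ) (hdim : 8 ≤ finrank F V)
include h hΓ hdim

/-- The dichotomy at a turn when minus one is a square. -/
theorem turnNor_or_bigAt_split [Finite F] {p : ℕ} [Fact p.Prime] [CharP F p] (hF : Nat.card F = p) (hp3 : p ≠ 3)
    {i : F} (hi : i * i = -1) {B : V →ₗ[F] V →ₗ[F] F} (hN : B.SeparatingRight)
    (hiso : ∀ r ∈ R, ∀ u v, B (r u) (r v) = B u v)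
    (hsim : ∀ g : E, InG Γ g → ∃ μ : F, μ ≠ 0 ∧ ∀ u v, B (g u) (g v) = μ * B u v) {m : ℕ}
    (hV : finrank F V = 2 ^ (m + 2)) {x : E} (hx : x ∈ R) (hxx : x * x = -1) :
    TurnNor R Γ x ∨ BigAt B Γ x := by
  classical
  have h2 := h.two_ne
  have hi0 : i ≠ 0 := fun e => by simp [e] at hi
  have hp2 : p ≠ 2 := by
    rintro rfl
    exact h2 (CharTwo.two_eq_zero)
  -- the system with a square root of minus one
  obtain ⟨R', hR'⟩ : ∃ R' : Set E, R' = {f | ∃ r ∈ R, f = r ∨ f = i • r} := ⟨_, rfl⟩
  have hmemR : ∀ {r : E}, r ∈ R → r ∈ R' := fun hr => hR' ▸ ⟨_, hr, .inl rfl⟩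
  have h' : Pauli i R' := by
    subst hR'
    refine ⟨hi, h2, ⟨1, h.one_mem, .inl rfl⟩, ?_, ⟨1, h.one_mem, .inr rfl⟩, ?_, ?_, ?_⟩
    · rintro f ⟨r, hr, rfl | rfl⟩ g ⟨s, hs, rfl | rfl⟩
      · exact ⟨_, h.mul_mem _ hr _ hs, .inl rfl⟩
      · exact ⟨_, h.mul_mem _ hr _ hs, .inr (mul_smul_comm _ _ _)⟩
      · exact ⟨_, h.mul_mem _ hr _ hs, .inr (smul_mul_assoc _ _ _)⟩
      · exact ⟨_, h.neg_mem (h.mul_mem _ hr _ hs), .inl (by rw [smul_mul_smul_comm, hi, neg_smul, one_smul])⟩
    · rintro f ⟨r, hr, rfl | rfl⟩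
      · exact h.sq _ hr
      · rcases h.sq r hr with e | e <;> simp [smul_smul, hi, e]
    · rintro f ⟨r, hr, rfl | rfl⟩ g ⟨s, hs, rfl | rfl⟩ <;>
        rcases h.comm _ hs _ hr with e | e <;> simp [e]
    · refine eq_top_iff.2 (h.full ▸ Submodule.span_mono fun r hr => ?_)
      exact ⟨r, hr, .inl rfl⟩
  obtain ⟨a, hadef⟩ : ∃ a : E, a = (-i) • x := ⟨_, rfl⟩
  have ha : a ∈ R' := hR' ▸ ⟨-x, h.neg_mem hx, .inr (by rw [hadef, neg_smul, smul_neg])⟩
  have haa : a * a = 1 := by rw [hadef, smul_mul_smul_comm, neg_mul_neg, hi, hxx, neg_smul, one_smul, neg_neg]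
  have has : ¬ IsScalarMap a := fun hs => h.not_scalar_neg hx hxx (by
    have := hs.smul i
    rwa [hadef, smul_smul, mul_neg, hi, neg_neg, one_smul] at this)
  have hxa : x = i • a := by rw [hadef, smul_smul, mul_neg, hi, neg_neg, one_smul]
  have hcomm : ∀ {f : E}, f * x = x * f ↔ f * a = a * f := fun {f} => by
    refine ⟨fun e => ?_, fun e => ?_⟩
    · rw [hadef, mul_smul_comm, e, smul_mul_assoc]
    · rw [hxa, mul_smul_comm, e, smul_mul_assoc]
  have hai : ∀ u v, B (a u) (a v) = -B u v := fun u v => by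
    rw [hadef]
    simp only [LinearMap.smul_apply, map_smul, smul_eq_mul, hiso x hx]
    linear_combination (B u v) * hi
  haveI : Nontrivial (plusSpace a) := nontrivial_plus h haa has
  have hresx : res a x = i • 1 := by rw [hxa, map_smul, res_self haa h2]
  -- the compressed group is ambient
  have hamb : Ambient i (resSet a R') (resGroup haa h2 Γ) := by
    refine ⟨fun c hc => ?_, ?_, ?_⟩
    · exact (inG_resGroup_iff haa h2).2 ⟨c • 1, hΓ.scal c hc, by simp, res_smul_one haa h2 c⟩
    · rintro _ ⟨f, ⟨hf, hfa⟩, rfl⟩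
      refine (inG_resGroup_iff haa h2).2 ⟨f, ?_, hfa, rfl⟩
      rw [hR'] at hf
      obtain ⟨r, hr, rfl | rfl⟩ := hf
      · exact inG_mem h hΓ hdim hr
      · have := (hΓ.scal i hi0).mul (inG_mem h hΓ hdim hr)
        rwa [smul_mul_assoc, one_mul] at this
    · rintro _ ⟨f, ⟨hf, hfa⟩, rfl⟩ hff
      have hf1 : f * f = 1 := by
        refine (h'.sq f hf).resolve_right fun e => (h'.pauli_res ha haa).neg_one_ne ?_
        rwa [← res_mul haa h2 hfa, e, map_neg, res_one haa h2] at hff
      obtain ⟨s, hs, hss, hsx, hq⟩ : ∃ s ∈ R, s * s = -1 ∧ Commute s x ∧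
          quarter i (res a f) = 1 + res a s := by
        have hfx : Commute f x := hcomm.2 hfa
        rw [hR'] at hf
        obtain ⟨r, hr, rfl | rfl⟩ := hf
        · exact ⟨x * f, h.mul_mem _ hx _ hr, by rw [hfx.mul_mul_mul_comm, hxx, hf1, mul_one],
            (Commute.refl x).mul_left hfx, by rw [quarter, res_mul haa h2 hfa, hresx, smul_mul_assoc, one_mul]⟩
        · rw [smul_mul_smul_comm, hi, neg_smul, one_smul, neg_eq_iff_eq_neg] at hf1
          have hrx : Commute r x := smul_right_injective E hi0 (by simpa using hfx.eq)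
          exact ⟨-r, h.neg_mem hr, by rwa [neg_mul_neg], hrx.neg_left,
            by rw [quarter, map_smul, smul_smul, hi, neg_smul, one_smul, map_neg]⟩
      rw [hq]
      by_cases hns : IsScalarMap (s * x)
      · have hne : ∀ c : F, c = 1 + i ∨ c = 1 - i → c ≠ 0 := by
          rintro c (rfl | rfl) e
          · exact h2 (by linear_combination (1 - i) * e + hi)
          · exact h2 (by linear_combination (1 + i) * e + hi)
        have key : ∀ c : F, c = 1 + i ∨ c = 1 - i → InG (resGroup haa h2 Γ) (c • 1) := fun c hc =>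
          (inG_resGroup_iff haa h2).2 ⟨c • 1, hΓ.scal c (hne c hc), by simp, res_smul_one haa h2 c⟩
        rcases h.eq_or_neg hs hx hns with e | e
        · rw [← e, hresx, show (1 : Module.End F (plusSpace a)) + i • 1 = (1 + i) • 1 by rw [add_smul, one_smul]]
          exact key _ (.inl rfl)
        · rw [show s = -x by rw [e, neg_neg], map_neg, hresx,
            show (1 : Module.End F (plusSpace a)) + -(i • 1) = (1 - i) • 1 by
              rw [sub_smul, one_smul, sub_eq_add_neg]]
          exact key _ (.inr rfl)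
      · have hc0 : (2 : F)⁻¹ * (1 + i) ≠ 0 :=
          mul_ne_zero (inv_ne_zero h2) fun e => h2 (by linear_combination (1 - i) * e + hi)
        have hxa' : x * a = a * x := hcomm.1 rfl
        have hsa : s * a = a * s := hcomm.1 hsx.eq
        have hG := (inG_resGroup_iff haa h2).2
          ⟨_, inG_cgate h hΓ hdim hs hss hx hxx hsx hns, gate_comm haa h2 hsa hxa', rfl⟩
        rw [res_gate haa h2 hxa', hresx, gate,
          show (1 : Module.End F (plusSpace a)) + i • 1 = (1 + i) • 1 by rw [add_smul, one_smul], mul_smul_comm,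
          mul_one, smul_smul] at hG
        have := ((inG_resGroup_iff haa h2).2
          ⟨((2 : F)⁻¹ * (1 + i))⁻¹ • 1, hΓ.scal _ (inv_ne_zero hc0), by simp,
            res_smul_one haa h2 ((2 : F)⁻¹ * (1 + i))⁻¹⟩).mul hG
        rwa [smul_mul_assoc, one_mul, inv_smul_smul₀ hc0] at this
  have hW : finrank F (plusSpace a) = 2 ^ (m + 1) := by
    have := h'.res_finrank ha haa has
    rw [hV, pow_succ] at this
    omega
  rcases Pauli.nor_or_sl hF hp2 hp3 m (h'.pauli_res ha haa) hW hamb with hnor | hsl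
  · left
    intro g g' hg h1 h1' hgx r hr hrx
    obtain ⟨μ, -, hs⟩ := hsim g hg
    have hga := hcomm.1 hgx
    have hg'a := comm_inv h1 h1' hga
    have hra : r * a = a * r := hcomm.1 hrx.eq
    obtain ⟨y, ⟨f₀, ⟨hf₀, hf₀a⟩, rfl⟩, e⟩ :=
      hnor (res a g) ((inG_resGroup_iff haa h2).2 ⟨g, hg, hga, rfl⟩) (res a r) ⟨r, ⟨hmemR hr, hra⟩, rfl⟩
    have hfa : g * r * g' * a = a * (g * r * g') := commute_conj hga hg'a hra
    have efres : res a (g * r * g') = res a f₀ := by
      rw [res_conj haa h2 hra hg'a, e, mul_assoc, res_inv haa h2 h1 hg'a, mul_one]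
    obtain ⟨r₃, hr₃, hr₃a, e3⟩ : ∃ r₃ ∈ R, r₃ * a = a * r₃ ∧ res a (g * r * g') = res a r₃ := by
      rw [hR'] at hf₀
      obtain ⟨r', hr', rfl | rfl⟩ := hf₀
      · exact ⟨_, hr', hf₀a, efres⟩
      · have hr'a : r' * a = a * r' := smul_right_injective E hi0 (by simpa using hf₀a)
        exact ⟨r' * x, h.mul_mem _ hr' _ hx, (Commute.mul_left hr'a (hcomm.1 (rfl : x * x = x * x))).eq,
          by rw [efres, res_mul haa h2 (hcomm.1 rfl), hresx, mul_smul_comm, mul_one, map_smul]⟩
    obtain ⟨s, hs', hr33⟩ := h.sq_sign hr₃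
    have hss : s * s = 1 := by rcases hs' with rfl | rfl <;> ring
    have hinv : s • r₃ * r₃ = 1 := by rw [smul_mul_assoc, hr33, smul_smul, hss, one_smul]
    have hra3 : s • r₃ * a = a * s • r₃ := by rw [smul_mul_assoc, hr₃a, mul_smul_comm]
    have hk := eq_proj_of_res_one haa h2 hai hN (k := g * r * g' * (s • r₃))
      (Commute.mul_left hfa hra3).eq (μ := 1) (fun u v => by
        show B ((g * r * g') ((s • r₃) u)) ((g * r * g') ((s • r₃) v)) = _
        rw [conj_isometry hs (hiso r hr) h1, one_mul,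
          LinearMap.smul_apply, LinearMap.smul_apply, map_smul, LinearMap.map_smul₂, hiso r₃ hr₃, smul_smul,
          hss, one_smul])
      (by rw [res_mul haa h2 hra3, e3, ← res_mul haa h2 hra3, mul_smul_comm, hr33, smul_smul, hss, one_smul,
        res_one haa h2])
    rw [one_smul, proj_add_neg haa h2] at hk
    rw [show g * r * g' = r₃ by rw [← mul_one (g * r * g'), ← hinv, ← mul_assoc, hk, one_mul]]
    exact hr₃
  · right
    intro f hfi hfx hf2
    obtain ⟨N, hN'⟩ : ∃ N : E, N = f - 1 := ⟨_, rfl⟩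
    have hf : f = 1 + N := by rw [hN', add_sub_cancel]
    have hNN : N * N = 0 := hN' ▸ hf2
    have hfa := hcomm.1 hfx
    have hNa : N * a = a * N := by rw [hN', sub_mul, mul_sub, hfa, one_mul, mul_one]
    obtain ⟨g, hg, hga, hge⟩ := (inG_resGroup_iff haa h2).1 (hsl (res a f) (by
      rw [hf, map_add, res_one haa h2]
      exact det_one_add (p := p) (by rw [← res_mul haa h2 hNa, hNN, map_zero])))
    obtain ⟨f', hf'⟩ : ∃ f' : E, f' = 1 - N := ⟨_, rfl⟩
    have f1 : f * f' = 1 := by rw [hf, hf']; simp [mul_sub, add_mul, hNN]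
    have f2 : f' * f = 1 := by rw [hf, hf']; simp [mul_add, sub_mul, hNN]
    have hf'a : f' * a = a * f' := by rw [hf', sub_mul, mul_sub, hNa, one_mul, mul_one]
    have hf'i : ∀ u v, B (f' u) (f' v) = B u v := fun u v => by
      rw [← hfi (f' u) (f' v), ← Module.End.mul_apply, ← Module.End.mul_apply, f1, Module.End.one_apply,
        Module.End.one_apply]
    obtain ⟨μ, hμ, hs⟩ := hsim g hg
    have hk := eq_proj_of_res_one haa h2 hai hN (k := g * f') (Commute.mul_left hga hf'a).eq (μ := μ)
      (fun u v => by rw [Module.End.mul_apply, Module.End.mul_apply, hs, hf'i])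
      (by rw [res_mul haa h2 hf'a, hge, ← res_mul haa h2 hf'a, f1, res_one haa h2])
    have hcf : Commute (proj a + μ • proj (-a)) f :=
      ((show Commute f (proj a) from comm_proj haa h2 hfa).symm).add_left
        ((show Commute f (proj (-a)) from comm_proj (neg_sq haa h2) h2 (comm_neg haa h2 hfa)).symm.smul_left μ)
    have hgk : g = (proj a + μ • proj (-a)) * f := by rw [← hk, mul_assoc, f2, mul_one]
    have hgp : InG Γ (g ^ (p - 1)) := InG.pow hg _
    rw [hgk, hcf.mul_pow, proj_add_smul_pow haa h2] at hgp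
    have hμp : μ ^ (p - 1) = 1 := by
      haveI := Fintype.ofFinite F
      rw [← hF, Nat.card_eq_fintype_card]
      exact FiniteField.pow_card_sub_one_eq_one μ hμ
    have hpp : 1 ≤ p := (Fact.out : p.Prime).one_le
    rw [hμp, one_smul, proj_add_neg haa h2, one_mul, hf, one_add_pow hNN, Nat.cast_sub hpp,
      CharP.cast_eq_zero, Nat.cast_one, zero_sub, neg_smul, one_smul, ← sub_eq_add_neg, ← hf'] at hgp
    exact hgp.inv f2

end CfsgLib.Classical.PauliForm.Real
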