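import Cfsg.Agent.Lib.Classical.PauliForm.Herm.Main
import Cfsg.Agent.Lib.Classical.PauliForm.Real.Split

/-!
# The centraliser of a turn when minus one is not a square

The turn makes the space a vector space over the quadratic extension, a symmetric form invariant under the turn gives
a Hermitian form, and the dichotomy for groups of similitudes of a Hermitian form applies.
-/

set_option autoImplicit false
set_option linter.unusedSectionVars false

namespace CfsgLib.Classical.PauliForm.Real

open Module CfsgLib.Classical CfsgLib.Classical.PauliMax CfsgLib.Classical.PauliForm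

attribute [local simp] QuadraticAlgebra.re_one QuadraticAlgebra.im_one

variable {F : Type*} [Field F] {V : Type*} [AddCommGroup V] [Module F V] [FiniteDimensional F V]

local notation "E" => Module.End F V

/-- The quadratic extension by a square root of minus one. -/
abbrev CExt (F : Type*) [Field F] := QuadraticAlgebra F (-1) 0

variable {R : Set (Module.End F V)} (h : RPauli R) [Nontrivial V] {Γ : Subgroup (Module.End F V)ˣ}
  (hΓ : RAmbient R Γ) (hdim : 8 ≤ finrank F V)
include h hΓ hdim

/-- The dichotomy at a turn when minus one is not a square, for a symmetric form invariant under the turn. -/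
theorem turnNor_or_bigAt_complex [Finite F] {p : ℕ} [Fact p.Prime] [CharP F p] (hF : Nat.card F = p)
    (h4p : p % 4 = 3) {B : V →ₗ[F] V →ₗ[F] F} (hsymm : ∀ u v, B u v = B v u) (hN : B.SeparatingRight) {x : E}
    (hx : x ∈ R) (hxx : x * x = -1) (hBx : ∀ u v, B (x u) (x v) = B u v)
    (hiso : ∀ r ∈ R, r * x = x * r → ∀ u v, B (r u) (r v) = B u v)
    (hsim : ∀ g : E, InG Γ g → g * x = x * g → ∃ μ : F, μ ≠ 0 ∧ ∀ u v, B (g u) (g v) = μ * B u v) {m : ℕ}
    (hV : finrank F V = 2 ^ (m + 3)) : TurnNor R Γ x ∨ BigAt B Γ x := by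
  classical
  have h2 := h.two_ne
  haveI := Fintype.ofFinite F
  have hns : ∀ r : F, r ^ 2 ≠ -1 := by
    intro r hr
    have h1 : IsSquare (-1 : F) := ⟨r, by rw [← hr, pow_two]⟩
    rw [FiniteField.isSquare_neg_one_iff, ← Nat.card_eq_fintype_card, hF] at h1
    exact h1 h4p
  haveI : Fact (∀ r : F, r ^ 2 ≠ -1 + 0 * r) := ⟨fun r hr => hns r (by rw [hr]; ring)⟩
  haveI : Finite (CExt F) := Module.finite_of_finite F
  haveI := Fintype.ofFinite (CExt F)
  have hK : Nat.card (CExt F) = p ^ 2 := by
    rw [Module.natCard_eq_pow_finrank (K := F), QuadraticAlgebra.finrank_eq_two, hF]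
  haveI : CharP (CExt F) p := charP_of_injective_algebraMap (algebraMap F (CExt F)).injective p
  obtain ⟨σ, hσ, hconj⟩ := exists_frob (F := CExt F) (q := p) (by rw [← Nat.card_eq_fintype_card, hK])
  obtain ⟨ω, hω⟩ : ∃ ω : CExt F, ω = ⟨0, 1⟩ := ⟨_, rfl⟩
  have hωω : ω * ω = -1 := by rw [hω]; ext <;> simp
  have hσω : σ ω = -ω := Herm.sigma_i h4p hσ hωω
  have hσF : ∀ r : F, σ (algebraMap F (CExt F) r) = algebraMap F (CExt F) r := fun r => by
    rw [hσ, ← map_pow, ← hF, Nat.card_eq_fintype_card, FiniteField.pow_card]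
  have hsplit : ∀ c : CExt F, c = algebraMap F (CExt F) c.re + algebraMap F (CExt F) c.im * ω := fun c => by
    rw [hω]; ext <;> simp
  have hσc : ∀ c : CExt F, σ c = ⟨c.re, -c.im⟩ := fun c => by
    conv_lhs => rw [hsplit c, map_add, map_mul, hσF, hσF, hσω]
    rw [hω]; ext <;> simp
  -- the action
  obtain ⟨ρ, hρ⟩ : ∃ ρ : CExt F →ₐ[F] E, ∀ c : CExt F, ρ c = c.re • 1 + c.im • x := by
    refine ⟨QuadraticAlgebra.lift ⟨x, by rw [hxx, zero_smul, add_zero, neg_smul, one_smul]⟩, fun c => ?_⟩
    simp [QuadraticAlgebra.lift]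
  letI : Module (CExt F) V := Module.compHom V ρ.toRingHom
  have hsmul : ∀ (c : CExt F) (v : V), c • v = c.re • v + c.im • x v := fun c v => by
    show ρ c v = _
    rw [hρ]; rfl
  haveI : IsScalarTower F (CExt F) V := ⟨fun r c v => by
    show ρ (r • c) v = r • ρ c v
    rw [map_smul, LinearMap.smul_apply]⟩
  haveI : Module.Finite (CExt F) V := Module.Finite.of_restrictScalars_finite F (CExt F) V
  have hVK : finrank (CExt F) V = 2 ^ (m + 2) := by
    have := Module.finrank_mul_finrank F (CExt F) V
    rw [QuadraticAlgebra.finrank_eq_two, hV, pow_succ] at this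
    omega
  have hωv : ∀ v, ω • v = x v := fun v => by rw [hsmul, hω]; simp
  -- maps commuting with the turn
  let dn : Module.End (CExt F) V → E := fun f => f.restrictScalars F
  have hdn : ∀ f g, dn (f * g) = dn f * dn g := fun f g => rfl
  have hdinj : Function.Injective dn := LinearMap.restrictScalars_injective F
  have hdnx : ∀ f, dn f * x = x * dn f := fun f => LinearMap.ext fun v => by
    show f (x v) = x (f v)
    rw [← hωv, ← hωv, map_smul]
  have hup : ∀ g : E, g * x = x * g → ∃ f : Module.End (CExt F) V, dn f = g := fun g hg => by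
    refine ⟨{ g with map_smul' := fun c v => ?_ }, rfl⟩
    show g (c • v) = c • g v
    rw [hsmul, hsmul, map_add, map_smul, map_smul,
      show g (x v) = x (g v) from LinearMap.congr_fun hg v]
  have hdsmul : ∀ (c : CExt F) (f : Module.End (CExt F) V), dn (c • f) = ρ c * dn f := fun c f => rfl
  have hdone : dn 1 = 1 := rfl
  -- the form
  let H : V →ₛₗ[σ] V →ₗ[CExt F] CExt F := LinearMap.mk₂'ₛₗ σ (RingHom.id _)
    (fun u v => (⟨B u v, -B u (x v)⟩ : CExt F))
    (fun u₁ u₂ v => by ext <;> simp; ring)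
    (fun c u v => by
      have e1 : B (x u) v = -B u (x v) := by
        have h3 := hBx u (x v)
        have hxv : x (x v) = -v := by rw [← Module.End.mul_apply, hxx]; rfl
        rw [hxv, map_neg] at h3
        linear_combination -h3
      rw [hσc, hsmul]
      ext <;> simp [e1, hBx] <;> ring)
    (fun u v₁ v₂ => by ext <;> simp; ring)
    (fun c u v => by
      have hxv : x (x v) = -v := by rw [← Module.End.mul_apply, hxx]; rfl
      rw [RingHom.id_apply, hsmul]
      ext <;> simp [hxv] <;> ring)
  have hHre : ∀ u v, H u v = (⟨B u v, -B u (x v)⟩ : CExt F) := fun u v => rfl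
  have hH : IsHermitian H := ⟨hconj, fun u v => by
    have e1 : B v (x u) = -B u (x v) := by
      have h3 := hBx v (x u)
      have hxu : x (x u) = -u := by rw [← Module.End.mul_apply, hxx]; rfl
      rw [hxu, map_neg, hsymm (x v) u] at h3
      linear_combination -h3
    rw [hσc, hHre, hHre]
    ext <;> simp [hsymm u v, e1]⟩
  have hHN : H.SeparatingRight := fun v hv => hN v fun u => congrArg QuadraticAlgebra.re (hv u)
  have hHsim : ∀ (f : Module.End (CExt F) V) (μ : F), (∀ u v, B (dn f u) (dn f v) = μ * B u v) →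
      ∀ u v, H (f u) (f v) = algebraMap F (CExt F) μ * H u v := by
    intro f μ hf u v
    have e2 : B (f u) (x (f v)) = μ * B u (x v) := by
      rw [← hf, show x (f v) = dn f (x v) from (LinearMap.congr_fun (hdnx f) v).symm]
      rfl
    have e3 : B (f u) (f v) = μ * B u v := hf u v
    rw [hHre, hHre]
    ext <;> simp [e2, e3]
  -- the system
  obtain ⟨RK, hRK⟩ : ∃ RK : Set (Module.End (CExt F) V), RK = {f | dn f ∈ R} := ⟨_, rfl⟩
  have hRK' : ∀ f, f ∈ RK ↔ dn f ∈ R := fun f => by rw [hRK]; rfl
  have hP : Pauli ω RK := by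
    subst hRK
    refine ⟨hωω, fun e => h2 ?_, h.one_mem, fun f hf g hg => h.mul_mem _ hf _ hg, ?_, fun f hf => ?_,
      fun f hf g hg => ?_, ?_⟩
    · have := congrArg QuadraticAlgebra.re e
      simpa [QuadraticAlgebra.re_ofNat] using this
    · show dn (ω • 1) ∈ R
      rw [hdsmul, hdone, mul_one, hρ, hω]
      simpa using hx
    · exact (h.sq _ hf).imp (fun e => hdinj e) (fun e => hdinj e)
    · exact (h.comm _ hg _ hf).imp (fun e => hdinj e) (fun e => hdinj e)
    · refine eq_top_iff.2 fun f _ => ?_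
      have hcx : ∀ g : E, ((2 : F)⁻¹ • (g - x * g * x)) * x = x * ((2 : F)⁻¹ • (g - x * g * x)) := fun g => by
        rw [smul_mul_assoc, mul_smul_comm, sub_mul, mul_sub, mul_assoc (x * g) x x, hxx, mul_neg_one, ← mul_assoc,
          ← mul_assoc, hxx, neg_one_mul, neg_mul]
        congr 1
        abel
      let Φ : E →ₗ[F] Module.End (CExt F) V :=
        { toFun := fun g => (hup _ (hcx g)).choose
          map_add' := fun g g' => hdinj (by
            show _ = dn (hup _ (hcx g)).choose + dn (hup _ (hcx g')).choose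
            rw [(hup _ (hcx (g + g'))).choose_spec, (hup _ (hcx g)).choose_spec, (hup _ (hcx g')).choose_spec,
              mul_add, add_mul, ← smul_add]
            congr 1
            abel)
          map_smul' := fun r g => hdinj (by
            show _ = r • dn (hup _ (hcx g)).choose
            rw [(hup _ (hcx (r • g))).choose_spec, (hup _ (hcx g)).choose_spec, mul_smul_comm, smul_mul_assoc,
              ← smul_sub, smul_comm]) }
      have hΦ : ∀ g, dn (Φ g) = (2 : F)⁻¹ • (g - x * g * x) := fun g => (hup _ (hcx g)).choose_spec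
      have hfix : Φ (dn f) = f := hdinj (by
        rw [hΦ, ← hdnx, mul_assoc, hxx, mul_neg_one, sub_neg_eq_add, ← two_smul F, inv_smul_smul₀ h2])
      rw [← hfix]
      have hle : (Submodule.span F R).map Φ ≤
          (Submodule.span (CExt F) {g : Module.End (CExt F) V | dn g ∈ R}).restrictScalars F := by
        refine (Submodule.map_span_le _ _ _).2 fun r hr => ?_
        rcases h.cases hr hx with e | e
        · refine Submodule.subset_span ?_
          show dn (Φ r) ∈ R
          rw [hΦ, ← e.eq, mul_assoc, hxx, mul_neg_one, sub_neg_eq_add, ← two_smul F, inv_smul_smul₀ h2]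
          exact hr
        · have : Φ r = 0 := hdinj (by
            show dn (Φ r) = 0
            rw [hΦ, e.symm, neg_mul, mul_assoc, hxx, mul_neg_one, neg_neg, sub_self, smul_zero])
          rw [this]
          exact Submodule.zero_mem _
      exact hle ⟨dn f, h.full.symm ▸ Submodule.mem_top, rfl⟩
  have hPiso : ∀ r ∈ RK, ∀ u v, H (r u) (r v) = H u v := fun r hr u v => by
    rw [hHsim r 1 (fun u v => by rw [one_mul]; exact hiso _ ((hRK' _).1 hr) (hdnx r) u v), map_one, one_mul]
  -- the group
  let ΓK : Subgroup (Module.End (CExt F) V)ˣ :=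
    { carrier := {u | ∃ d : CExt F, d ≠ 0 ∧ InG Γ (dn (d • (u : Module.End (CExt F) V)))}
      one_mem' := ⟨1, one_ne_zero, by rw [one_smul]; exact ⟨1, Γ.one_mem, rfl⟩⟩
      mul_mem' := by
        rintro u v ⟨d, hd, hu⟩ ⟨e, he, hv⟩
        refine ⟨d * e, mul_ne_zero hd he, ?_⟩
        rw [Units.val_mul, ← smul_mul_smul_comm, hdn]
        exact hu.mul hv
      inv_mem' := by
        rintro u ⟨d, hd, hu⟩
        refine ⟨d⁻¹, inv_ne_zero hd, hu.inv ?_⟩
        rw [← hdn, smul_mul_smul_comm, mul_inv_cancel₀ hd, one_smul, Units.mul_inv, hdone] }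
  have hmk : ∀ (f : Module.End (CExt F) V) (d : CExt F), d ≠ 0 → InG Γ (dn (d • f)) → InG ΓK f := by
    intro f d hd hf
    obtain ⟨g', -, h1, h1'⟩ := hf.exists_inv
    obtain ⟨f', hf'⟩ := hup g' (comm_inv h1 h1' (hdnx _))
    have e1 : (d • f) * f' = 1 := hdinj (by rw [hdn, hf', h1, hdone])
    have e2 : f' * (d • f) = 1 := hdinj (by rw [hdn, hf', h1', hdone])
    exact ⟨⟨f, d • f', by rw [mul_smul_comm, ← smul_mul_assoc, e1], by rw [smul_mul_assoc, ← mul_smul_comm, e2]⟩,
      ⟨d, hd, hf⟩, rfl⟩
  have hamb : Ambient ω RK ΓK := by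
    refine ⟨fun c hc => hmk _ c⁻¹ (inv_ne_zero hc) ?_, fun r hr => hmk _ 1 one_ne_zero ?_, fun a ha haa => ?_⟩
    · rw [smul_smul, inv_mul_cancel₀ hc, one_smul]
      exact ⟨1, Γ.one_mem, rfl⟩
    · rw [one_smul]
      exact inG_mem h hΓ hdim ((hRK' _).1 hr)
    · have hr : dn a ∈ R := (hRK' _).1 ha
      have hrx : Commute (dn a) x := hdnx a
      have hrr : dn a * dn a = 1 := by rw [← hdn, haa, hdone]
      by_cases hns' : IsScalarMap (dn a)
      · obtain ⟨c, hc, hac⟩ : ∃ c : CExt F, c ≠ 0 ∧ quarter ω a = c • 1 := by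
          rcases h.scalar_mem _ hr hns' with e | e
          · refine ⟨1 + ω, fun e' => one_ne_zero (α := F) ?_, ?_⟩
            · have := congrArg QuadraticAlgebra.re e'
              simpa [hω] using this
            · rw [show a = 1 from hdinj e, quarter, add_smul, one_smul]
          · refine ⟨1 - ω, fun e' => one_ne_zero (α := F) ?_, ?_⟩
            · have := congrArg QuadraticAlgebra.re e'
              simpa [hω] using this
            · rw [show a = -1 from hdinj e, quarter, smul_neg, sub_smul, one_smul, sub_eq_add_neg]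
        rw [hac]
        exact hmk _ c⁻¹ (inv_ne_zero hc) (by rw [smul_smul, inv_mul_cancel₀ hc, one_smul]; exact ⟨1, Γ.one_mem, rfl⟩)
      · have hss : x * dn a * (x * dn a) = -1 := by rw [hrx.mul_mul_mul_comm, hxx, hrr, mul_one]
        have hnss : ¬ IsScalarMap (x * dn a * x) := by
          rw [mul_assoc, hrx.eq, ← mul_assoc, hxx, neg_one_mul]
          exact not_scalar_neg_self h hns'
        refine hmk _ ⟨(2 : F)⁻¹, (2 : F)⁻¹⟩ (fun e => inv_ne_zero h2 (congrArg QuadraticAlgebra.re e)) ?_
        have hG := inG_cgate h hΓ hdim (h.mul_mem _ hx _ hr) hss hx hxx ((Commute.refl x).mul_left hrx) hnss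
        have e : dn (quarter ω a) = 1 + x * dn a := by
          show dn 1 + dn (ω • a) = _
          rw [hdsmul, hρ, hω, hdone]
          simp
        rw [hdsmul, e, hρ]
        rwa [gate, ← ((Commute.one_left (1 + x * dn a)).add_left
          ((Commute.one_right x).add_right ((Commute.refl x).mul_right hrx.symm))).eq, ← smul_mul_assoc,
          smul_add] at hG
  have hsimK : ∀ g, InG ΓK g → ∃ μ : CExt F, μ ≠ 0 ∧ ∀ u v, H (g u) (g v) = μ * H u v := by
    rintro g ⟨u, ⟨d, hd, hu⟩, rfl⟩
    obtain ⟨μ, hμ, hs⟩ := hsim _ hu (hdnx _)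
    have hdd : σ d * d ≠ 0 := mul_ne_zero (fun e => hd (by rw [← hconj.invol d, e, map_zero])) hd
    refine ⟨algebraMap F (CExt F) μ / (σ d * d), div_ne_zero
      (fun e => hμ ((algebraMap F (CExt F)).injective (by rw [e, map_zero]))) hdd, fun a b => ?_⟩
    have := hHsim (d • (u : Module.End (CExt F) V)) μ hs a b
    simp only [LinearMap.smul_apply, map_smulₛₗ, RingHom.id_apply, smul_eq_mul] at this
    rw [div_mul_eq_mul_div, eq_div_iff hdd, ← this]
    ring
  rcases Herm.nor_or_tv (Fact.out : p.Prime) hK h4p hσ hωω m hH hHN hVK hP hPiso hamb hsimK with hnor | htv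
  · left
    intro g g' hg h1 _ hgx r hr hrx
    obtain ⟨gK, rfl⟩ := hup g hgx
    obtain ⟨rK, rfl⟩ := hup r hrx.eq
    obtain ⟨y, hy, e⟩ := hnor gK (hmk _ 1 one_ne_zero (by rwa [one_smul])) rK ((hRK' _).2 hr)
    rw [← hdn, e, hdn, mul_assoc, h1, mul_one]
    exact (hRK' _).1 hy
  · right
    intro f hfi hfx hf2
    obtain ⟨fK, rfl⟩ := hup f hfx
    -- the transvections
    have hT : ∀ (w : V) (c : CExt F), H w w = 0 → c + σ c = 0 → InG Γ (dn (Herm.tvMap H w c)) := by
      intro w c hw hc
      obtain ⟨u, ⟨d, hd, hu⟩, hue⟩ := htv w c hw hc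
      have hTe : (u : Module.End (CExt F) V) = 1 + c • (H w).smulRight w := hue
      rw [hTe] at hu
      obtain ⟨N, hN'⟩ : ∃ N : Module.End (CExt F) V, N = c • (H w).smulRight w := ⟨_, rfl⟩
      have hNN : N * N = 0 := LinearMap.ext fun v => by simp [hN', hw]
      rw [← hN'] at hu
      have hpow : ∀ j : ℕ, InG Γ (dn ((d • (1 + N)) ^ j)) := by
        intro j
        induction j with
        | zero => exact ⟨1, Γ.one_mem, by rw [pow_zero]; rfl⟩
        | succ j ih => rw [pow_succ, hdn]; exact ih.mul hu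
      have hq := hpow (p ^ 2 - 1)
      have hdp : d ^ (p ^ 2 - 1) = 1 := by
        rw [← hK, Nat.card_eq_fintype_card]
        exact FiniteField.pow_card_sub_one_eq_one d hd
      rw [smul_pow, hdp, one_smul, one_add_pow hNN, Nat.cast_sub (Nat.one_le_pow _ _ (Fact.out : p.Prime).pos),
        Nat.cast_pow, CharP.cast_eq_zero, zero_pow two_ne_zero, Nat.cast_one, zero_sub, neg_smul, one_smul,
        ← sub_eq_add_neg] at hq
      refine hq.inv ?_
      rw [← hdn, show Herm.tvMap H w c = 1 + N by rw [hN']; rfl,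
        show (1 - N) * (1 + N) = 1 by simp [mul_add, sub_mul, hNN], hdone]
    have hfK : ∀ u v, H (fK u) (fK v) = H u v := fun u v => by
      rw [hHsim fK 1 (fun u v => by rw [one_mul]; exact hfi u v), map_one, one_mul]
    obtain ⟨g, hg⟩ := hH.exists_of_preserving hHN fK hfK
    have hge : Herm.isoEnd g = fK := LinearMap.ext fun v => by rw [Herm.isoEnd_apply, hg]
    have hNK : (fK - 1) * (fK - 1) = 0 := hdinj hf2
    have hdet : g ∈ sIsom H := MonoidHom.mem_ker.2 (by
      show LinearMap.det (Herm.isoEnd g) = 1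
      rw [hge, show fK = 1 + (fK - 1) by abel]
      exact det_one_add (p := p) hNK)
    let M : Subgroup (isomGroup H) :=
      { carrier := {g | InG Γ (dn (Herm.isoEnd g))}
        one_mem' := ⟨1, Γ.one_mem, rfl⟩
        mul_mem' := fun {a b} ha hb => by
          show InG Γ (dn (Herm.isoEnd (a * b)))
          rw [Herm.isoEnd_mul, hdn]
          exact ha.mul hb
        inv_mem' := fun {a} ha => ha.inv (by rw [← hdn, Herm.isoEnd_mul_inv, hdone]) }
    have hM : tGroup H ≤ M := by
      refine (Subgroup.closure_le _).2 ?_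
      rintro a ⟨w, c, ha⟩
      show InG Γ (dn (Herm.isoEnd a))
      rw [Herm.isoEnd_uTv ha]
      exact hT w c ha.1 ha.2.1
    have h4 : 4 ≤ finrank (CExt F) V := by
      rw [hVK, show (4 : ℕ) = 2 ^ 2 from rfl]
      exact Nat.pow_le_pow_right (by norm_num) (by omega)
    have : InG Γ (dn (Herm.isoEnd g)) := hM (hH.sIsom_eq_tGroup hHN (fun _ => .inr h4) ▸ hdet)
    rwa [hge] at this

end CfsgLib.Classical.PauliForm.Real
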