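import Cfsg.Agent.Lib.Classical.PauliForm.Extra
import Cfsg.Agent.Lib.Classical.PauliForm.Real.Centralizer
import Cfsg.Prelude.Def_GeometricClasses
import Mathlib.RingTheory.SimpleModule.Basic

/-!
# Extraspecial systems from matrix groups of symplectic type with centre of order two
-/

set_option autoImplicit false
set_option linter.unusedSectionVars false

namespace CfsgLib.Classical.PauliForm.Real

open Module Matrix Cfsg Cfsg.Geo CfsgLib.Classical.PauliMax CfsgLib.Classical.PauliForm
open scoped MatrixGroups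

variable {F : Type*} [Field F] {ι : Type} [Fintype ι] [DecidableEq ι]

/-- The linear map of a matrix. -/
abbrev lin (M : Matrix ι ι F) : Module.End F (ι → F) := Matrix.toLinAlgEquiv' M

/-- The linear maps of the elements of a group of matrices. -/
def mapOf (R : Subgroup (GL ι F)) : Set (Module.End F (ι → F)) :=
  Matrix.toLinAlgEquiv' '' matrixSet R

theorem mem_mapOf {R : Subgroup (GL ι F)} {x : GL ι F} (hx : x ∈ R) :
    lin (x : Matrix ι ι F) ∈ mapOf R := ⟨_, ⟨x, hx, rfl⟩, rfl⟩

theorem mem_of_mapOf {R : Subgroup (GL ι F)} {x : GL ι F}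
    (hx : lin (x : Matrix ι ι F) ∈ mapOf R) : x ∈ R := by
  obtain ⟨_, ⟨y, hy, rfl⟩, e⟩ := hx
  rwa [← Units.ext (Matrix.toLinAlgEquiv'.injective e)]

/-- An absolutely irreducible matrix group spans all maps. -/
theorem span_mapOf_eq_top [Nonempty ι] {R : Subgroup (GL ι F)}
    (hR : ActsAbsolutelyIrreducibly (matrixSet R)) : Submodule.span F (mapOf R) = ⊤ := by
  classical
  let S : Subalgebra F (Module.End F (ι → F)) :=
    (Submodule.span F (mapOf R)).toSubalgebra
      (Submodule.subset_span ⟨1, ⟨1, R.one_mem, Units.val_one⟩, map_one _⟩) (by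
        intro f g hf hg
        have := Submodule.mul_mem_mul hf hg
        rw [Submodule.span_mul_span] at this
        refine Submodule.span_mono ?_ this
        rintro _ ⟨_, ⟨_, ⟨x, hx, rfl⟩, rfl⟩, _, ⟨_, ⟨y, hy, rfl⟩, rfl⟩, rfl⟩
        exact ⟨_, ⟨x * y, R.mul_mem hx hy, rfl⟩, map_mul Matrix.toLinAlgEquiv' (x : Matrix ι ι F) y⟩)
  have hmem : ∀ x ∈ R, lin (x : Matrix ι ι F) ∈ S := fun x hx => Submodule.subset_span (mem_mapOf hx)
  haveI : IsSimpleModule S (ι → F) := by
    rw [isSimpleModule_iff]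
    refine { exists_pair_ne := ⟨⊥, ⊤, bot_ne_top⟩, eq_bot_or_eq_top := fun W => ?_ }
    let W' : Submodule F (ι → F) :=
      { carrier := W
        add_mem' := fun ha hb => W.add_mem ha hb
        zero_mem' := W.zero_mem
        smul_mem' := fun c v hv => by
          have : (algebraMap F S c) • v = c • v := rfl
          exact this ▸ W.smul_mem _ hv }
    rcases hR.1 W' (by
      rintro _ ⟨x, hx, rfl⟩ _ ⟨v, hv, rfl⟩
      exact W.smul_mem (⟨_, hmem x hx⟩ : S) (show v ∈ W from hv)) with h | h
    · exact .inl (SetLike.ext fun v => (SetLike.ext_iff.mp h v : _))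
    · exact .inr (SetLike.ext fun v => (SetLike.ext_iff.mp h v : _))
  have hend : ∀ f : Module.End S (ι → F), ∃ c : F, ∀ v, f v = c • v := by
    intro f
    let f' : Module.End F (ι → F) :=
      { toFun := f
        map_add' := f.map_add
        map_smul' := fun c v => f.map_smul (algebraMap F S c) v }
    obtain ⟨c, hc⟩ := hR.2 (Matrix.toLinAlgEquiv'.symm f') (by
      rintro _ ⟨x, hx, rfl⟩
      refine Matrix.toLinAlgEquiv'.injective ?_
      rw [map_mul, map_mul, AlgEquiv.apply_symm_apply]
      exact LinearMap.ext fun v => f.map_smul (⟨_, hmem x hx⟩ : S) v)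
    refine ⟨c, fun v => ?_⟩
    have h : lin (Matrix.toLinAlgEquiv'.symm f') v = lin (c • 1) v := by rw [hc]
    rw [lin, lin, AlgEquiv.apply_symm_apply, map_smul, map_one] at h
    exact h
  rw [eq_top_iff]
  rintro L -
  let L' : Module.End (Module.End S (ι → F)) (ι → F) :=
    { toFun := L
      map_add' := L.map_add
      map_smul' := fun f v => by
        obtain ⟨c, hc⟩ := hend f
        show L (f v) = f (L v)
        rw [hc, hc, map_smul] }
  obtain ⟨s, hs⟩ := jacobson_density (R := S) L'
    (Finset.univ.image fun i : ι => (Pi.single i 1 : ι → F))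
  have e : L = (s : Module.End F (ι → F)) := LinearMap.pi_ext' fun i => LinearMap.ext_ring
    (hs (Pi.single i 1) (Finset.mem_image_of_mem _ (Finset.mem_univ _)))
  rw [e]
  exact s.2

variable {R : Subgroup (GL ι F)}

section

variable [Fintype F] [Nonempty ι] (hST : IsSymplecticTypeGroup 2 R)
  (habs : ActsAbsolutelyIrreducibly (matrixSet R)) (hZ : Nat.card (Subgroup.center R) = 2)
include hST habs hZ

omit hZ habs in
theorem pow_four {x : GL ι F} (hx : x ∈ R) : x ^ 4 = 1 := by
  have := Monoid.pow_exponent_eq_one (⟨x, hx⟩ : R)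
  rw [hST.exponent_eq] at this
  simpa using congrArg Subtype.val this

omit hZ in
theorem central_scalar {x : R} (hx : x ∈ Subgroup.center R) :
    ∃ c : F, lin ((x : GL ι F) : Matrix ι ι F) = c • 1 := by
  obtain ⟨c, hc⟩ := habs.2 ((x : GL ι F) : Matrix ι ι F) (by
    rintro _ ⟨y, hy, rfl⟩
    exact congrArg (fun z : R => ((z : GL ι F) : Matrix ι ι F))
      (Subgroup.mem_center_iff.mp hx ⟨y, hy⟩).symm)
  exact ⟨c, by rw [lin, hc, map_smul, map_one]⟩

omit habs in
theorem sq_one_of_central {x : R} (hx : x ∈ Subgroup.center R) : x * x = 1 := by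
  have h := pow_card_eq_one' (x := (⟨x, hx⟩ : Subgroup.center R))
  rw [hZ, pow_two] at h
  exact congrArg Subtype.val h

theorem central_sign {x : R} (hx : x ∈ Subgroup.center R) :
    lin ((x : GL ι F) : Matrix ι ι F) = 1 ∨ lin ((x : GL ι F) : Matrix ι ι F) = -1 := by
  obtain ⟨c, hc⟩ := central_scalar hST habs hx
  have h := congrArg (fun z : R => lin ((z : GL ι F) : Matrix ι ι F)) (sq_one_of_central hST hZ hx)
  simp only [Subgroup.coe_mul, Units.val_mul, Subgroup.coe_one, Units.val_one, lin, map_mul, map_one] at h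
  rw [show Matrix.toLinAlgEquiv' ((x : GL ι F) : Matrix ι ι F) = c • 1 from hc, smul_mul_smul_comm, one_mul] at h
  haveI : Nontrivial (ι → F) := Function.nontrivial
  have hcc : c * c = 1 := smul_one_eq_iff.1 (h.trans (one_smul F _).symm)
  rcases mul_self_eq_one_iff.1 hcc with rfl | rfl
  · exact .inl (by rw [hc, one_smul])
  · exact .inr (hc.trans (LinearMap.ext fun v => by simp))

omit habs in
theorem commutator_central (x y : R) : x * y * x⁻¹ * y⁻¹ ∈ Subgroup.center R :=
  commutator_central_of_centre_two hST.pGroup (fun g => Subtype.ext (by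
    rw [Subgroup.coe_pow, Subgroup.coe_one]; exact pow_four hST g.2)) hST.cyclic_of_characteristic hZ x y

omit habs in
theorem sq_central (x : R) : x * x ∈ Subgroup.center R := by
  refine Subgroup.mem_center_iff.2 fun y => ?_
  obtain ⟨z, hz, hze⟩ : ∃ z ∈ Subgroup.center R, z = x * y * x⁻¹ * y⁻¹ :=
    ⟨_, commutator_central hST hZ x y, rfl⟩
  have hxy : x * y = z * (y * x) := by rw [hze]; group
  have hzx : z * x = x * z := (Subgroup.mem_center_iff.1 hz x).symm
  calc y * (x * x) = z * z * (y * (x * x)) := by rw [sq_one_of_central hST hZ hz, one_mul]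
    _ = z * (z * (y * x)) * x := by group
    _ = z * (x * y) * x := by rw [hxy]
    _ = (z * x) * (y * x) := by group
    _ = x * (z * (y * x)) := by rw [hzx]; group
    _ = x * x * y := by rw [← hxy]; group

/-- The system of a group of symplectic type with centre of order two. -/
theorem rpauli_of_data (h2 : (2 : F) ≠ 0) : RPauli (mapOf R) := by
  classical
  have hneg : (-1 : Module.End F (ι → F)) ∈ mapOf R := by
    obtain ⟨⟨z, hz⟩, hne⟩ : ∃ z : Subgroup.center R, z ≠ 1 := by
      haveI : Nontrivial (Subgroup.center R) :=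
        Finite.one_lt_card_iff_nontrivial.1 (by rw [hZ]; norm_num)
      exact exists_ne 1
    rcases central_sign hST habs hZ hz with e | e
    · exfalso
      refine hne (Subtype.ext (Subtype.ext (Units.ext ?_)))
      exact Matrix.toLinAlgEquiv'.injective (e.trans (map_one _).symm)
    · exact e ▸ mem_mapOf z.2
  refine ⟨h2, ⟨1, ⟨1, R.one_mem, Units.val_one⟩, map_one _⟩, hneg, ?_, ?_, ?_, span_mapOf_eq_top habs, ?_⟩
  · rintro _ ⟨_, ⟨x, hx, rfl⟩, rfl⟩ _ ⟨_, ⟨y, hy, rfl⟩, rfl⟩
    exact ⟨_, ⟨x * y, R.mul_mem hx hy, rfl⟩, map_mul Matrix.toLinAlgEquiv' (x : Matrix ι ι F) y⟩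
  · rintro _ ⟨_, ⟨x, hx, rfl⟩, rfl⟩
    have := central_sign hST habs hZ (sq_central hST hZ ⟨x, hx⟩)
    simpa [lin, map_mul] using this
  · rintro _ ⟨_, ⟨x, hx, rfl⟩, rfl⟩ _ ⟨_, ⟨y, hy, rfl⟩, rfl⟩
    have e : x * y = x * y * x⁻¹ * y⁻¹ * (y * x) := by group
    have hc := central_sign hST habs hZ (commutator_central hST hZ ⟨x, hx⟩ ⟨y, hy⟩)
    simp only [Subgroup.coe_mul, Subgroup.coe_inv] at hc
    rcases hc with hc | hc
    · left
      rw [← map_mul, ← Units.val_mul, e, Units.val_mul, map_mul, show Matrix.toLinAlgEquiv' _ = _ from hc,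
        one_mul, Units.val_mul, map_mul]
    · right
      rw [← map_mul, ← Units.val_mul, e, Units.val_mul, map_mul, show Matrix.toLinAlgEquiv' _ = _ from hc,
        Units.val_mul, map_mul]
      exact LinearMap.ext fun v => by simp
  · rintro _ ⟨_, ⟨x, hx, rfl⟩, rfl⟩ ⟨c, hc⟩
    refine central_sign hST habs hZ (x := ⟨x, hx⟩) (Subgroup.mem_center_iff.2 fun y => ?_)
    refine Subtype.ext (Units.ext (Matrix.toLinAlgEquiv'.injective ?_))
    simp only [Subgroup.coe_mul, Units.val_mul, map_mul, hc, mul_smul_comm, smul_mul_assoc, mul_one, one_mul]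

/-- The degree is the square root of the order of the central quotient. -/
theorem card_index_of_data (h2 : (2 : F) ≠ 0) {k : ℕ} (hcard : Nat.card R = 2 ^ (1 + 2 * k)) :
    Fintype.card ι = 2 ^ k := by
  classical
  haveI : Nontrivial (ι → F) := Function.nontrivial
  have h := rpauli_of_data hST habs hZ h2
  let Q := R ⧸ Subgroup.center R
  haveI : Fintype Q := Fintype.ofFinite _
  have hQ : Fintype.card Q = 2 ^ (2 * k) := by
    have := Subgroup.card_eq_card_quotient_mul_card_subgroup (Subgroup.center R)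
    rw [hcard, hZ, Nat.card_eq_fintype_card, Nat.add_comm, pow_succ] at this
    exact (mul_right_cancel₀ (by norm_num : (2 : ℕ) ≠ 0) this).symm
  let v : Q → Module.End F (ι → F) := fun q => lin ((q.out : GL ι F) : Matrix ι ι F)
  have hvmem : ∀ q, v q ∈ mapOf R := fun q => mem_mapOf q.out.2
  have hv : ∀ x : R, lin ((x : GL ι F) : Matrix ι ι F) = v (QuotientGroup.mk x) ∨
      lin ((x : GL ι F) : Matrix ι ι F) = -v (QuotientGroup.mk x) := by
    intro x
    obtain ⟨z, hz⟩ := QuotientGroup.mk_out_eq_mul (Subgroup.center R) x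
    have e : v (QuotientGroup.mk x) = lin ((x : GL ι F) : Matrix ι ι F) *
        lin (((z : R) : GL ι F) : Matrix ι ι F) := by
      show lin (((QuotientGroup.mk x : Q).out : GL ι F) : Matrix ι ι F) = _
      rw [hz, Subgroup.coe_mul, Units.val_mul, lin, map_mul]
    rcases central_sign hST habs hZ z.2 with e' | e' <;> rw [e'] at e
    · exact .inl (by rw [e, mul_one])
    · exact .inr (LinearMap.ext fun w => by rw [e]; simp [Matrix.mulVec_neg])
  have hspan : ⊤ ≤ Submodule.span F (Set.range v) := by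
    rw [← h.full]
    refine Submodule.span_le.2 ?_
    rintro _ ⟨_, ⟨x, hx, rfl⟩, rfl⟩
    rcases hv ⟨x, hx⟩ with e | e <;> rw [show Matrix.toLinAlgEquiv' _ = _ from e]
    · exact Submodule.subset_span ⟨_, rfl⟩
    · exact Submodule.neg_mem _ (Submodule.subset_span ⟨_, rfl⟩)
  have hsep : ∀ q₀ q₁, q₀ ≠ q₁ → ¬ IsScalarMap (v q₀ * v q₁) := by
    intro q₀ q₁ hne hs'
    refine hne ?_
    rw [← QuotientGroup.out_eq' q₀, ← QuotientGroup.out_eq' q₁]
    refine QuotientGroup.eq.2 ?_
    rcases h.eq_or_neg (hvmem q₀) (hvmem q₁) hs' with e | e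
    · have : q₁.out = q₀.out := Subtype.ext (Units.ext (Matrix.toLinAlgEquiv'.injective e))
      rw [this, inv_mul_cancel]; exact one_mem _
    · refine Subgroup.mem_center_iff.2 fun y => ?_
      refine Subtype.ext (Units.ext (Matrix.toLinAlgEquiv'.injective ?_))
      have e1 : lin (((q₀.out : R)⁻¹ * q₁.out : R) : GL ι F).1 = -1 := by
        rw [Subgroup.coe_mul, Units.val_mul, lin, map_mul,
          show Matrix.toLinAlgEquiv' ((q₁.out : GL ι F) : Matrix ι ι F) = -v q₀ from e]
        refine LinearMap.ext fun w => ?_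
        simp [v, lin, Module.End.mul_apply, Matrix.mulVec_neg, Matrix.mulVec_mulVec, Subgroup.coe_inv, -Matrix.coe_units_inv]
      simp only [Subgroup.coe_mul, Units.val_mul, map_mul] at e1 ⊢
      rw [e1]
      exact LinearMap.ext fun w => by simp [Matrix.mulVec_neg]
  have hli : LinearIndependent F v := by
    suffices key : ∀ (T : Finset Q) (c : Q → F), ∑ q ∈ T, c q • v q = 0 → ∀ q ∈ T, c q = 0 from
      Fintype.linearIndependent_iff.2 fun c hc q => key Finset.univ c hc q (Finset.mem_univ q)
    intro T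
    induction T using Finset.strongInduction with
    | _ T ih =>
      intro c hc q₀ hq₀
      by_cases h1 : ∃ q₁ ∈ T, q₀ ≠ q₁
      swap
      · push Not at h1
        rw [Finset.sum_eq_single q₀ (fun q hq hne => absurd (h1 q hq).symm hne) (fun h => absurd hq₀ h)] at hc
        exact (smul_eq_zero.1 hc).resolve_right (h.ne_zero (hvmem q₀))
      obtain ⟨q₁, hq₁, hne⟩ := h1
      -- a member telling the two apart
      obtain ⟨y, hy, hya⟩ := h.exists_anti (h.mul_mem _ (hvmem q₀) _ (hvmem q₁)) (hsep q₀ q₁ hne)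
      have hyu := h.isUnit hy
      set A := T.filter fun q => Commute y (v q) with hA
      have hdiff : ¬ (q₀ ∈ A ∧ q₁ ∈ A) ∧ ¬ (q₀ ∉ A ∧ q₁ ∉ A) := by
        simp only [hA, Finset.mem_filter, hq₀, hq₁, true_and]
        refine ⟨fun e => h.not_commute_anti hyu (h.isUnit (h.mul_mem _ (hvmem q₀) _ (hvmem q₁)))
          (e.1.mul_right e.2) hya, fun e => h.not_commute_anti hyu
            (h.isUnit (h.mul_mem _ (hvmem q₀) _ (hvmem q₁))) ?_ hya⟩
        exact Anti.mul_anti ((h.cases hy (hvmem q₀)).resolve_left e.1) ((h.cases hy (hvmem q₁)).resolve_left e.2)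
      have hA0 : ∑ q ∈ A, c q • v q = 0 := by
        have hterm : ∀ q, y * (c q • v q) + (c q • v q) * y =
            if Commute y (v q) then y * ((2 : F) • (c q • v q)) else 0 := by
          intro q
          split_ifs with e
          · rw [mul_smul_comm, smul_mul_assoc, ← e.eq, mul_smul_comm, mul_smul_comm, two_smul]
          · rw [mul_smul_comm, smul_mul_assoc, (h.cases hy (hvmem q)).resolve_left e, ← smul_add,
              neg_add_cancel, smul_zero]
        have h2' : y * (∑ q ∈ T, c q • v q) + (∑ q ∈ T, c q • v q) * y = y * ((2 : F) • ∑ q ∈ A, c q • v q) := by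
          rw [Finset.mul_sum, Finset.sum_mul, ← Finset.sum_add_distrib, Finset.sum_congr rfl fun q _ => hterm q,
            ← Finset.sum_filter, Finset.smul_sum, Finset.mul_sum]
        rw [hc, mul_zero, zero_mul, add_zero] at h2'
        have h3 : (2 : F) • ∑ q ∈ A, c q • v q = 0 := hyu.mul_right_eq_zero.1 h2'.symm
        exact (smul_eq_zero.1 h3).resolve_left h2
      have hB0 : ∑ q ∈ T \ A, c q • v q = 0 := by
        rw [Finset.sum_sdiff_eq_sub (Finset.filter_subset _ T), hc, hA0, sub_zero]
      by_cases hm : q₀ ∈ A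
      · exact ih A (Finset.filter_ssubset.2 ⟨q₁, hq₁, fun e =>
          hdiff.1 ⟨hm, Finset.mem_filter.2 ⟨hq₁, e⟩⟩⟩) c hA0 q₀ hm
      · have hq₁A : q₁ ∈ A := by
          by_contra e
          exact hdiff.2 ⟨hm, e⟩
        exact ih (T \ A) (Finset.sdiff_ssubset (Finset.filter_subset _ T) ⟨q₁, hq₁A⟩) c hB0 q₀
          (Finset.mem_sdiff.2 ⟨hq₀, hm⟩)
  have hb := finrank_eq_card_basis (Basis.mk hli hspan)
  rw [Module.finrank_linearMap, Module.finrank_fintype_fun_eq_card, hQ, pow_mul'] at hb
  exact (pow_left_inj₀ (Nat.zero_le _) (Nat.zero_le _) (by norm_num)).1 ((pow_two _).trans hb)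

end

end CfsgLib.Classical.PauliForm.Real
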