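import Cfsg.Agent.Lib.Classical.PauliForm.Real.Basic

/-!
# Groups in which centralisers of turns act as members

Let `K` contain the scalars and the system, be normalised by the gates, and let every element of `K` commuting up
to a sign with a member squaring to `-1` be a multiple of a member.  Then every element of `K` is one.  In degree
four this needs minus type: two commuting involutions of the system agree up to a sign.
-/

set_option autoImplicit false
set_option linter.unusedSectionVars false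

namespace CfsgLib.Classical.PauliForm.Real

open Module CfsgLib.Classical.PauliMax CfsgLib.Classical.PauliForm

variable {F : Type*} [Field F] {V : Type*} [AddCommGroup V] [Module F V] [FiniteDimensional F V]

local notation "E" => Module.End F V

/-- A multiple of a member. -/
def Line (R : Set (Module.End F V)) (f : Module.End F V) : Prop := ∃ r ∈ R, ∃ c : F, f = c • r

/-- Conjugation by the group carries no member to a multiple of a member other than itself or its negative. -/
def Fuse (R : Set (Module.End F V)) (Γ : Subgroup (Module.End F V)ˣ) : Prop :=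
  ∀ g g' r r₂ : Module.End F V, ∀ c : F, InG Γ g → g * g' = 1 → g' * g = 1 → r ∈ R → r₂ ∈ R →
    g * r * g' = c • r₂ → c = 1 ∨ c = -1

/-- The hypotheses on the group. -/
structure KernelHyp (R : Set (Module.End F V)) (K : Subgroup (Module.End F V)ˣ) : Prop where
  mem : ∀ r ∈ R, InG K r
  fuse : Fuse R K
  conj : ∀ x ∈ R, ∀ z ∈ R, x * x = -1 → z * z = -1 → Anti z x → ∀ k : Module.End F V, InG K k →
    InG K (gate x z * k * gateInv x z)
  good : ∀ k : Module.End F V, InG K k → ∀ x ∈ R, x * x = -1 → PM k x → Line R k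

theorem pm_of_conj {g g' y : E} (h2 : g' * g = 1) (h : g * y * g' = y ∨ g * y * g' = -y) : PM g y := by
  rcases h with e | e
  · refine .inl ?_
    nth_rw 2 [← e]
    rw [mul_assoc _ g' g, h2, mul_one]
  · refine .inr ?_
    have : y = -(g * y * g') := by rw [e, neg_neg]
    nth_rw 2 [this]
    rw [neg_mul, neg_neg, mul_assoc _ g' g, h2, mul_one]

theorem Fuse.mem {R : Set (Module.End F V)} (h : RPauli R) {Γ : Subgroup Eˣ} (hf : Fuse R Γ) {g g' r : E}
    (hg : InG Γ g) (h1 : g * g' = 1) (h2 : g' * g = 1) (hr : r ∈ R) (hl : Line R (g * r * g')) :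
    g * r * g' ∈ R := by
  obtain ⟨r₂, hr₂, c, e⟩ := hl
  rw [e]
  exact h.sign_mem hr₂ (hf g g' r r₂ c hg h1 h2 hr hr₂ e)

variable {R : Set (Module.End F V)}

theorem nor_conj_mem {g g' x : E} (h1 : g * g' = 1) (hN : Nor R g) (hx : x ∈ R) : g * x * g' ∈ R := by
  obtain ⟨y, hy, e⟩ := hN x hx
  rwa [e, mul_assoc, h1, mul_one]

theorem nor_of_conj {g g' : E} (h2 : g' * g = 1) (hm : ∀ x ∈ R, g * x * g' ∈ R) : Nor R g :=
  fun x hx => ⟨g * x * g', hm x hx, by rw [mul_assoc, h2, mul_one]⟩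

theorem conj_mem_inv [Finite F] {g g' : E} (h1 : g * g' = 1) (h2 : g' * g = 1) (hN : Nor R g) :
    ∀ x ∈ R, g' * x * g ∈ R := by
  classical
  haveI : Finite E := Module.finite_of_finite F
  haveI : Finite R := Finite.of_injective Subtype.val Subtype.val_injective
  have hinj : Function.Injective fun x : R => (⟨g * (x : E) * g', nor_conj_mem h1 hN x.2⟩ : R) :=
    fun x y e => Subtype.ext (by
      have := congrArg (fun z => g' * z * g) (congrArg Subtype.val e)
      simpa [conj_cancel h2] using this)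
  intro x hx
  obtain ⟨⟨y, hy⟩, e⟩ := (Finite.injective_iff_surjective.1 hinj) ⟨x, hx⟩
  have e' : g * y * g' = x := congrArg Subtype.val e
  rwa [← e', conj_cancel h2]

section

variable (h : RPauli R) [Nontrivial V]
include h

theorem Line.pm {f y : E} (hf : Line R f) (hy : y ∈ R) : PM f y := by
  obtain ⟨r, hr, c, rfl⟩ := hf
  exact (h.comm r hr y hy).smul_left c

theorem Line.nor {f : E} (hf : Line R f) : Nor R f := by
  obtain ⟨r, hr, c, rfl⟩ := hf
  exact (h.nor_mem hr).smul c

theorem triple_anti_ne {x z y : E} (hx : x ∈ R) (hz : z ∈ R) (hy : y ∈ R) (hys : ¬ IsScalarMap y)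
    (ht : InTriple x z y) : y = x ∨ y = -x ∨ y = z ∨ y = -z ∨ y = x * z ∨ y = -(x * z) := by
  obtain ⟨e, he, hye⟩ := ht
  rcases he with rfl | rfl | rfl | rfl
  · exfalso
    rcases hye with rfl | rfl
    · exact hys ⟨1, (one_smul F _).symm⟩
    · exact hys ⟨-1, by rw [neg_smul, one_smul]⟩
  all_goals rcases hye with e | e <;> simp [e]

variable [Finite F] {K : Subgroup (Module.End F V)ˣ} (hK : KernelHyp R K)
include hK

/-- The commutator of a normalising element with a gate. -/
theorem comm_gate {k k' x z : E} (hk : InG K k) (h1 : k * k' = 1) (h2 : k' * k = 1) (hN : Nor R k) (hx : x ∈ R)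
    (hxx : x * x = -1) (hz : z ∈ R) (hzz : z * z = -1) (ha : Anti z x) :
    InG K (k * (gate x z * k' * gateInv x z)) ∧ Nor R (k * (gate x z * k' * gateInv x z)) := by
  refine ⟨hk.mul (hK.conj x hx z hz hxx hzz ha k' (hk.inv h1)), ?_⟩
  exact hN.mul (((h.nor_gate hx hxx hz hzz).mul (nor_of_conj h1 (conj_mem_inv h1 h2 hN))).mul
    (h.nor_gateInv hx hxx hz hzz))

omit h hK in
/-- The commutator fixes a member commuting with the pair and with its image. -/
theorem comm_gate_fix (h0 : RPauli R) {k k' x z v : E} (h1 : k * k' = 1) (h2 : k' * k = 1) (hxx : x * x = -1)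
    (hzz : z * z = -1) (cx : Commute v x) (cz : Commute v z) (ckx : Commute v (k * x * k'))
    (ckz : Commute v (k * z * k')) : Commute (k * (gate x z * k' * gateInv x z)) v := by
  have c1 : Commute (k' * v * k) x := by
    have := commute_conj' (g := k') (g' := k) ckx h1
    rwa [conj_cancel h2] at this
  have c2 : Commute (k' * v * k) z := by
    have := commute_conj' (g := k') (g' := k) ckz h1
    rwa [conj_cancel h2] at this
  have e1 : k * (k' * v * k) = v * k := by rw [← mul_assoc, ← mul_assoc, h1, one_mul]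
  calc k * (gate x z * k' * gateInv x z) * v
      = k * (gate x z * k' * (gateInv x z * v)) := by simp only [mul_assoc]
    _ = k * (gate x z * (k' * v) * gateInv x z) := by rw [← (commute_gateInv cx cz).eq]; simp only [mul_assoc]
    _ = k * (gate x z * (k' * v * k) * k' * gateInv x z) := by
        simp only [mul_assoc]; rw [← mul_assoc k k', h1, one_mul]
    _ = k * ((k' * v * k) * gate x z * k' * gateInv x z) := by rw [(commute_gate c1 c2).eq]
    _ = (k * (k' * v * k)) * gate x z * k' * gateInv x z := by simp only [mul_assoc]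
    _ = v * (k * (gate x z * k' * gateInv x z)) := by rw [e1]; simp only [mul_assoc]

omit hK in
/-- If the commutator is a multiple of a member, the element permutes the pair. -/
theorem triple_of_line {k k' x z : E} (h1 : k * k' = 1) (h2 : k' * k = 1) (hN : Nor R k) (hx : x ∈ R)
    (hxx : x * x = -1) (hz : z ∈ R) (hzz : z * z = -1) (ha : Anti z x)
    (hl : Line R (k * (gate x z * k' * gateInv x z))) :
    InTriple x z (k * x * k') ∧ InTriple x z (k * z * k') := by
  obtain ⟨r, hr, c, hc⟩ := hl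
  set P := gate x z with hP
  set Q := gateInv x z with hQ
  have hPQ : P * Q = 1 := gate_mul_inv h.two_ne hxx hzz
  have hQP : Q * P = 1 := gate_inv_mul h.two_ne hxx hzz
  have hkP : k * P * k' = c • (r * P) := by
    have := congrArg (· * P) hc
    simp only [mul_assoc, hQP, mul_one, smul_mul_assoc] at this
    rwa [← mul_assoc] at this
  have hc0 : c ≠ 0 := fun e => by
    rw [e, zero_smul] at hkP
    have := congrArg (fun f => f * (k * Q * k')) hkP
    simp only [conj_mul h2, hPQ, mul_one, h1, zero_mul] at this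
    exact one_ne_zero this
  obtain ⟨u, hu⟩ := h.isUnit hr
  have hkQ : k * Q * k' = c⁻¹ • (Q * (↑u⁻¹ : E)) := by
    refine left_inv_eq_right_inv (a := k * P * k') ?_ ?_
    · rw [conj_mul h2, hQP, mul_one, h1]
    · rw [hkP, smul_mul_smul_comm, mul_inv_cancel₀ hc0, one_smul, mul_assoc, ← mul_assoc P, hPQ, one_mul, ← hu,
        Units.mul_inv]
  have move : ∀ Y ∈ R, InTriple x z (Y * ((k * P * k') * Y * (k * Q * k'))) := by
    intro Y hY
    obtain ⟨w, hw, hwy⟩ : ∃ w ∈ R, w = P * Y * Q :=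
      ⟨_, nor_conj_mem hPQ (h.nor_gate hx hxx hz hzz) hY, rfl⟩
    have hmid : (k * P * k') * Y * (k * Q * k') = r * w * (↑u⁻¹ : E) := by
      rw [hkP, hkQ, smul_mul_assoc, smul_mul_smul_comm, mul_inv_cancel₀ hc0, one_smul, hwy]
      simp only [mul_assoc]
    have hb := h.gate_move hx hxx hz hzz ha hY
    rw [← hP, ← hQ, ← hwy] at hb
    rw [hmid]
    rcases h.cases hr hw with e | e
    · rwa [e.eq, mul_assoc w r, ← hu, Units.mul_inv, mul_one]
    · rw [e, neg_mul, mul_assoc w r, ← hu, Units.mul_inv, mul_one, mul_neg]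
      exact hb.neg
  have img : ∀ y ∈ R, InTriple x z (k * (y * (P * y * Q)) * k') := by
    intro y hy
    have := move _ (nor_conj_mem h1 hN hy)
    rwa [conj_mul h2, conj_mul h2, conj_mul h2] at this
  refine ⟨?_, ?_⟩
  · have := img z hz
    rwa [hP, hQ, gate_conj_right h.two_ne hxx hzz ha,
      show z * (x * z) = x by rw [← mul_assoc, ha, neg_mul, mul_assoc, hzz, mul_neg_one, neg_neg]] at this
  · have := img (x * z) (h.mul_mem _ hx _ hz)
    rwa [hP, hQ, show gate x z * (x * z) * gateInv x z = (gate x z * x * gateInv x z) * (gate x z * z * gateInv x z)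
        from (conj_mul (gate_inv_mul h.two_ne hxx hzz)).symm,
      gate_conj_left h.two_ne hxx hzz ha, gate_conj_right h.two_ne hxx hzz ha,
      show x * z * (z * (x * z)) = x * (z * z) * (x * z) by simp only [mul_assoc],
      hzz, mul_neg_one, neg_mul, ← mul_assoc, hxx, neg_one_mul, neg_neg] at this

theorem line_of_pm_image {k k' y : E} (hk : InG K k) (h2 : k' * k = 1) (hy : y ∈ R)
    (hyy : y * y = -1) (he : k * y * k' = y ∨ k * y * k' = -y) : Line R k :=
  hK.good k hk y hy hyy (pm_of_conj h2 he)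

theorem sq_conj {k k' y : E} (h1 : k * k' = 1) (h2 : k' * k = 1) (hyy : y * y = -1) :
    k * y * k' * (k * y * k') = -1 := by
  rw [conj_mul h2, hyy, mul_neg, mul_one, neg_mul, h1]

/-- Above degree seven: the images of turns anticommute with them. -/
theorem anti_image (hdim : 5 ≤ finrank F V) {k k' : E} (hk : InG K k) (h1 : k * k' = 1) (h2 : k' * k = 1)
    (hN : Nor R k) (hnl : ¬ Line R k) {x : E} (hx : x ∈ R) (hxx : x * x = -1) : Anti (k * x * k') x := by
  obtain ⟨x₀, hx₀⟩ : ∃ x₀ : E, x₀ = k * x * k' := ⟨_, rfl⟩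
  rw [← hx₀]
  have hx₀R : x₀ ∈ R := hx₀ ▸ nor_conj_mem h1 hN hx
  have hx₀x₀ : x₀ * x₀ = -1 := by rw [hx₀]; exact sq_conj h hK h1 h2 hxx
  rcases h.cases hx₀R hx with hc | hc
  swap
  · exact hc
  exfalso
  have hns : ¬ IsScalarMap (x * x₀) := fun hs => hnl (line_of_pm_image h hK hk h2 hx hxx
    (hx₀ ▸ h.eq_or_neg hx hx₀R hs))
  obtain ⟨w, hw, hww, hwx, hwx₀, s, hs, sx, sw, su⟩ := h.exists_neg_anti_two hdim hx hxx hx₀R hx₀x₀ hc.symm hns
  have hsx₀ : Anti s x₀ := by
    have e : x₀ = -(x * (x * x₀)) := by rw [← mul_assoc, hxx, neg_one_mul, neg_neg]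
    rw [e]
    exact (Anti.comm_mul_right sx su).neg_right
  obtain ⟨z, hz, hzz, hzx, hzx₀⟩ : ∃ z ∈ R, z * z = -1 ∧ Anti z x ∧ Commute z x₀ := by
    have hzx : Anti (w * s) x := (Anti.mul_comm_right hwx.symm sx.symm).symm
    have hzx₀ : Commute (w * s) x₀ := (Anti.mul_anti hwx₀.symm hsx₀.symm).symm
    rcases h.sq s hs with e | e
    · exact ⟨w * s, h.mul_mem _ hw _ hs, by rw [sw.mul_mul_mul_comm, hww, e, mul_one], hzx, hzx₀⟩
    have hu : x * x₀ ∈ R := h.mul_mem _ hx _ hx₀R
    have hux : Commute (x * x₀) x := (Commute.refl x).mul_left hc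
    have huw : Commute (x * x₀) w := (Anti.mul_anti hwx hwx₀).symm
    obtain ⟨p, hp, q, hq, hpq, ⟨px, pw, pu, ps⟩, qx, qw, qu, qs⟩ :=
      h.exists_pair_two hdim hx hw hu hs hwx su hux huw sx sw
    obtain ⟨c, hcR, hcc, hcu⟩ := h.exists_neg_of_pair hp hq hpq
    have cx := hcu x px.symm qx.symm
    have cw := hcu w pw.symm qw.symm
    have cu := hcu _ pu.symm qu.symm
    have cs := hcu s ps.symm qs.symm
    have cx₀ : Commute c x₀ := by
      have e : x₀ = -(x * (x * x₀)) := by rw [← mul_assoc, hxx, neg_one_mul, neg_neg]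
      rw [e]
      exact (cx.symm.mul_right cu.symm).neg_right
    refine ⟨w * s * c, h.mul_mem _ (h.mul_mem _ hw _ hs) _ hcR, ?_, (Anti.mul_comm_right hzx.symm cx).symm,
      hzx₀.mul_left cx₀⟩
    rw [(cw.mul_left cs).symm.mul_mul_mul_comm, sw.mul_mul_mul_comm, hww, e, hcc, neg_mul_neg, one_mul, one_mul]
  obtain ⟨z₀, hz₀⟩ : ∃ z₀ : E, z₀ = k * z * k' := ⟨_, rfl⟩
  have hz₀R : z₀ ∈ R := hz₀ ▸ nor_conj_mem h1 hN hz
  obtain ⟨e, he, c1, c2⟩ := h.gate_pair_cases hx hz hzx z₀ hz₀R
  have heR := RPauli.corr_mem h hx hz he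
  have hanti : Anti (z₀ * e) x₀ := by
    have : Anti z₀ x₀ := by rw [hz₀, hx₀]; exact anti_conj hzx h2
    exact (Anti.mul_comm_right this.symm (RPauli.corr_comm he hc hzx₀.symm)).symm
  obtain ⟨p, hp, q, hq, hpq, ⟨px, pz, pu, pv⟩, qx, qz, qu, qv⟩ :=
    h.exists_pair_two hdim hx hz hx₀R (h.mul_mem _ hz₀R _ heR) hzx hanti hc hzx₀.symm c1 c2
  obtain ⟨v, hv, hvv, hvu⟩ := h.exists_neg_of_pair hp hq hpq
  have vx := (hvu x px.symm qx.symm).symm
  have vz := (hvu z pz.symm qz.symm).symm
  have vz₀ : Commute v z₀ := by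
    obtain ⟨t, ht, hee⟩ := h.sq_sign heR
    have e1 : z₀ = t • (z₀ * e * e) := by
      rw [mul_assoc, hee, mul_smul_comm, mul_one, smul_smul,
        show t * t = 1 by rcases ht with rfl | rfl <;> ring, one_smul]
    rw [e1]
    exact (((hvu _ pv.symm qv.symm).symm).mul_right (RPauli.corr_comm he vx vz)).smul_right t
  have hfix := comm_gate_fix h (k := k) (k' := k') h1 h2 hxx hzz vx vz
    (hx₀ ▸ (hvu x₀ pu.symm qu.symm).symm) (hz₀ ▸ vz₀)
  obtain ⟨hcG, -⟩ := comm_gate h hK hk h1 h2 hN hx hxx hz hzz hzx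
  have ht := (triple_of_line h h1 h2 hN hx hxx hz hzz hzx (hK.good _ hcG v hv hvv (.inl hfix))).1
  rw [← hx₀] at ht
  rcases triple_anti_ne h hx hz hx₀R (h.not_scalar_neg hx₀R hx₀x₀) ht with e | e | e | e | e | e
  · exact hnl (line_of_pm_image h hK hk h2 hx hxx (.inl (hx₀ ▸ e)))
  · exact hnl (line_of_pm_image h hK hk h2 hx hxx (.inr (hx₀ ▸ e)))
  all_goals rw [e] at hc
  · exact h.not_commute_anti (h.isUnit hz) (h.isUnit hx) hc hzx
  · exact h.not_commute_anti (h.isUnit hz) (h.isUnit hx) (by simpa using hc.neg_left) hzx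
  · exact h.not_commute_anti (h.isUnit (h.mul_mem _ hx _ hz)) (h.isUnit hx) hc
      (Anti.comm_mul_right (Commute.refl x) hzx.symm).symm
  · exact h.not_commute_anti (h.isUnit (h.mul_mem _ hx _ hz)) (h.isUnit hx) (by simpa using hc.neg_left)
      (Anti.comm_mul_right (Commute.refl x) hzx.symm).symm

/-- Above degree seven: the square of the image of a turn is its product with the image. -/
theorem sq_image (hdim : 5 ≤ finrank F V) {k k' : E} (hk : InG K k) (h1 : k * k' = 1) (h2 : k' * k = 1)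
    (hN : Nor R k) (hnl : ¬ Line R k) {x : E} (hx : x ∈ R) (hxx : x * x = -1) :
    k * (k * x * k') * k' = x * (k * x * k') ∨ k * (k * x * k') * k' = -(x * (k * x * k')) := by
  have ha := anti_image h hK hdim hk h1 h2 hN hnl hx hxx
  obtain ⟨z, hzdef⟩ : ∃ z : E, z = k * x * k' := ⟨_, rfl⟩
  rw [← hzdef] at ha ⊢
  have hz : z ∈ R := hzdef ▸ nor_conj_mem h1 hN hx
  have hzz : z * z = -1 := by rw [hzdef]; exact sq_conj h hK h1 h2 hxx
  obtain ⟨u, hu⟩ : ∃ u : E, u = k * z * k' := ⟨_, rfl⟩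
  rw [← hu]
  have huR : u ∈ R := hu ▸ nor_conj_mem h1 hN hz
  obtain ⟨e, he, c1, c2⟩ := h.gate_pair_cases hx hz ha u huR
  have heR := RPauli.corr_mem h hx hz he
  obtain ⟨v, hv, hvv, vx, vz, vu'⟩ : ∃ v ∈ R, v * v = -1 ∧ Commute v x ∧ Commute v z ∧ Commute v (u * e) := by
    by_cases hs : IsScalarMap (u * e)
    · obtain ⟨p, hp, q, hq, hpq, px, pz, qx, qz⟩ := h.exists_pair (by omega) hx hz ha
      obtain ⟨v, hv, hvv, hvu⟩ := h.exists_neg_of_pair hp hq hpq
      obtain ⟨c, hc⟩ := hs
      exact ⟨v, hv, hvv, (hvu x px.symm qx.symm).symm, (hvu z pz.symm qz.symm).symm,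
        by rw [hc]; exact (Commute.one_right v).smul_right c⟩
    · have hu' := h.mul_mem _ huR _ heR
      obtain ⟨s, hs', hsa⟩ := h.exists_anti hu' hs
      obtain ⟨e', he', d1, d2⟩ := h.gate_pair_cases hx hz ha s hs'
      have hsa' : Anti (s * e') (u * e) := (Anti.mul_comm_right hsa.symm (RPauli.corr_comm he' c1 c2)).symm
      obtain ⟨p, hp, q, hq, hpq, ⟨px, pz, pu, -⟩, qx, qz, qu, -⟩ :=
        h.exists_pair_two hdim hx hz hu' (h.mul_mem _ hs' _ (RPauli.corr_mem h hx hz he')) ha hsa' c1 c2 d1 d2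
      obtain ⟨v, hv, hvv, hvu⟩ := h.exists_neg_of_pair hp hq hpq
      exact ⟨v, hv, hvv, (hvu x px.symm qx.symm).symm, (hvu z pz.symm qz.symm).symm, (hvu _ pu.symm qu.symm).symm⟩
  have vu : Commute v u := by
    obtain ⟨t, ht, hee⟩ := h.sq_sign heR
    have e1 : u = t • (u * e * e) := by
      rw [mul_assoc, hee, mul_smul_comm, mul_one, smul_smul,
        show t * t = 1 by rcases ht with rfl | rfl <;> ring, one_smul]
    rw [e1]
    exact (vu'.mul_right (RPauli.corr_comm he vx vz)).smul_right t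
  have hfix := comm_gate_fix h (k := k) (k' := k') h1 h2 hxx hzz vx vz (hzdef ▸ vz) (hu ▸ vu)
  obtain ⟨hcG, -⟩ := comm_gate h hK hk h1 h2 hN hx hxx hz hzz ha
  have ht := (triple_of_line h h1 h2 hN hx hxx hz hzz ha (hK.good _ hcG v hv hvv (.inl hfix))).2
  rw [← hu] at ht
  have huu : u * u = -1 := by rw [hu]; exact sq_conj h hK h1 h2 hzz
  have hswap : ∀ t : F, t = 1 ∨ t = -1 → u = t • x → Line R k := by
    intro t ht' e0
    have hxz : x * z * (x * z) = -1 := by
      rw [mul_assoc, ← mul_assoc z x z, ha, neg_mul, mul_assoc x z z, hzz, mul_neg_one, neg_neg, hxx]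
    refine line_of_pm_image h hK hk h2 (h.mul_mem _ hx _ hz) hxz ?_
    rw [← conj_mul h2, ← hzdef, ← hu, e0, mul_smul_comm, ha]
    rcases ht' with rfl | rfl
    · exact .inr (one_smul F _)
    · exact .inl (by rw [neg_smul, one_smul, neg_neg])
  rcases triple_anti_ne h hx hz huR (h.not_scalar_neg huR huu) ht with e0 | e0 | e0 | e0 | e0 | e0
  · exact absurd (hswap 1 (.inl rfl) (by rw [e0, one_smul])) hnl
  · exact absurd (hswap (-1) (.inr rfl) (by rw [e0, neg_smul, one_smul])) hnl
  · exact absurd (line_of_pm_image h hK hk h2 hz hzz (.inl (hu ▸ e0))) hnl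
  · exact absurd (line_of_pm_image h hK hk h2 hz hzz (.inr (hu ▸ e0))) hnl
  · exact .inl e0
  · exact .inr e0

/-- Above degree seven a normalising element of `K` is a multiple of a member. -/
theorem line_of_nor_large (hdim : 5 ≤ finrank F V) {k : E} (hk : InG K k) (hN : Nor R k) : Line R k := by
  by_contra hnl
  obtain ⟨k', hk', h1, h2⟩ := hk.exists_inv
  obtain ⟨a, ha, hns⟩ : ∃ a ∈ R, ¬ IsScalarMap a := by
    by_contra hcon
    push Not at hcon
    have hle : Submodule.span F R ≤ Submodule.span F (({1} : Finset E) : Set E) := Submodule.span_le.2 fun r hr => by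
      obtain ⟨c, rfl⟩ := hcon r hr
      exact Submodule.smul_mem _ _ (Submodule.subset_span (by simp))
    rw [h.full] at hle
    have h3 := Submodule.finrank_mono hle
    have h4 := finrank_span_finset_le_card (R := F) ({1} : Finset E)
    rw [Set.finrank, Finset.card_singleton] at h4
    rw [finrank_top, Module.finrank_linearMap] at h3
    nlinarith
  obtain ⟨b, hb, hba⟩ := h.exists_anti ha hns
  obtain ⟨x, hx, hxx, -⟩ := h.exists_neg_of_pair ha hb hba
  have hax := anti_image h hK hdim hk h1 h2 hN hnl hx hxx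
  obtain ⟨z, hzdef⟩ : ∃ z : E, z = k * x * k' := ⟨_, rfl⟩
  rw [← hzdef] at hax
  have hz : z ∈ R := hzdef ▸ nor_conj_mem h1 hN hx
  have hzz : z * z = -1 := by rw [hzdef]; exact sq_conj h hK h1 h2 hxx
  -- two commuting turns orthogonal to the pair
  obtain ⟨p, hp, q, hq, hpq, px, pz, qx, qz⟩ := h.exists_pair (by omega) hx hz hax
  obtain ⟨u₁, hu₁, hu₁₁, hu₁u⟩ := h.exists_neg_of_pair hp hq hpq
  have u₁x := (hu₁u x px.symm qx.symm).symm
  have u₁z := (hu₁u z pz.symm qz.symm).symm
  obtain ⟨f, hf, hfu⟩ := h.exists_anti hu₁ (h.not_scalar_neg hu₁ hu₁₁)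
  obtain ⟨e', he', d1, d2⟩ := h.gate_pair_cases hx hz hax f hf
  have hfu' : Anti (f * e') u₁ := (Anti.mul_comm_right hfu.symm (RPauli.corr_comm he' u₁x u₁z)).symm
  obtain ⟨p', hp', q', hq', hpq', ⟨px', pz', pu', pf'⟩, qx', qz', qu', qf'⟩ :=
    h.exists_pair_two hdim hx hz hu₁ (h.mul_mem _ hf _ (RPauli.corr_mem h hx hz he')) hax hfu' u₁x u₁z d1 d2
  obtain ⟨u₂, hu₂, hu₂₂, hu₂u⟩ := h.exists_neg_of_pair hp' hq' hpq'
  have u₂x := (hu₂u x px'.symm qx'.symm).symm
  have u₂z := (hu₂u z pz'.symm qz'.symm).symm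
  have u₂u₁ := (hu₂u u₁ pu'.symm qu'.symm).symm
  have u₂f := (hu₂u _ pf'.symm qf'.symm).symm
  obtain ⟨s, hsdef⟩ : ∃ s : E, s = u₁ * u₂ := ⟨_, rfl⟩
  have hs : s ∈ R := hsdef ▸ h.mul_mem _ hu₁ _ hu₂
  have hss : s * s = 1 := by rw [hsdef, u₂u₁.mul_mul_mul_comm, hu₁₁, hu₂₂, neg_mul_neg, one_mul]
  have hsns : ¬ IsScalarMap s := h.not_scalar_anti hs (h.mul_mem _ hf _ (RPauli.corr_mem h hx hz he'))
    (hsdef ▸ (Anti.mul_comm_right hfu' u₂f.symm).symm)
  have sx : Commute s x := hsdef ▸ u₁x.mul_left u₂x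
  have sz : Commute s z := hsdef ▸ u₁z.mul_left u₂z
  obtain ⟨z', hz'def⟩ : ∃ z' : E, z' = z * s := ⟨_, rfl⟩
  have hz' : z' ∈ R := hz'def ▸ h.mul_mem _ hz _ hs
  have hz'z' : z' * z' = -1 := by rw [hz'def, sz.mul_mul_mul_comm, hzz, hss, mul_one]
  have hz'x : Anti z' x := hz'def ▸ (Anti.mul_comm_right hax.symm sx.symm).symm
  have sz' : Commute s z' := hz'def ▸ sz.mul_right (Commute.refl s)
  have hks : Commute s (k * s * k') := by
    obtain ⟨U₁, hU₁⟩ : ∃ U₁ : E, U₁ = k * u₁ * k' := ⟨_, rfl⟩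
    obtain ⟨U₂, hU₂⟩ : ∃ U₂ : E, U₂ = k * u₂ * k' := ⟨_, rfl⟩
    have hU₁R : U₁ ∈ R := hU₁ ▸ nor_conj_mem h1 hN hu₁
    have hU₂R : U₂ ∈ R := hU₂ ▸ nor_conj_mem h1 hN hu₂
    have a₁ : Anti u₁ U₁ := hU₁ ▸ (anti_image h hK hdim hk h1 h2 hN hnl hu₁ hu₁₁).symm
    have a₂ : Anti u₂ U₂ := hU₂ ▸ (anti_image h hK hdim hk h1 h2 hN hnl hu₂ hu₂₂).symm
    have cU : Commute U₁ U₂ := by rw [hU₁, hU₂]; exact commute_conj' u₂u₁.symm h2
    have hsq : k * U₁ * k' = u₁ * U₁ ∨ k * U₁ * k' = -(u₁ * U₁) := hU₁ ▸ sq_image h hK hdim hk h1 h2 hN hnl hu₁ hu₁₁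
    -- the two cross signs agree
    have hcross : (Commute u₁ U₂ → Commute u₂ U₁) ∧ (Anti u₁ U₂ → Anti u₂ U₁) := by
      have step : ∀ {y : E}, Commute u₂ U₁ ∨ Anti u₂ U₁ → y = k * U₁ * k' → Commute u₂ U₁ ∧ Commute U₂ y ∨
          Anti u₂ U₁ ∧ Anti U₂ y := by
        rintro y (c | c) rfl
        · exact .inl ⟨c, hU₂ ▸ commute_conj' c h2⟩
        · exact .inr ⟨c, hU₂ ▸ anti_conj c h2⟩
      have back : ∀ {t : E}, t = u₁ * U₁ ∨ t = -(u₁ * U₁) → (Commute U₂ t → Commute U₂ u₁) ∧
          (Anti U₂ t → Anti U₂ u₁) := by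
        intro t htt
        have hU₁u : u₁ = -(u₁ * U₁ * U₁) := by
          rw [mul_assoc, hU₁, sq_conj h hK h1 h2 hu₁₁, mul_neg_one, neg_neg]
        refine ⟨fun c => ?_, fun c => ?_⟩
        · have c' : Commute U₂ (u₁ * U₁) := by
            rcases htt with rfl | rfl
            exacts [c, by simpa using c.neg_right]
          rw [hU₁u]; exact (c'.mul_right cU.symm).neg_right
        · have c' : Anti U₂ (u₁ * U₁) := by
            rcases htt with rfl | rfl
            exacts [c, by simpa using c.neg_right]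
          rw [hU₁u]; exact (Anti.mul_comm_right c' cU.symm).neg_right
      refine ⟨fun c => ?_, fun c => ?_⟩ <;> rcases step (h.cases hu₂ hU₁R) rfl with ⟨h5, h6⟩ | ⟨h5, h6⟩
      · exact h5
      · exact absurd ((back hsq).2 h6).symm (h.not_commute_anti (h.isUnit hu₁) (h.isUnit hU₂R) c)
      · exact absurd c (h.not_commute_anti (h.isUnit hu₁) (h.isUnit hU₂R) ((back hsq).1 h6).symm)
      · exact h5
    rw [hsdef, ← conj_mul h2, ← hU₁, ← hU₂]
    rcases h.cases hu₁ hU₂R with c | c
    · exact (Anti.mul_anti (Anti.mul_comm_right a₁ c).symm (Anti.comm_mul_right (hcross.1 c) a₂).symm).symm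
    · exact (Anti.mul_anti a₁ c).mul_left (Anti.mul_anti (hcross.2 c) a₂)
  obtain ⟨cc, hccdef⟩ : ∃ cc : E, cc = k * (gate x z' * k' * gateInv x z') := ⟨_, rfl⟩
  obtain ⟨hcG, hcN⟩ := hccdef ▸ comm_gate h hK hk h1 h2 hN hx hxx hz' hz'z' hz'x
  have hcnl : ¬ Line R cc := by
    intro hl
    have ht := (triple_of_line h h1 h2 hN hx hxx hz' hz'z' hz'x (hccdef ▸ hl)).1
    rw [← hzdef] at ht
    have ce : ∀ {e : E}, z = e ∨ z = -e → Commute z e := by
      rintro e (rfl | rfl)
      · exact Commute.refl _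
      · exact (Commute.refl e).neg_left
    rcases triple_anti_ne h hx hz' hz (h.not_scalar_neg hz hzz) ht with e | e | e | e | e | e
    · exact h.not_commute_anti (h.isUnit hz) (h.isUnit hx) (ce (.inl e)) hax
    · exact h.not_commute_anti (h.isUnit hz) (h.isUnit hx) (ce (.inr e)) hax
    · refine hsns ⟨1, ?_⟩
      rw [one_smul]
      exact (h.isUnit hz).mul_left_cancel (by rw [← hz'def, ← e, mul_one])
    · refine hsns ⟨-1, ?_⟩
      rw [neg_smul, one_smul]
      exact (h.isUnit hz).mul_left_cancel (by rw [← hz'def, mul_neg, mul_one, e, neg_neg])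
    all_goals refine h.not_commute_anti (h.isUnit hz) (h.isUnit (h.mul_mem _ hx _ hz')) (ce ?_) (Anti.mul_comm_right hax (hz'def ▸ (Commute.refl z).mul_right sz.symm))
    · exact .inl e
    · exact .inr e
  have hfix : Commute cc s := by
    rw [hccdef]
    refine comm_gate_fix h h1 h2 hxx hz'z' sx sz' (hzdef ▸ sz) ?_
    have hkz : k * z' * k' = (k * z * k') * (k * s * k') := by rw [hz'def, conj_mul h2]
    rw [hkz]
    refine Commute.mul_right ?_ hks
    rcases hzdef ▸ sq_image h hK hdim hk h1 h2 hN hnl hx hxx with e | e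
    · rw [e]; exact sx.mul_right sz
    · rw [e]; exact (sx.mul_right sz).neg_right
  obtain ⟨c', hc'G, hc1, hc2⟩ := hcG.exists_inv
  have hcs : cc * s * c' = s := by rw [hfix.eq, mul_assoc, hc1, mul_one]
  have hW : (cc * u₁ * c') * (cc * u₂ * c') = s := by rw [conj_mul hc2, ← hsdef, hcs]
  have hW2 : cc * (cc * u₁ * c') * c' * (cc * (cc * u₂ * c') * c') = s := by rw [conj_mul hc2, hW, hcs]
  have hB₁ := sq_image h hK hdim hcG hc1 hc2 hcN hcnl hu₁ hu₁₁
  have hB₂ := sq_image h hK hdim hcG hc1 hc2 hcN hcnl hu₂ hu₂₂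
  have hW₁R := nor_conj_mem hc1 hcN hu₁
  obtain ⟨t, -, ht'⟩ : ∃ t : F, (t = 1 ∨ t = -1) ∧ u₁ * (cc * u₁ * c') * (u₂ * (cc * u₂ * c')) = t • 1 := by
    rcases h.cases hW₁R hu₂ with c | c
    · exact ⟨1, .inl rfl, by rw [c.mul_mul_mul_comm, hW, ← hsdef, hss, one_smul]⟩
    · refine ⟨-1, .inr rfl, ?_⟩
      rw [mul_assoc u₁, ← mul_assoc (cc * u₁ * c'), c, neg_mul, mul_assoc u₂, hW, mul_neg, ← mul_assoc, ← hsdef,
        hss, neg_smul, one_smul]
  refine hsns ?_
  rw [← hW2]
  rcases hB₁ with e₁ | e₁ <;> rcases hB₂ with e₂ | e₂ <;> rw [e₁, e₂]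
  · exact ⟨t, ht'⟩
  · exact ⟨-t, by rw [mul_neg, ht', neg_smul]⟩
  · exact ⟨-t, by rw [neg_mul, ht', neg_smul]⟩
  · exact ⟨t, by rw [neg_mul_neg, ht']⟩

/-- In degree four and minus type, an element fixing an involution of the system is a multiple of a member. -/
theorem line_of_fix_pos (hdim : 3 ≤ finrank F V)
    (hminus : ∀ s ∈ R, ∀ t ∈ R, s * s = 1 → t * t = 1 → ¬ IsScalarMap s → ¬ IsScalarMap t → Commute s t →
      t = s ∨ t = -s)
    {k : E} (hk : InG K k) (hN : Nor R k) {s : E} (hs : s ∈ R) (hss : s * s = 1) (hsns : ¬ IsScalarMap s)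
    (hfix : PM k s) : Line R k := by
  obtain ⟨k', hk', h1, h2⟩ := hk.exists_inv
  have hks : k * s * k' = s ∨ k * s * k' = -s := by
    rcases hfix with e | e
    · exact .inl (by rw [e, mul_assoc, h1, mul_one])
    · exact .inr (by rw [e, neg_mul, mul_assoc, h1, mul_one])
  obtain ⟨t, ht, htt, hts⟩ : ∃ t ∈ R, t * t = 1 ∧ Anti t s := by
    obtain ⟨y, hy, hys⟩ := h.exists_anti hs hsns
    rcases h.sq y hy with e | e
    · exact ⟨y, hy, e, hys⟩
    · refine ⟨y * s, h.mul_mem _ hy _ hs, ?_, (Anti.mul_comm_right hys.symm (Commute.refl s)).symm⟩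
      rw [mul_assoc, ← mul_assoc s y s, hys.symm, neg_mul, mul_assoc y s s, hss, mul_one, mul_neg, e, neg_neg]
  -- the translates of `t`
  let T : ℕ → E := fun j => k ^ j * t * k' ^ j
  have hTs : ∀ j, T (j + 1) = k * T j * k' := by
    intro j
    change k ^ (j + 1) * t * k' ^ (j + 1) = _
    rw [pow_succ' k, pow_succ k']
    simp only [T, mul_assoc]
  have hT0 : T 0 = t := by simp [T]
  have hprop : ∀ j, T j ∈ R ∧ T j * T j = 1 ∧ Anti (T j) s := by
    intro j
    induction j with
    | zero => rw [hT0]; exact ⟨ht, htt, hts⟩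
    | succ j ih =>
      rw [hTs]
      refine ⟨nor_conj_mem h1 hN ih.1, by rw [conj_mul h2, ih.2.1, mul_one, h1], ?_⟩
      have := anti_conj (g := k) (g' := k') ih.2.2 h2
      rcases hks with e | e <;> rw [e] at this
      · exact this
      · simpa using this.neg_right
  have hns : ∀ j, ¬ IsScalarMap (T j) := fun j => h.not_scalar_anti (hprop j).1 hs (hprop j).2.2
  have hanti : ∀ i j, T j = T i ∨ T j = -T i ∨ Anti (T i) (T j) := by
    intro i j
    rcases h.cases (hprop i).1 (hprop j).1 with c | c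
    · rcases hminus _ (hprop i).1 _ (hprop j).1 (hprop i).2.1 (hprop j).2.1 (hns i) (hns j) c with e | e
      exacts [.inl e, .inr (.inl e)]
    · exact .inr (.inr c)
  have htr : ∀ i j, (T j = T i ∨ T j = -T i) → (T (j + 1) = T (i + 1) ∨ T (j + 1) = -T (i + 1)) := by
    intro i j e
    rw [hTs, hTs]
    rcases e with e | e <;> rw [e]
    · exact .inl rfl
    · exact .inr (by simp)
  have hneg2 : ∀ i j, Anti (T i) (T j) → T i * T j * (T i * T j) = -1 := by
    intro i j a
    rw [mul_assoc, ← mul_assoc (T j), a.symm, neg_mul, mul_assoc (T i) (T j), (hprop j).2.1, mul_one, mul_neg,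
      (hprop i).2.1]
  -- a period of length one
  by_cases p1 : T 1 = t ∨ T 1 = -t
  · have hts2 : t * s * (t * s) = -1 := by
      rw [mul_assoc, ← mul_assoc s t s, hts.symm, neg_mul, mul_assoc t s s, hss, mul_one, mul_neg, htt]
    refine line_of_pm_image h hK hk h2 (h.mul_mem _ ht _ hs) hts2 ?_
    rw [← conj_mul h2, show k * t * k' = T 1 by rw [hTs, hT0]]
    rcases p1 with e | e <;> rcases hks with e' | e' <;> rw [e, e'] <;> simp
  have a01 : Anti t (T 1) := by
    rcases hanti 0 1 with e | e | e <;> rw [hT0] at e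
    exacts [absurd (.inl e) p1, absurd (.inr e) p1, e]
  -- a period of length two
  by_cases p2 : T 2 = t ∨ T 2 = -t
  · refine line_of_pm_image h hK hk h2 (h.mul_mem _ ht _ (hprop 1).1) (hT0 ▸ hneg2 0 1 (hT0 ▸ a01)) ?_
    rw [← conj_mul h2, show k * t * k' = T 1 by rw [hTs, hT0], ← hTs 1]
    rcases p2 with e | e <;> rw [e]
    · exact .inr a01.symm
    · exact .inl (by rw [mul_neg, a01.symm, neg_neg])
  have a02 : Anti t (T 2) := by
    rcases hanti 0 2 with e | e | e <;> rw [hT0] at e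
    exacts [absurd (.inl e) p2, absurd (.inr e) p2, e]
  have p12 : ¬ (T 2 = T 1 ∨ T 2 = -T 1) := by
    intro e
    -- conjugate back
    refine p1 ?_
    have e1 : k * T 1 * k' = k * t * k' ∨ k * T 1 * k' = k * -t * k' := by
      rw [← hTs 1, show k * t * k' = T 1 by rw [hTs, hT0]]
      rcases e with e | e
      · exact .inl e
      · exact .inr (by rw [mul_neg, neg_mul, e, hTs, hT0])
    rcases e1 with e1 | e1
    · refine .inl ?_
      rw [← conj_cancel (f := T 1) h2, e1, conj_cancel h2]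
    · refine .inr ?_
      rw [← conj_cancel (f := T 1) h2, e1, conj_cancel h2]
  have a12 : Anti (T 1) (T 2) := by
    rcases hanti 1 2 with e | e | e
    exacts [absurd (.inl e) p12, absurd (.inr e) p12, e]
  -- a period of length three
  by_cases p3 : T 3 = t ∨ T 3 = -t
  · have h3 : t * T 1 * T 2 * (t * T 1 * T 2) = -1 := by
      have c : Commute (t * T 1) (T 2) := (Anti.mul_anti a02.symm a12.symm).symm
      rw [c.symm.mul_mul_mul_comm, (hprop 2).2.1, mul_one]
      exact hT0 ▸ hneg2 0 1 (hT0 ▸ a01)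
    refine line_of_pm_image h hK hk h2 (h.mul_mem _ (h.mul_mem _ ht _ (hprop 1).1) _ (hprop 2).1) h3 ?_
    rw [← conj_mul h2, ← conj_mul h2, show k * t * k' = T 1 by rw [hTs, hT0], ← hTs 1, ← hTs 2]
    have hperm : T 1 * T 2 * t = t * T 1 * T 2 := by
      rw [mul_assoc, a02.symm, mul_neg, ← mul_assoc, a01.symm, neg_mul, neg_neg]
    rcases p3 with e | e <;> rw [e]
    · exact .inl hperm
    · exact .inr (by rw [mul_neg, hperm])
  have a03 : Anti t (T 3) := by
    rcases hanti 0 3 with e | e | e <;> rw [hT0] at e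
    exacts [absurd (.inl e) p3, absurd (.inr e) p3, e]
  -- a period of length four
  by_cases p4 : T 4 = t ∨ T 4 = -t
  · exfalso
    have hk2 : InG K (k * k) := hk.mul hk
    have h21 : k * k * (k' * k') = 1 := comp_inv h1 h1
    have h22 : k' * k' * (k * k) = 1 := comp_inv h2 h2
    have hl : Line R (k * k) := by
      refine line_of_pm_image h hK hk2 h22 (h.mul_mem _ ht _ (hprop 2).1) (hT0 ▸ hneg2 0 2 (hT0 ▸ a02)) ?_
      rw [← conj_comp, ← conj_mul h2 (f := t), ← conj_mul h2, show k * t * k' = T 1 by rw [hTs, hT0], ← hTs 1,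
        ← hTs 2, ← hTs 3]
      rcases p4 with e | e <;> rw [e]
      · exact .inr a02.symm
      · exact .inl (by rw [mul_neg, a02.symm, neg_neg])
    refine p2 ?_
    rw [show T 2 = k * k * t * (k' * k') by rw [hTs, hTs, hT0, conj_comp]]
    rcases hl.pm h ht with e | e
    · exact .inl (by rw [e, mul_assoc, h21, mul_one])
    · exact .inr (by rw [e, neg_mul, mul_assoc, h21, mul_one])
  exfalso
  have a04 : Anti t (T 4) := by
    rcases hanti 0 4 with e | e | e <;> rw [hT0] at e
    exacts [absurd (.inl e) p4, absurd (.inr e) p4, e]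
  have back : ∀ i j, (T (j + 1) = T (i + 1) ∨ T (j + 1) = -T (i + 1)) → (T j = T i ∨ T j = -T i) := by
    intro i j e
    rw [hTs, hTs] at e
    rcases e with e | e
    · exact .inl (by rw [← conj_cancel (f := T j) h2, e, conj_cancel h2])
    · exact .inr (by rw [← conj_cancel (f := T j) h2, e, mul_neg, neg_mul, conj_cancel h2])
  have far : ∀ i d, ¬ (T (i + d) = T i ∨ T (i + d) = -T i) → ∀ l, Anti (T (i + l)) (T (i + d + l)) := by
    intro i d hd l
    rcases hanti (i + l) (i + d + l) with e | e | e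
    rotate_left 2
    · exact e
    all_goals
      exfalso
      refine hd ?_
      have : T (i + d + l) = T (i + l) ∨ T (i + d + l) = -T (i + l) := by first | exact .inl e | exact .inr e
      clear e
      induction l with
      | zero => exact this
      | succ l ih => exact ih (back _ _ this)
  have q1 : ¬ (T (0 + 1) = T 0 ∨ T (0 + 1) = -T 0) := by rw [hT0]; exact p1
  have q2 : ¬ (T (0 + 2) = T 0 ∨ T (0 + 2) = -T 0) := by rw [hT0]; exact p2
  have q3 : ¬ (T (0 + 3) = T 0 ∨ T (0 + 3) = -T 0) := by rw [hT0]; exact p3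
  have a13 : Anti (T 1) (T 3) := far 0 2 q2 1
  have a23 : Anti (T 2) (T 3) := far 0 1 q1 2
  have a14 : Anti (T 1) (T 4) := far 0 3 q3 1
  have a24 : Anti (T 2) (T 4) := far 0 2 q2 2
  have a34 : Anti (T 3) (T 4) := far 0 1 q1 3
  -- five pairwise anticommuting involutions have scalar product
  have five : ∀ u : E, u ∈ R → u * u = 1 → Anti u s → Anti t u → Anti (T 1) u → Anti (T 2) u →
      IsScalarMap (s * t * (T 1 * T 2) * u) := by
    intro u hu huu us tu u1 u2
    obtain ⟨q, hq⟩ : ∃ q : E, q = s * t * (T 1 * T 2) * u := ⟨_, rfl⟩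
    rw [← hq]
    have qR : q ∈ R := hq ▸ h.mul_mem _ (h.mul_mem _ (h.mul_mem _ hs _ ht) _ (h.mul_mem _ (hprop 1).1 _ (hprop 2).1)) _ hu
    have qs : Commute s q := by
      rw [hq]
      exact Anti.mul_anti (Anti.mul_comm_right (Anti.comm_mul_right (Commute.refl s) hts.symm)
        (Anti.mul_anti (hprop 1).2.2.symm (hprop 2).2.2.symm)) us.symm
    have qt : Commute t q := by
      rw [hq]
      exact Anti.mul_anti (Anti.mul_comm_right (Anti.mul_comm_right hts (Commute.refl t)) (Anti.mul_anti a01 a02)) tu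
    have hqq : q * q = 1 := by
      have c1 : Commute (s * t * (T 1 * T 2)) u := by
        have c2 : Commute (s * t) u := (Anti.mul_anti us tu.symm).symm
        exact c2.mul_left (Anti.mul_anti u1.symm u2.symm).symm
      have c3 : Commute (s * t) (T 1 * T 2) :=
        (Anti.mul_anti (hprop 1).2.2.symm (hprop 2).2.2.symm).mul_left (Anti.mul_anti a01 a02)
      have hst : s * t * (s * t) = -1 := by
        rw [mul_assoc, ← mul_assoc t s t, hts, neg_mul, mul_assoc s t t, htt, mul_one, mul_neg, hss]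
      rw [hq, c1.symm.mul_mul_mul_comm, c3.symm.mul_mul_mul_comm, hst, hneg2 1 2 a12, huu, neg_mul_neg, one_mul,
        one_mul]
    by_contra hqs
    rcases hminus s hs q qR hss hqq hsns hqs qs with e | e
    · exact h.not_commute_anti (h.isUnit ht) (h.isUnit hs) (e ▸ qt) hts
    · exact h.not_commute_anti (h.isUnit ht) (h.isUnit hs) (Commute.neg_right_iff.1 (e ▸ qt)) hts
  have h3 := five (T 3) (hprop 3).1 (hprop 3).2.1 (hprop 3).2.2 a03 a13 a23
  have h4 := five (T 4) (hprop 4).1 (hprop 4).2.1 (hprop 4).2.2 a04 a14 a24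
  have hPR : s * t * (T 1 * T 2) ∈ R := h.mul_mem _ (h.mul_mem _ hs _ ht) _ (h.mul_mem _ (hprop 1).1 _ (hprop 2).1)
  have hne : T 4 = T 3 ∨ T 4 = -T 3 := by
    rcases h.eq_or_neg hPR (hprop 3).1 h3 with e3 | e3 <;> rcases h.eq_or_neg hPR (hprop 4).1 h4 with e4 | e4 <;>
      rw [e3, e4] <;> simp
  exact q1 (back _ _ (back _ _ (back _ _ hne)))

/-- In degree four and minus type a normalising element is a multiple of a member. -/
theorem line_of_nor_four (hdim : 3 ≤ finrank F V)
    (hminus : ∀ s ∈ R, ∀ t ∈ R, s * s = 1 → t * t = 1 → ¬ IsScalarMap s → ¬ IsScalarMap t → Commute s t →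
      t = s ∨ t = -s)
    {k : E} (hk : InG K k) (hN : Nor R k) : Line R k := by
  by_contra hnl
  obtain ⟨k', hk', h1, h2⟩ := hk.exists_inv
  have hinv := conj_mem_inv h1 h2 hN
  obtain ⟨a, ha, hans⟩ : ∃ a ∈ R, ¬ IsScalarMap a := by
    by_contra hcon
    push Not at hcon
    have hle : Submodule.span F R ≤ Submodule.span F (({1} : Finset E) : Set E) := Submodule.span_le.2 fun r hr => by
      obtain ⟨c, rfl⟩ := hcon r hr
      exact Submodule.smul_mem _ _ (Submodule.subset_span (by simp))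
    rw [h.full] at hle
    have h3 := Submodule.finrank_mono hle
    have h4 := finrank_span_finset_le_card (R := F) ({1} : Finset E)
    rw [Set.finrank, Finset.card_singleton] at h4
    rw [finrank_top, Module.finrank_linearMap] at h3
    nlinarith
  obtain ⟨b, hb, hba⟩ := h.exists_anti ha hans
  obtain ⟨x₀, hx₀, hx₀₀, -⟩ := h.exists_neg_of_pair ha hb hba
  obtain ⟨s, hs, hss, hsx⟩ := h.exists_pos_anti hdim hx₀ hx₀₀
  have hsns := h.not_scalar_anti hs hx₀ hsx
  obtain ⟨f, hf⟩ : ∃ f : E, f = k' * s * k := ⟨_, rfl⟩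
  have hfR : f ∈ R := hf ▸ hinv s hs
  have hff : f * f = 1 := by rw [hf, conj_mul h1, hss, mul_one, h2]
  have hfns : ¬ IsScalarMap f := hf ▸ conj_nonscalar h2 h1 hsns
  have hkf : k * f * k' = s := by rw [hf, conj_cancel h1]
  have hsf : Anti f s := by
    rcases h.cases hfR hs with c | c
    swap
    · exact c
    exfalso
    refine hnl (line_of_fix_pos h hK hdim hminus hk hN hs hss hsns (pm_of_conj h2 ?_))
    rcases hminus s hs f hfR hss hff hsns hfns c.symm with e | e <;> rw [e] at hkf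
    · exact .inl hkf
    · exact .inr (by rw [mul_neg, neg_mul, neg_eq_iff_eq_neg] at hkf; exact hkf)
  obtain ⟨p, hp, q, hq, hpq, ps, pf, qs, qf⟩ := h.exists_pair hdim hs hfR hsf
  have hneg : ∀ y ∈ R, Commute y s → Commute y f → ¬ IsScalarMap y → y * y = -1 := by
    intro y hy ys yf hyns
    refine (h.sq y hy).resolve_left fun e => ?_
    rcases hminus s hs y hy hss e hsns hyns ys.symm with e' | e'
    · exact h.not_commute_anti (h.isUnit hfR) (h.isUnit hs) (e' ▸ yf.symm) hsf
    · exact h.not_commute_anti (h.isUnit hfR) (h.isUnit hs) (Commute.neg_right_iff.1 (e' ▸ yf.symm)) hsf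
  have hpp := hneg p hp ps pf (h.not_scalar_anti hp hq hpq.symm)
  have hqq := hneg q hq qs qf (h.not_scalar_anti hq hp hpq)
  have hfix : Commute (k * (gate p q * k' * gateInv p q)) s := by
    refine comm_gate_fix h h1 h2 hpp hqq ps.symm qs.symm ?_ ?_ <;> rw [← hkf]
    · exact commute_conj' pf.symm h2
    · exact commute_conj' qf.symm h2
  obtain ⟨hcG, hcN⟩ := comm_gate h hK hk h1 h2 hN hp hpp hq hqq hpq
  obtain ⟨t1, t2⟩ := triple_of_line h h1 h2 hN hp hpp hq hqq hpq
    (line_of_fix_pos h hK hdim hminus hcG hcN hs hss hsns (.inl hfix))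
  -- the orthogonal pair is kept by the inverse
  obtain ⟨g, hg⟩ : ∃ g : E, g = k' * f * k := ⟨_, rfl⟩
  have hgR : g ∈ R := hg ▸ hinv f hfR
  have gp : Commute g p := by
    have := commute_conj' (g := k') (g' := k) (t1.commute pf.symm qf.symm) h1
    rwa [← hg, conj_cancel h2] at this
  have gq : Commute g q := by
    have := commute_conj' (g := k') (g' := k) (t2.commute pf.symm qf.symm) h1
    rwa [← hg, conj_cancel h2] at this
  have hgg : g * g = 1 := by rw [hg, conj_mul h1, hff, mul_one, h2]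
  have gf : Anti g f := by
    have := anti_conj (g := k') (g' := k) hsf h1
    rwa [← hg, ← hf] at this
  have hgns : ¬ IsScalarMap g := h.not_scalar_anti hgR hfR gf
  rcases h.cases hgR hs with c | c
  · -- the product of `s` and `f` is fixed
    refine hnl (line_of_pm_image h hK hk h2 (h.mul_mem _ hs _ hfR) ?_ ?_)
    · rw [mul_assoc, ← mul_assoc f s f, hsf, neg_mul, mul_assoc s f f, hff, mul_one, mul_neg, hss]
    have hkg : k * g * k' = f := by rw [hg, conj_cancel h1]
    rw [← conj_mul h2, hkf]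
    rcases hminus s hs g hgR hss hgg hsns hgns c.symm with e | e <;> rw [e] at hkg
    · exact .inr (by rw [hkg]; exact hsf)
    · refine .inl ?_
      rw [mul_neg, neg_mul, neg_eq_iff_eq_neg] at hkg
      rw [hkg, neg_mul, hsf, neg_neg]
  · obtain ⟨w, hw⟩ : ∃ w : E, w = g * (s * f) := ⟨_, rfl⟩
    have hwR : w ∈ R := hw ▸ h.mul_mem _ hgR _ (h.mul_mem _ hs _ hfR)
    have ws : Commute s w := hw ▸ Anti.mul_anti c.symm (Anti.comm_mul_right (Commute.refl s) hsf.symm)
    have wf : Commute f w := hw ▸ Anti.mul_anti gf.symm (Anti.mul_comm_right hsf (Commute.refl f))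
    have wp : Commute w p := hw ▸ gp.mul_left (ps.symm.mul_left pf.symm)
    have wq : Commute w q := hw ▸ gq.mul_left (qs.symm.mul_left qf.symm)
    have hww : w * w = -1 := by
      have cg : Commute g (s * f) := Anti.mul_anti c gf
      rw [hw, cg.symm.mul_mul_mul_comm, hgg, one_mul, mul_assoc, ← mul_assoc f s f, hsf, neg_mul, mul_assoc s f f,
        hff, mul_one, mul_neg, hss]
    have hwp1 : w * p * (w * p) = 1 := by rw [wp.symm.mul_mul_mul_comm, hww, hpp, neg_mul_neg, one_mul]
    have hsc : ¬ IsScalarMap (w * p) := by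
      intro hs'
      rcases h.eq_or_neg hwR hp hs' with e | e
      · exact h.not_commute_anti (h.isUnit hp) (h.isUnit hq) (e ▸ wq) hpq.symm
      · exact h.not_commute_anti (h.isUnit hp) (h.isUnit hq) (by rw [e]; exact wq.neg_left) hpq.symm
    rcases hminus s hs (w * p) (h.mul_mem _ hwR _ hp) hss hwp1 hsns hsc (ws.mul_right ps.symm) with e | e
    · exact h.not_commute_anti (h.isUnit hfR) (h.isUnit hs) (e ▸ wf.mul_right pf.symm) hsf
    · exact h.not_commute_anti (h.isUnit hfR) (h.isUnit hs) (Commute.neg_right_iff.1 (e ▸ wf.mul_right pf.symm)) hsf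

/-- Every element of the group is a multiple of a member. -/
theorem kernel_line (hdim : 3 ≤ finrank F V)
    (hcase : 5 ≤ finrank F V ∨ ∀ s ∈ R, ∀ t ∈ R, s * s = 1 → t * t = 1 → ¬ IsScalarMap s → ¬ IsScalarMap t →
      Commute s t → t = s ∨ t = -s)
    {k : E} (hk : InG K k) : Line R k := by
  have hnor : ∀ {f : E}, InG K f → Nor R f → Line R f := fun {f} hf hN => by
    rcases hcase with h8 | hm
    · exact line_of_nor_large h hK h8 hf hN
    · exact line_of_nor_four h hK hdim hm hf hN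
  obtain ⟨k', hk', h1, h2⟩ := hk.exists_inv
  haveI : Finite E := Module.finite_of_finite F
  -- an element carrying a turn into the system normalises it
  have step : ∀ {g g' r : E}, InG K g → g * g' = 1 → g' * g = 1 → r ∈ R → r * r = -1 → g * r * g' ∈ R →
      Nor R g := by
    intro g g' r hg g1 g2 hr hrr hm
    refine nor_of_conj g2 fun y hy => hK.fuse.mem h hg g1 g2 hy ?_
    refine hK.good _ (InG.conj hg (hK.mem y hy) g1) _ hm (sq_conj h hK g1 g2 hrr) ?_
    exact (h.comm y hy r hr).conj g2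
  obtain ⟨a, ha, hans⟩ : ∃ a ∈ R, ¬ IsScalarMap a := by
    by_contra hcon
    push Not at hcon
    have hle : Submodule.span F R ≤ Submodule.span F (({1} : Finset E) : Set E) := Submodule.span_le.2 fun r hr => by
      obtain ⟨c, rfl⟩ := hcon r hr
      exact Submodule.smul_mem _ _ (Submodule.subset_span (by simp))
    rw [h.full] at hle
    have h3 := Submodule.finrank_mono hle
    have h4 := finrank_span_finset_le_card (R := F) ({1} : Finset E)
    rw [Set.finrank, Finset.card_singleton] at h4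
    rw [finrank_top, Module.finrank_linearMap] at h3
    nlinarith
  obtain ⟨b, hb, hba⟩ := h.exists_anti ha hans
  obtain ⟨r, hr, hrr, -⟩ := h.exists_neg_of_pair ha hb hba
  by_cases hm : k * r * k' ∈ R
  · exact hnor hk (step hk h1 h2 hr hrr hm)
  exfalso
  obtain ⟨x, hx, hxx, hxr⟩ := h.exists_neg_anti hdim hr hrr
  obtain ⟨s, hs⟩ : ∃ s : E, s = k * r * k' := ⟨_, rfl⟩
  rw [← hs] at hm
  have hsG : InG K s := hs ▸ InG.conj hk (hK.mem r hr) h1
  have hnls : ¬ Line R s := fun hl => hm (hs ▸ hK.fuse.mem h hk h1 h2 hr (hs ▸ hl))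
  have hss : s * s = -1 := by rw [hs]; exact sq_conj h hK h1 h2 hrr
  have hxr2 : x * r * (x * r) = -1 := by
    rw [mul_assoc, ← mul_assoc r x r, hxr.symm, neg_mul, mul_assoc x r r, hrr, mul_neg_one, neg_neg, hxx]
  -- a member in the class of a turn and the target
  have hsame : ∀ {j j' : E}, InG K j → j * j' = 1 → j' * j = 1 → ∀ {u v : E}, u ∈ R → u * u = -1 → v ∈ R →
      j * u * j' = v → v = u ∨ v = -u := by
    intro j j' hj j1 j2 u v hu huu hv e
    have hl := hnor hj (step hj j1 j2 hu huu (by rwa [e]))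
    rw [← e]
    rcases hl.pm h hu with e' | e'
    · exact .inl (by rw [e', mul_assoc, j1, mul_one])
    · exact .inr (by rw [e', neg_mul, mul_assoc, j1, mul_one])
  rcases pair_dichotomy (hK.mem x hx) hsG (α := -1) (β := -1) (by rw [hxx, neg_smul, one_smul])
      (by rw [hss, neg_smul, one_smul]) with
    ⟨j, j', hj, j1, j2, -, l, hl, e⟩ | ⟨z, hz, hzs, -, hzx, hzsg, -, j, j', hj, j1, j2, -, l, hl, e⟩
  · -- then `x` and `r` are equal up to a sign
    have e2 : (k' * j) * x * (j' * k) = l • r := by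
      rw [← conj_comp, e, hs, mul_smul_comm, smul_mul_assoc, conj_cancel h2]
    have hm2 := hK.fuse.mem h (hk'.mul hj) (comp_inv h2 j1) (comp_inv j2 h1) hx ⟨r, hr, l, e2⟩
    rcases hsame (hk'.mul hj) (comp_inv h2 j1) (comp_inv j2 h1) hx hxx hm2 rfl with e' | e' <;>
      rw [e'] at e2 <;> refine h.not_commute_anti (h.isUnit hx) (h.isUnit hr) ?_ hxr
    · rw [e2]; exact (Commute.refl r).smul_left l
    · rw [show x = -(l • r) by rw [← e2, neg_neg]]; exact ((Commute.refl r).smul_left l).neg_left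
  obtain ⟨m, hm', d, rfl⟩ := hK.good z hz x hx hxx hzx
  have hd : d ≠ 0 := fun e => hzs ⟨0, by rw [e, zero_smul, zero_smul]⟩
  have hms : ¬ IsScalarMap m := fun hc => hzs (hc.smul d)
  have hmsg : PM s m := by
    have := hzsg.symm.smul_right d⁻¹
    rwa [inv_smul_smul₀ hd] at this
  rcases h.sq m hm' with hmm | hmm
  swap
  · exact hnls (hK.good s hsG m hm' hmm hmsg)
  rw [mul_smul_comm, smul_smul] at e
  rcases e with e | e
  · -- a conjugate of `x`
    have hl2 := hK.fuse.mem h hj j1 j2 hx ⟨x * m, h.mul_mem _ hx _ hm', l * d, e⟩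
    rcases hsame hj j1 j2 hx hxx hl2 rfl with e' | e' <;> rw [e'] at e
    · rcases h.eq_or_neg_of_smul (h.mul_mem _ hx _ hm') hx e with e2 | e2
      · exact hms ⟨1, by rw [one_smul]; exact ((h.isUnit hx).mul_left_cancel (by rw [mul_one, ← e2])).symm⟩
      · exact hms ⟨-1, by
          rw [neg_smul, one_smul]
          exact (neg_eq_iff_eq_neg.1 ((h.isUnit hx).mul_left_cancel (a := x) (b := -m) (c := 1)
            (by rw [mul_one, mul_neg, ← e2])))⟩
    · rcases h.eq_or_neg_of_smul (h.mul_mem _ hx _ hm') (h.neg_mem hx) e with e2 | e2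
      · exact hms ⟨-1, by
          rw [neg_smul, one_smul]
          exact ((h.isUnit hx).mul_left_cancel (by rw [mul_neg, mul_one, ← e2])).symm⟩
      · exact hms ⟨1, by
          rw [one_smul]
          exact ((h.isUnit hx).mul_left_cancel (by rw [mul_one, ← neg_inj.1 e2])).symm⟩
  · -- a conjugate of the target
    rw [hs, conj_comp] at e
    have hl2 := hK.fuse.mem h (hj.mul hk) (comp_inv j1 h1) (comp_inv h2 j2) hr ⟨x * m, h.mul_mem _ hx _ hm', l * d, e⟩
    have hxm : x * m = r ∨ x * m = -r := by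
      rcases hsame (hj.mul hk) (comp_inv j1 h1) (comp_inv h2 j2) hr hrr hl2 rfl with e' | e' <;> rw [e'] at e
      · exact (h.eq_or_neg_of_smul (h.mul_mem _ hx _ hm') hr e).elim (fun e => .inl e.symm)
          (fun e => .inr (by rw [e, neg_neg]))
      · exact (h.eq_or_neg_of_smul (h.mul_mem _ hx _ hm') (h.neg_mem hr) e).elim (fun e => .inr e.symm)
          (fun e => .inl (neg_inj.1 e).symm)
    have hm2 : m = -(x * r) ∨ m = x * r := by
      rcases hxm with e2 | e2 <;> have e3 := congrArg (x * ·) e2 <;>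
        simp only [← mul_assoc, hxx, neg_one_mul, mul_neg] at e3
      · exact .inl (neg_eq_iff_eq_neg.1 e3)
      · exact .inr (neg_inj.1 e3)
    rcases hm2 with rfl | rfl
    · rw [neg_mul_neg, hxr2] at hmm; exact h.neg_one_ne hmm
    · rw [hxr2] at hmm; exact h.neg_one_ne hmm

end

end CfsgLib.Classical.PauliForm.Real
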