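import Cfsg.Agent.Lib.Classical.PauliForm.Real.Data

/-!
# Minus type in degree eight: no three independent commuting involutions
-/

set_option autoImplicit false
set_option linter.unusedSectionVars false

namespace CfsgLib.Classical.PauliForm.Real

open Module Matrix Cfsg Cfsg.Geo CfsgLib.Classical.PauliMax CfsgLib.Classical.PauliForm
open scoped MatrixGroups

variable {F : Type*} [Field F] {ι : Type} [Fintype ι] [DecidableEq ι]

theorem two_mul_card_le {G : Type*} [Group G] [Finite G] {H K : Subgroup G} (hlt : H < K) :
    2 * Nat.card H ≤ Nat.card K := by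
  obtain ⟨c, hc⟩ := Subgroup.card_dvd_of_le hlt.le
  rcases c with - | - | c
  · rw [mul_zero] at hc
    exact absurd hc Nat.card_pos.ne'
  · rw [Nat.zero_add, mul_one] at hc
    exact absurd (Subgroup.eq_of_le_of_card_ge hlt.le hc.le) hlt.ne
  · rw [hc, Nat.mul_comm 2]
    exact Nat.mul_le_mul_left _ (by omega)

/-- A group of minus type of order `2^7` has no three independent commuting involutions modulo its centre. -/
theorem sizeCase_of_minus [Fintype F] [Nonempty ι] {R : Subgroup (GL ι F)} (h : RPauli (mapOf R))
    (hminus : IsOfMinusType 3 R) : SizeCase (mapOf R) := by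
  classical
  refine .inr ?_
  intro a ha s hs t ht haa hss htt cas cat cst has hss' hass
  by_contra hcon
  push Not at hcon
  obtain ⟨nt, nat, nst, nast⟩ := hcon
  have lift : ∀ f ∈ mapOf R, ∃ x : R, lin ((x : GL ι F) : Matrix ι ι F) = f := by
    rintro _ ⟨_, ⟨x, hx, rfl⟩, rfl⟩
    exact ⟨⟨x, hx⟩, rfl⟩
  obtain ⟨xa, rfl⟩ := lift a ha
  obtain ⟨xs, rfl⟩ := lift s hs
  obtain ⟨xt, rfl⟩ := lift t ht
  obtain ⟨xm, hxm⟩ := lift _ h.neg_one_mem
  let L : R →* Module.End F (ι → F) :=
    ((Matrix.toLinAlgEquiv' (R := F) (n := ι)).toAlgHom.toRingHom.toMonoidHom.comp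
      (Units.coeHom (Matrix ι ι F))).comp R.subtype
  have hL : ∀ x : R, L x = lin ((x : GL ι F) : Matrix ι ι F) := fun x => rfl
  have hLinj : Function.Injective L := fun x y e =>
    Subtype.ext (Units.ext (Matrix.toLinAlgEquiv'.injective e))
  simp only [← hL] at ha hs ht haa hss htt cas cat cst has hss' hass nt nat nst nast hxm
  have cm : ∀ f : Module.End F (ι → F), Commute (-1) f := fun f => (Commute.one_left f).neg_left
  -- the subgroup of the three and the centre
  set A := Subgroup.closure ({xm, xa, xs, xt} : Set R) with hA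
  have hcomm : ∀ u ∈ ({xm, xa, xs, xt} : Set R), ∀ v ∈ ({xm, xa, xs, xt} : Set R), u * v = v * u := by
    intro u hu v hv
    refine hLinj ?_
    rw [map_mul, map_mul]
    rcases hu with rfl | rfl | rfl | rfl <;> rcases hv with rfl | rfl | rfl | rfl
    all_goals first
      | rfl
      | (rw [hxm]; exact (cm _).eq)
      | (rw [hxm]; exact (cm _).symm.eq)
      | exact cas.eq | exact cat.eq | exact cst.eq | exact cas.symm.eq | exact cat.symm.eq | exact cst.symm.eq
  have hAc : IsMulCommutative A := Subgroup.isMulCommutative_closure hcomm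
  have hA2 : ∀ x ∈ A, x * x = 1 := by
    intro x hx
    induction hx using Subgroup.closure_induction with
    | mem x hx =>
      refine hLinj ?_
      rw [map_mul, map_one]
      rcases hx with rfl | rfl | rfl | rfl
      · rw [hxm]; exact LinearMap.ext fun v => by simp
      exacts [haa, hss, htt]
    | one => exact mul_one 1
    | mul x y hx' hy' hx hy =>
      have hc : x * y = y * x := congrArg Subtype.val (hAc.is_comm.comm ⟨x, hx'⟩ ⟨y, hy'⟩)
      calc x * y * (x * y) = x * y * (y * x) := by rw [← hc]
        _ = 1 := by rw [mul_assoc, ← mul_assoc y y, hy, one_mul, hx]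
    | inv x _ hx => rw [← _root_.mul_inv_rev, hx, inv_one]
  have hlt := hminus A hAc hA2
  -- the members of the chain
  have mem1 : ∀ x ∈ Subgroup.closure ({xm} : Set R), IsScalarMap (L x) := by
    intro x hx
    induction hx using Subgroup.closure_induction with
    | mem x hx => rw [Set.mem_singleton_iff.1 hx, hxm]; exact ⟨-1, LinearMap.ext fun v => by simp⟩
    | one => exact ⟨1, by rw [map_one, one_smul]⟩
    | mul x y _ _ hx hy =>
      obtain ⟨c, hc⟩ := hx
      obtain ⟨d, hd⟩ := hy
      exact ⟨c * d, by rw [map_mul, hc, hd, smul_mul_smul_comm, one_mul]⟩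
    | inv x hx' ih =>
      have hx2 : x * x = 1 := hA2 x (Subgroup.closure_mono (by simp) hx')
      rwa [inv_eq_of_mul_eq_one_right hx2]
  have extend : ∀ (S : Set R) (u : R), S ⊆ ({xm, xa, xs, xt} : Set R) → u ∈ ({xm, xa, xs, xt} : Set R) →
      ∀ x ∈ Subgroup.closure (insert u S), x ∈ Subgroup.closure S ∨ x * u ∈ Subgroup.closure S := by
    intro S u hS hu x hx
    have huu : u * u = 1 := hA2 u (Subgroup.subset_closure hu)
    have hsub : ∀ {y}, y ∈ Subgroup.closure S → y ∈ A := fun hy => Subgroup.closure_mono hS hy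
    have hcu : ∀ {y}, y ∈ A → y * u = u * y := fun {y} hy =>
      congrArg Subtype.val (hAc.is_comm.comm ⟨y, hy⟩ ⟨u, Subgroup.subset_closure hu⟩)
    induction hx using Subgroup.closure_induction with
    | mem x hx =>
      rcases hx with rfl | hx
      · exact .inr (by rw [huu]; exact one_mem _)
      · exact .inl (Subgroup.subset_closure hx)
    | one => exact .inl (one_mem _)
    | mul x y hx' hy' hx hy =>
      have hy'' : y ∈ A := Subgroup.closure_mono (Set.insert_subset hu hS) hy'
      rcases hx with hx | hx <;> rcases hy with hy | hy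
      · exact .inl (mul_mem hx hy)
      · exact .inr (by rw [mul_assoc]; exact mul_mem hx hy)
      · exact .inr (by rw [mul_assoc, hcu hy'', ← mul_assoc]; exact mul_mem hx hy)
      · refine .inl ?_
        have := mul_mem hx hy
        rwa [show x * u * (y * u) = x * y * (u * u) by
          rw [hcu hy'']; simp only [← mul_assoc]; rw [mul_assoc (x) u u, huu, mul_one, mul_assoc (x * y), huu, mul_one], huu,
          mul_one] at this
    | inv x hx' ih =>
      have hx2 : x * x = 1 := hA2 x (Subgroup.closure_mono (Set.insert_subset hu hS) hx')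
      rwa [inv_eq_of_mul_eq_one_right hx2]
  have hstep : ∀ (S : Set R) (u : R), u ∉ Subgroup.closure S →
      2 * Nat.card (Subgroup.closure S) ≤ Nat.card (Subgroup.closure (insert u S)) := fun S u hu =>
    two_mul_card_le (lt_of_le_of_ne (Subgroup.closure_mono (Set.subset_insert _ _))
      fun e => hu (e ▸ Subgroup.subset_closure (Set.mem_insert _ _)))
  have c1 : 2 ≤ Nat.card (Subgroup.closure ({xm} : Set R)) := by
    have hne : xm ≠ 1 := fun e => h.neg_one_ne (by rw [← hxm, e, map_one])
    have : Nontrivial (Subgroup.closure ({xm} : Set R)) := ⟨⟨⟨xm, Subgroup.subset_closure rfl⟩, 1, fun e =>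
      hne (congrArg Subtype.val e)⟩⟩
    exact Finite.one_lt_card_iff_nontrivial.2 this
  have mem2 : ∀ x ∈ Subgroup.closure (insert xa {xm} : Set R), IsScalarMap (L x) ∨ IsScalarMap (L x * L xa) :=
    fun x hx => (extend {xm} xa (by simp) (by simp) x hx).imp (mem1 x) fun e => map_mul L x xa ▸ mem1 _ e
  have n1 : xa ∉ Subgroup.closure ({xm} : Set R) := fun e => has (mem1 _ e)
  have n2 : xs ∉ Subgroup.closure (insert xa {xm} : Set R) := fun e => by
    rcases mem2 _ e with e' | e'
    · exact hss' e'
    · exact hass (cas.eq ▸ e')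
  have n3 : xt ∉ Subgroup.closure (insert xs (insert xa {xm}) : Set R) := fun e => by
    rcases extend (insert xa {xm}) xs (by
      intro z hz
      rcases hz with rfl | rfl <;> simp) (by simp) xt e with e' | e'
    · rcases mem2 _ e' with e'' | e''
      · exact nt e''
      · exact nat (cat.eq ▸ e'')
    · rcases mem2 _ e' with e'' | e'' <;> rw [map_mul] at e''
      · exact nst (cst.eq ▸ e'')
      · refine nast ?_
        rwa [← cst.eq, ← (cas.mul_right cat).eq] at e''
  have s1 := hstep _ _ n1
  have s2 := hstep _ _ n2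
  have s3 := hstep _ _ n3
  have s4 : Nat.card (Subgroup.closure (insert xt (insert xs (insert xa {xm})) : Set R)) ≤ Nat.card A :=
    Subgroup.card_le_of_le (Subgroup.closure_mono fun z hz => by
      rcases hz with rfl | rfl | rfl | rfl <;> simp)
  omega

end CfsgLib.Classical.PauliForm.Real
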