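import Cfsg.Agent.Lib.Classical.PauliForm.Real.Centralizer

/-!
# Centralisers of turns: from the members commuting with the turn to the whole system

If every element of the group centralising a turn permutes the members centralising it, for all turns, then it
normalises the system.  Being big at one turn propagates to all turns.
-/

set_option autoImplicit false
set_option linter.unusedSectionVars false

namespace CfsgLib.Classical.PauliForm.Real

open Module CfsgLib.Classical.PauliMax CfsgLib.Classical.PauliForm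

variable {F : Type*} [Field F] {V : Type*} [AddCommGroup V] [Module F V] [FiniteDimensional F V]

local notation "E" => Module.End F V

/-- The elements centralising `x` carry the members centralising `x` to members. -/
def TurnNor (R : Set (Module.End F V)) (Γ : Subgroup (Module.End F V)ˣ) (x : Module.End F V) : Prop :=
  ∀ g g' : Module.End F V, InG Γ g → g * g' = 1 → g' * g = 1 → g * x = x * g →
    ∀ r ∈ R, Commute r x → g * r * g' ∈ R

/-- The group contains the unipotent isometries of index two centralising `x`. -/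
def BigAt (B : V →ₗ[F] V →ₗ[F] F) (Γ : Subgroup (Module.End F V)ˣ) (x : Module.End F V) : Prop :=
  ∀ f : Module.End F V, (∀ u v, B (f u) (f v) = B u v) → f * x = x * f → (f - 1) * (f - 1) = 0 → InG Γ f

variable {R : Set (Module.End F V)} (h : RPauli R) [Nontrivial V] {Γ : Subgroup (Module.End F V)ˣ}
  (hΓ : RAmbient R Γ) (hdim : 8 ≤ finrank F V)
include h hΓ hdim

/-- The gates centralising a turn are transitive on the turns centralising it. -/
theorem exists_carrier_fixing {x u v : E} (hx : x ∈ R) (hxx : x * x = -1) (hu : u ∈ R) (huu : u * u = -1)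
    (hv : v ∈ R) (hvv : v * v = -1) (cu : Commute u x) (cv : Commute v x) (hxu : ¬ IsScalarMap (x * u))
    (hxv : ¬ IsScalarMap (x * v)) :
    ∃ n n' : E, InG Γ n ∧ n * n' = 1 ∧ n' * n = 1 ∧ Nor R n ∧ n * x = x * n ∧ n * u * n' = v := by
  have h2 := h.two_ne
  rcases h.cases hv hu with c | c
  swap
  · exact ⟨gate u v, gateInv u v, hΓ.gate u hu v hv huu hvv c, gate_mul_inv h2 huu hvv, gate_inv_mul h2 huu hvv,
      h.nor_gate hu huu hv hvv, (commute_gate cu.symm cv.symm).symm.eq, gate_conj_left h2 huu hvv c⟩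
  by_cases hns : IsScalarMap (u * v)
  · rcases h.eq_or_neg hu hv hns with rfl | rfl
    · exact ⟨1, 1, ⟨1, Γ.one_mem, rfl⟩, one_mul 1, one_mul 1, nor_one, by simp, by rw [one_mul, mul_one]⟩
    -- a member anticommuting with `u` and commuting with `x`
    obtain ⟨w, hw, hww, hwx, hwu, -⟩ := h.exists_neg_anti_two (by omega) hx hxx hu huu cu.symm hxu
    obtain ⟨z, hz, hzx, hzu⟩ : ∃ z ∈ R, Commute z x ∧ Anti z u := by
      obtain ⟨r, hr, hra⟩ := h.exists_anti (h.mul_mem _ hx _ hu) hxu
      rcases h.cases hr hx with e | e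
      · exact ⟨r, hr, e, (h.cases hr hu).resolve_left fun e' =>
          h.not_commute_anti (h.isUnit hr) (h.isUnit (h.mul_mem _ hx _ hu)) (e.mul_right e') hra⟩
      · have ru : Commute r u := (h.cases hr hu).resolve_right fun e' =>
          h.not_commute_anti (h.isUnit hr) (h.isUnit (h.mul_mem _ hx _ hu)) (Anti.mul_anti e e') hra
        exact ⟨r * w, h.mul_mem _ hr _ hw, (Anti.mul_anti e.symm hwx.symm).symm,
          (Anti.comm_mul_right ru.symm hwu.symm).symm⟩
    obtain ⟨z', hz', hzz', hz'x, hz'u⟩ : ∃ z' ∈ R, z' * z' = -1 ∧ Commute z' x ∧ Anti z' u := by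
      rcases h.sq z hz with e | e
      · exact ⟨z * x, h.mul_mem _ hz _ hx, by rw [hzx.symm.mul_mul_mul_comm, e, hxx, one_mul],
          hzx.mul_left (Commute.refl x), (Anti.mul_comm_right hzu.symm cu).symm⟩
      · exact ⟨z, hz, e, hzx, hzu⟩
    refine ⟨z', -z', inG_turn h hΓ hdim hz' hzz', by rw [mul_neg, hzz', neg_neg],
      by rw [neg_mul, hzz', neg_neg], h.nor_mem hz', hz'x.eq, ?_⟩
    rw [hz'u, mul_neg, neg_mul, neg_neg, mul_assoc, hzz', mul_neg_one]
  obtain ⟨w, hw, -, hwu, hwv, s, hs, su, sw, suv⟩ := h.exists_neg_anti_two (by omega) hu huu hv hvv c.symm hns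
  obtain ⟨w', hw', hw'x, hw'u, hw'v⟩ : ∃ w' ∈ R, Commute w' x ∧ Anti w' u ∧ Anti w' v := by
    rcases h.cases hw hx with e | e
    · exact ⟨w, hw, e, hwu, hwv⟩
    -- a member anticommuting with `x` only
    have hxu' : Commute w (x * u) := Anti.mul_anti e hwu
    have hxv' : Commute w (x * v) := Anti.mul_anti e hwv
    have hsv : Anti s v := (h.cases hs hv).resolve_left fun e' =>
      h.not_commute_anti (h.isUnit hs) (h.isUnit (h.mul_mem _ hu _ hv)) (su.mul_right e') suv
    obtain ⟨t, ht, htns, htw, hts, htu, htv, hdet⟩ : ∃ t ∈ R, ¬ IsScalarMap t ∧ Commute t w ∧ Commute t s ∧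
        Commute t u ∧ Commute t v ∧ ∀ r : E, Commute r u → Commute r v → Commute r x → Commute r t := by
      rcases h.cases hs hx with e' | e'
      · exact ⟨x * u, h.mul_mem _ hx _ hu, hxu, hxu'.symm, (e'.mul_right su).symm,
          (cu.symm.mul_left (Commute.refl u)), cv.symm.mul_left c.symm, fun r ru _ rx => rx.mul_right ru⟩
      · exact ⟨x * v, h.mul_mem _ hx _ hv, hxv, hxv'.symm, (Anti.mul_anti e' hsv).symm,
          cu.symm.mul_left c, cv.symm.mul_left (Commute.refl v), fun r _ rv rx => rx.mul_right rv⟩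
    obtain ⟨r, hr, hrt⟩ := h.exists_anti ht htns
    obtain ⟨r₁, hr₁, r₁t, r₁u⟩ : ∃ r₁ ∈ R, Anti r₁ t ∧ Commute r₁ u := by
      rcases h.cases hr hu with e' | e'
      · exact ⟨r, hr, hrt, e'⟩
      · exact ⟨r * w, h.mul_mem _ hr _ hw, (Anti.mul_comm_right hrt.symm htw).symm,
          (Anti.mul_anti e'.symm hwu.symm).symm⟩
    obtain ⟨r₂, hr₂, r₂t, r₂u, r₂v⟩ : ∃ r₂ ∈ R, Anti r₂ t ∧ Commute r₂ u ∧ Commute r₂ v := by
      rcases h.cases hr₁ hv with e' | e'
      · exact ⟨r₁, hr₁, r₁t, r₁u, e'⟩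
      · exact ⟨r₁ * s, h.mul_mem _ hr₁ _ hs, (Anti.mul_comm_right r₁t.symm hts).symm, r₁u.mul_left su,
          (Anti.mul_anti e'.symm hsv.symm).symm⟩
    have r₂x : Anti r₂ x := (h.cases hr₂ hx).resolve_left fun e' =>
      h.not_commute_anti (h.isUnit hr₂) (h.isUnit ht) (hdet r₂ r₂u r₂v e') r₂t
    exact ⟨w * r₂, h.mul_mem _ hw _ hr₂, (Anti.mul_anti e.symm r₂x.symm).symm,
      (Anti.mul_comm_right hwu.symm r₂u.symm).symm, (Anti.mul_comm_right hwv.symm r₂v.symm).symm⟩
  obtain ⟨m, hm, hmm, hmx, hmu, hmv⟩ : ∃ m ∈ R, m * m = -1 ∧ Commute m x ∧ Anti m u ∧ Anti m v := by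
    rcases h.sq w' hw' with e | e
    · exact ⟨w' * x, h.mul_mem _ hw' _ hx, by rw [hw'x.symm.mul_mul_mul_comm, e, hxx, one_mul],
        hw'x.mul_left (Commute.refl x), (Anti.mul_comm_right hw'u.symm cu).symm,
        (Anti.mul_comm_right hw'v.symm cv).symm⟩
    · exact ⟨w', hw', e, hw'x, hw'u, hw'v⟩
  refine ⟨gate m v * gate u m, gateInv u m * gateInv m v,
    (hΓ.gate m hm v hv hmm hvv hmv.symm).mul (hΓ.gate u hu m hm huu hmm hmu), comp_inv (gate_mul_inv h2 hmm hvv)
      (gate_mul_inv h2 huu hmm), comp_inv (gate_inv_mul h2 huu hmm) (gate_inv_mul h2 hmm hvv),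
    (h.nor_gate hm hmm hv hvv).mul (h.nor_gate hu huu hm hmm),
    ((commute_gate hmx.symm cv.symm).mul_right (commute_gate cu.symm hmx.symm)).symm.eq, ?_⟩
  rw [← conj_comp, gate_conj_left h2 huu hmm hmu, gate_conj_left h2 hmm hvv hmv.symm]

/-- If centralising elements permute the members centralising each turn, they normalise the system. -/
theorem xgood_of_turnNor [Finite F] (hT : ∀ x ∈ R, x * x = -1 → TurnNor R Γ x) : XGood R Γ := by
  intro x hx hxx g hg hgx
  obtain ⟨g', -, h1, h2⟩ := InG.exists_inv hg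
  refine nor_of_conj h2 fun r hr => ?_
  rcases h.cases hr hx with e | e
  · exact hT x hx hxx g g' hg h1 h2 hgx r hr e
  obtain ⟨p, hp, q, hq, hpq, px, pr, qx, qr⟩ := h.exists_pair (by omega) hx hr e
  obtain ⟨u, hu, huu, hcu⟩ := h.exists_neg_of_pair hp hq hpq
  have ux := (hcu x px.symm qx.symm).symm
  have ur := (hcu r pr.symm qr.symm).symm
  have hxu : ¬ IsScalarMap (x * u) := by
    intro hs
    rcases h.eq_or_neg hx hu hs with rfl | rfl
    · exact h.not_commute_anti (h.isUnit hr) (h.isUnit hx) ur.symm e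
    · exact h.not_commute_anti (h.isUnit hr) (h.isUnit hx) (Commute.neg_right_iff.1 ur.symm) e
  have hv := hT x hx hxx g g' hg h1 h2 hgx u hu ux
  have hgxg : g * x * g' = x := by rw [hgx, mul_assoc, h1, mul_one]
  have cv : Commute (g * u * g') x := by
    have := commute_conj' (g := g) ux h2
    rwa [hgxg] at this
  have hvv : g * u * g' * (g * u * g') = -1 := by rw [conj_mul h2, huu, mul_neg_one, neg_mul, h1]
  obtain ⟨n, n', hn, n1, n2, hnN, hnx, hne⟩ := exists_carrier_fixing h hΓ hdim hx hxx hv hvv hu huu cv ux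
    (by
      have := conj_nonscalar h1 h2 hxu
      rwa [← conj_mul h2, hgxg] at this) hxu
  have hfix : n * g * u = u * (n * g) := by
    calc n * g * u = n * (g * u * g') * (n' * n) * g := by
          rw [n2, mul_one]
          simp only [mul_assoc]
          rw [h2, mul_one]
      _ = (n * (g * u * g') * n') * (n * g) := by simp only [mul_assoc]
      _ = u * (n * g) := by rw [hne]
  have hmem := hT u hu huu (n * g) (g' * n') (hn.mul hg) (comp_inv n1 h1) (comp_inv h2 n2) hfix r hr ur.symm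
  rw [← conj_comp] at hmem
  have := conj_mem_inv n1 n2 hnN _ hmem
  rwa [conj_cancel n2] at this

/-- Being big at one turn propagates to all turns. -/
theorem bigAt_all {B : V →ₗ[F] V →ₗ[F] F}
    (hsim : ∀ g : E, InG Γ g → ∃ μ : F, μ ≠ 0 ∧ ∀ u v, B (g u) (g v) = μ * B u v) {x : E} (hx : x ∈ R)
    (hxx : x * x = -1) (hbig : BigAt B Γ x) : ∀ r ∈ R, r * r = -1 → BigAt B Γ r := by
  intro r hr hrr f hiso hfr hf2
  obtain ⟨n, n', hn, n1, n2, -, hne⟩ := exists_carrier h hΓ hdim hx hxx hr hrr
  obtain ⟨μ, hμ, hs⟩ := hsim n hn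
  have hx' : x = n' * r * n := by rw [← hne, conj_cancel n2]
  have h3 : InG Γ (n' * f * n) := by
    refine hbig _ (fun u v => mul_left_cancel₀ hμ ?_) ?_ ?_
    · rw [← hs, Module.End.mul_apply, Module.End.mul_apply, Module.End.mul_apply, Module.End.mul_apply,
        ← Module.End.mul_apply n, ← Module.End.mul_apply n n', n1, Module.End.one_apply, Module.End.one_apply,
        hiso, hs]
    · rw [hx', conj_mul n1, hfr, conj_mul n1]
    · rw [show n' * f * n - 1 = n' * (f - 1) * n by rw [mul_sub, sub_mul, mul_one, n2], conj_mul n1, hf2, mul_zero,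
        zero_mul]
  have := InG.conj hn h3 n1
  rwa [conj_cancel n1] at this

end CfsgLib.Classical.PauliForm.Real
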