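import Cfsg.Agent.Lib.Classical.PauliForm.Real.Form
import Cfsg.Agent.Lib.Classical.PauliForm.Real.Turn
import Cfsg.Agent.Lib.Classical.UnitarySubOrth

/-!
# The orthogonal big case: the whole commutator subgroup

With two anticommuting turns `x` and `z` and `a² + b²` minus a non-square, `J = a x + b z` makes the space one
over a quadratic extension.  The root groups along the lines of this extension are in the group, and some turn
leaves these lines, so all root groups are.
-/

set_option autoImplicit false
set_option linter.unusedSectionVars false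
set_option backward.isDefEq.respectTransparency false

namespace CfsgLib.Classical.PauliForm.Real

open Module QuadraticMap CfsgLib.Orth CfsgLib.Classical CfsgLib.Classical.PauliMax CfsgLib.Classical.PauliForm

variable {F : Type*} [Field F] {V : Type*} [AddCommGroup V] [Module F V] [FiniteDimensional F V]
  {Q : QuadraticForm F V}

local notation "E" => Module.End F V

/-- An isometry as a unit of the ring of maps. -/
def orthUnits (Q : QuadraticForm F V) : orthGroup Q →* (Module.End F V)ˣ where
  toFun g := ⟨g.1.toLinearMap, g.1.symm.toLinearMap, LinearMap.ext fun v => g.1.apply_symm_apply v,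
    LinearMap.ext fun v => g.1.symm_apply_apply v⟩
  map_one' := Units.ext (LinearMap.ext fun v => rfl)
  map_mul' g h := Units.ext (LinearMap.ext fun v => rfl)

theorem orthUnits_apply (g : orthGroup Q) (v : V) : (orthUnits Q g : E) v = g.1 v := rfl

theorem polar_turn {x : E} (hiso : ∀ v, Q (x v) = Q v) (u v : V) :
    Q.polarBilin (x u) (x v) = Q.polarBilin u v := by
  simp only [QuadraticMap.polarBilin_apply_apply, QuadraticMap.polar, ← map_add, hiso]

theorem polar_self_turn (h2 : (2 : F) ≠ 0) {x : E} (hiso : ∀ v, Q (x v) = Q v) (hxx : x * x = -1) (v : V) :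
    polar Q v (x v) = 0 := by
  have h1 := turn_skew (B := Q.polarBilin) (polar_turn hiso) hxx v v
  simp only [QuadraticMap.polarBilin_apply_apply] at h1
  rw [polar_comm _ (x v) v] at h1
  have h3 : (2 : F) * polar Q v (x v) = 0 := by linear_combination h1
  exact (mul_eq_zero.1 h3).resolve_left h2

/-- The root group along a turn lies in the group. -/
theorem siegelIn_turn (h2 : (2 : F) ≠ 0) {Γ : Subgroup Eˣ} {x : E} (hiso : ∀ v, Q (x v) = Q v) (hxx : x * x = -1)
    (hbig : BigAt Q.polarBilin Γ x) {d : V} (hd : Q d = 0) (s : F) :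
    SiegelIn (Γ.comap (orthUnits Q)) d (s • x d) := by
  intro g hg
  have hxs : ∀ v, x (x v) = -v := fun v => LinearMap.congr_fun hxx v
  have hu : Q (s • x d) = 0 := by rw [quad_smul', hiso, hd, mul_zero]
  have hform : ∀ w, (orthUnits Q g : E) w = w + (polar Q d w * s) • x d - (s * polar Q (x d) w) • d := fun w => by
    rw [orthUnits_apply, hg.2.2, hu, polar_smul_l', smul_smul]
    module
  have hskew : ∀ u v, polar Q (x u) v = -polar Q u (x v) := fun u v =>
    turn_skew (B := Q.polarBilin) (polar_turn hiso) hxx u v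
  refine (?_ : orthUnits Q g ∈ Γ)
  suffices hcomm : (orthUnits Q g : E) * x = x * (orthUnits Q g : E) ∧
      ((orthUnits Q g : E) - 1) * ((orthUnits Q g : E) - 1) = 0 by
    obtain ⟨v, hv, hve⟩ := hbig (orthUnits Q g : E) (fun u v => polar_isom g u v) hcomm.1 hcomm.2
    rwa [Units.ext hve] at hv
  constructor
  · refine LinearMap.ext fun w => ?_
    simp only [Module.End.mul_apply, hform, map_add, map_sub, map_smul, hxs, smul_neg]
    rw [show polar Q d (x w) = -polar Q (x d) w by rw [hskew, neg_neg], show polar Q (x d) (x w) = polar Q d w from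
      polar_turn hiso d w]
    module
  · refine LinearMap.ext fun w => ?_
    have e1 : ∀ w, ((orthUnits Q g : E) - 1) w = (polar Q d w * s) • x d - (s * polar Q (x d) w) • d := fun w => by
      rw [LinearMap.sub_apply, hform, Module.End.one_apply]; abel
    rw [Module.End.mul_apply, e1, e1 w, LinearMap.zero_apply]
    simp only [polar_add_right, polar_sub_right, polar_smul_r', polar_self', hd, hiso,
      polar_self_turn h2 hiso hxx d, polar_comm _ (x d) d, mul_zero, zero_mul, sub_zero, zero_smul]

variable {R : Set (Module.End F V)}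

/-- Some member squaring to `-1` moves a vector out of a given small subspace. -/
theorem exists_turn_out [Nontrivial V] (h : RPauli R) (hnd : Q.polarBilin.Nondegenerate) (hiso : ∀ r ∈ R, ∀ v, Q (r v) = Q v)
    {L : Submodule F V} (hL : finrank F L + 2 ≤ finrank F V) {u : V} (hu : u ≠ 0) (hQu : Q u = 0) :
    ∃ w ∈ R, w * w = -1 ∧ w u ∉ L := by
  classical
  by_contra hcon
  push Not at hcon
  have hB : ∀ r ∈ R, ∀ v v', Q.polarBilin (r v) (r v') = Q.polarBilin v v' := fun r hr => polar_turn (hiso r hr)
  -- skew and self-adjoint maps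
  let sk : F → Submodule F E := fun ε =>
    { carrier := {f | ∀ v v', polar Q (f v) v' = ε * polar Q v (f v')}
      add_mem' := fun {f g} hf hg v v' => by
        rw [LinearMap.add_apply, LinearMap.add_apply, polar_add_left, polar_add_right, hf, hg, mul_add]
      zero_mem' := fun v v' => by simp
      smul_mem' := fun c f hf v v' => by
        rw [LinearMap.smul_apply, LinearMap.smul_apply, polar_smul_l', polar_smul_r', hf]; ring }
  let T : F → Submodule F E := fun ε => Submodule.span F {r | r ∈ R ∧ r * r = ε • 1}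
  have hsub : ∀ ε : F, ε * ε = 1 → T ε ≤ sk ε := fun ε hε =>
    Submodule.span_le.2 fun r hr v v' => member_adjoint (hB r hr.1) hr.2 hε v v'
  have hsum : ∀ f : E, ∃ g₁ ∈ T 1, ∃ g₂ ∈ T (-1), g₁ + g₂ = f := by
    intro f
    refine Submodule.mem_sup.1 ?_
    have hle : Submodule.span F R ≤ T 1 ⊔ T (-1) := Submodule.span_le.2 fun r hr => by
      rcases h.sq r hr with e | e
      · exact Submodule.mem_sup_left (Submodule.subset_span ⟨hr, by rw [e, one_smul]⟩)
      · exact Submodule.mem_sup_right (Submodule.subset_span ⟨hr, by rw [e, neg_smul, one_smul]⟩)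
    exact hle (h.full.symm ▸ Submodule.mem_top)
  have hskew : ∀ f : E, f ∈ sk (-1) → f u ∈ L := by
    intro f hf
    obtain ⟨g₁, hg₁, g₂, hg₂, rfl⟩ := hsum f
    have h0 : g₁ = 0 := by
      refine LinearMap.ext fun v' => hnd.2 _ fun v => ?_
      have e1 := hsub 1 (one_mul 1) hg₁ v v'
      have e2 := (sk (-1)).sub_mem hf (hsub (-1) (by ring) hg₂) v v'
      rw [add_sub_cancel_right, e1, one_mul, neg_one_mul] at e2
      rw [QuadraticMap.polarBilin_apply_apply]
      exact h.eq_zero_of_eq_neg e2
    rw [h0, zero_add]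
    have hle : T (-1) ≤ L.comap (LinearMap.applyₗ u) := Submodule.span_le.2 fun r hr =>
      hcon r hr.1 (by rw [hr.2, neg_smul, one_smul])
    exact hle hg₂
  obtain ⟨e, he⟩ : ∃ e, polar Q u e = 1 := by
    obtain ⟨e, he⟩ : ∃ e, polar Q u e ≠ 0 := by
      by_contra hall
      push Not at hall
      exact hu (hnd.1 u hall)
    exact ⟨(polar Q u e)⁻¹ • e, by rw [polar_smul_r', inv_mul_cancel₀ he]⟩
  have hle : LinearMap.ker (Q.polarBilin u) ≤ L := by
    intro y hy
    rw [LinearMap.mem_ker, QuadraticMap.polarBilin_apply_apply] at hy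
    let f : E := (Q.polarBilin e).smulRight y - (Q.polarBilin y).smulRight e
    have hf : f ∈ sk (-1) := fun v v' => by
      simp only [f, LinearMap.sub_apply, LinearMap.smulRight_apply, QuadraticMap.polarBilin_apply_apply,
        polar_sub_left, polar_sub_right, polar_smul_l', polar_smul_r']
      rw [polar_comm _ y v, polar_comm _ e v]
      ring
    have := hskew f hf
    simp only [f, LinearMap.sub_apply, LinearMap.smulRight_apply, QuadraticMap.polarBilin_apply_apply] at this
    rw [polar_comm _ e u, he, one_smul, polar_comm _ y u, hy, zero_smul, sub_zero] at this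
    exact this
  have h1 := LinearMap.finrank_range_add_finrank_ker (Q.polarBilin u)
  have h3 := (LinearMap.range (Q.polarBilin u)).finrank_le
  rw [Module.finrank_self] at h3
  have := Submodule.finrank_mono hle
  omega

/-- All of `Ω`, from the big case. -/
theorem orth_big [Fintype F] (h : RPauli R) [Nontrivial V] (hnd : Q.polarBilin.Nondegenerate)
    (hiso : ∀ r ∈ R, ∀ v, Q (r v) = Q v) (hdim : 10 ≤ finrank F V) {Γ : Subgroup Eˣ}
    (hbig : ∀ x ∈ R, x * x = -1 → BigAt Q.polarBilin Γ x) :
    commutator (orthGroup Q) ≤ Γ.comap (orthUnits Q) := by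
  classical
  have h2 := h.two_ne
  set M := Γ.comap (orthUnits Q) with hM
  -- two anticommuting turns
  obtain ⟨x, hx, hxx⟩ : ∃ x ∈ R, x * x = -1 := by
    obtain ⟨y, hy, hys⟩ : ∃ y ∈ R, ¬ IsScalarMap y := by
      by_contra hcon
      push Not at hcon
      have hle : Submodule.span F R ≤ Submodule.span F {(1 : E)} := Submodule.span_le.2 fun r hr => by
        obtain ⟨c, rfl⟩ := hcon r hr
        exact Submodule.smul_mem _ c (Submodule.subset_span rfl)
      rw [h.full] at hle
      have h3 := (Submodule.finrank_mono hle).trans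
        ((finrank_span_le_card ({(1 : E)} : Set E)).trans (by simp : _ ≤ 1))
      rw [finrank_top, Module.finrank_linearMap] at h3
      nlinarith
    obtain ⟨u, hu, huy⟩ := h.exists_anti hy hys
    obtain ⟨x, hx, hxx, -⟩ := h.exists_neg_of_pair hy hu huy
    exact ⟨x, hx, hxx⟩
  obtain ⟨z, hz, hzz, hzx⟩ := h.exists_neg_anti (by omega) hx hxx
  -- a sum of two squares that is minus a non-square
  obtain ⟨δ, hδ⟩ := FiniteField.exists_nonsquare (F := F) (fun e => h2 (by
    haveI := ringChar.of_eq e
    exact CharP.cast_eq_zero F 2))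
  obtain ⟨a, b, hab⟩ : ∃ a b : F, a * a + b * b = -δ := by
    obtain ⟨p, hp⟩ := CharP.exists F
    haveI : Fact p.Prime := ⟨(CharP.char_is_prime_or_zero F p).resolve_right
      (CharP.char_ne_zero_of_finite F p)⟩
    obtain ⟨a, b, hab⟩ := FiniteField.exists_root_sum_quadratic (f := (Polynomial.X ^ 2 : Polynomial F))
      (g := Polynomial.X ^ 2 - Polynomial.C (-δ)) (Polynomial.degree_X_pow 2)
      (Polynomial.degree_X_pow_sub_C (by decide) _) (FiniteField.odd_card_of_char_ne_two
        fun e => h2 (by haveI := ringChar.of_eq e; exact CharP.cast_eq_zero F 2))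
    refine ⟨a, b, ?_⟩
    simp only [Polynomial.eval_pow, Polynomial.eval_X, Polynomial.eval_sub, Polynomial.eval_C] at hab
    linear_combination hab
  set J : E := a • x + b • z with hJdef
  have hJ : ∀ v, J v = a • x v + b • z v := fun v => rfl
  have hxs : ∀ v, x (x v) = -v := fun v => LinearMap.congr_fun hxx v
  have hzs : ∀ v, z (z v) = -v := fun v => LinearMap.congr_fun hzz v
  have hzxv : ∀ v, z (x v) = -x (z v) := fun v => LinearMap.congr_fun hzx v
  have hpol : ∀ v, polar Q v (J v) = 0 * Q v := fun v => by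
    rw [hJ, polar_add_right, polar_smul_r', polar_smul_r', polar_self_turn h2 (hiso x hx) hxx,
      polar_self_turn h2 (hiso z hz) hzz]
    ring
  have hxz : ∀ v, polar Q (x v) (z v) = 0 := fun v => by
    have e1 := turn_skew (B := Q.polarBilin) (polar_turn (hiso x hx)) hxx v (z v)
    have e2 := turn_skew (B := Q.polarBilin) (polar_turn (hiso z hz)) hzz v (x v)
    simp only [QuadraticMap.polarBilin_apply_apply] at e1 e2
    rw [hzxv, polar_neg_right, neg_neg, polar_comm _ (z v)] at e2
    exact h.eq_zero_of_eq_neg (e1.trans (by rw [e2]))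
  have hD : UnitarySubOrth.Data Q J 0 (-δ) := by
    refine ⟨hnd, fun v => ?_, hpol, fun v => ?_, fun r hr => hδ ⟨r, by linear_combination -hr⟩, .inl h2, hdim⟩
    · rw [hJ, quad_add', quad_smul', quad_smul', polar_smul_l', polar_smul_r', hxz, hiso x hx, hiso z hz, ← hab]
      ring
    · simp only [hJ, map_add, map_smul, hxs, hzs, hzxv, smul_add, smul_neg]
      rw [← hab]
      module
  have hT : ∀ v, Q v = 0 → ∀ r : F, SiegelIn M v (r • J v) := fun v hv r => by
    rw [hJ, smul_add, smul_smul, smul_smul]
    refine SiegelIn.add hnd hv ?_ ?_ (siegelIn_turn h2 (hiso x hx) hxx (hbig x hx hxx) hv _)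
      (siegelIn_turn h2 (hiso z hz) hzz (hbig z hz hzz) hv _)
    · rw [polar_smul_r', polar_self_turn h2 (hiso x hx) hxx, mul_zero]
    · rw [polar_smul_r', polar_self_turn h2 (hiso z hz) hzz, mul_zero]
  have hn : 5 ≤ finrank F V := by omega
  have h4 : Good F V := good_of (.inr (by omega))
  obtain ⟨hp⟩ := exists_hypPairs hnd hn
  rw [commutator_eq_siegelGroup hnd h4 hp hn]
  obtain ⟨w, hw, hww, hwL⟩ := exists_turn_out h hnd hiso (L := UnitarySubOrth.L J hp.e₀) (by
    have := UnitarySubOrth.finrank_L (J := J) hp.e₀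
    omega) hp.e₀_ne_zero hp.he₀
  have hrel : UnitarySubOrth.Rel M J hp.e₀ := UnitarySubOrth.rel_of_seed hD hT hp.he₀ (u := w hp.e₀)
    (polar_self_turn h2 (hiso w hw) hww _) hp.e₀_ne_zero hwL
    fun r => siegelIn_turn h2 (hiso w hw) hww (hbig w hw hww) hp.he₀ r
  have hall : ∀ v, Q v = 0 → v ≠ 0 → UnitarySubOrth.Rel M J v := fun v hv hv0 =>
    UnitarySubOrth.rel_all hD hT hp.he₀ hp.e₀_ne_zero hrel hv hv0
  refine siegelGroup_le_of_ax fun d hd => ?_
  by_cases hd0 : d = 0
  · rw [hd0]; exact AxIn.zero M
  intro u k hk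
  exact siegelIn_of_singular hnd hp hd hd0 (fun u hu hu' => UnitarySubOrth.siegelIn_all hD hT hall hd hd0 hu' hu)
    hk.2.1 k hk

end CfsgLib.Classical.PauliForm.Real
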