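import Cfsg.Agent.Lib.Classical.PauliForm.Real.Turn
import Mathlib.FieldTheory.ChevalleyWarning

/-!
# The symplectic big case: all transvections

If the group contains the unipotent isometries of index two centralising one turn, it contains all
transvections.  A common zero of three quadratic forms attached to an anticommuting pair of turns
gives one transvection group; the centres of these groups span the space, and a maximal
non-degenerate subspace consisting of centres is everything.
-/

set_option autoImplicit false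
set_option linter.unusedSectionVars false
set_option linter.style.haveILetI false
set_option linter.unusedSimpArgs false

namespace CfsgLib.Classical.PauliForm.Real

open Module CfsgLib.Classical.PauliMax CfsgLib.Classical.PauliForm

section maps

variable {F : Type*} [Field F] {V : Type*} [AddCommGroup V] [Module F V]
  {B : V →ₗ[F] V →ₗ[F] F}

local notation "E" => Module.End F V

/-- The symplectic transvection with centre `v`. -/
def sv (B : V →ₗ[F] V →ₗ[F] F) (v : V) (c : F) : Module.End F V := 1 + c • (B v).smulRight v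

theorem sv_apply (v : V) (c : F) (u : V) : sv B v c u = u + (c * B v u) • v := by
  simp [sv, smul_smul]

theorem sv_zero (c : F) : sv B (0 : V) c = 1 := LinearMap.ext fun u => by simp [sv_apply]

theorem sv_smul (a : F) (v : V) (c : F) : sv B (a • v) c = sv B v (a * a * c) :=
  LinearMap.ext fun u => by
    rw [sv_apply, sv_apply, map_smul, LinearMap.smul_apply, smul_eq_mul, smul_smul]
    congr 2
    ring

theorem sv_isometry (hA : B.IsAlt) (v : V) (c : F) (u u' : V) :
    B (sv B v c u) (sv B v c u') = B u u' := by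
  simp only [sv_apply, map_add, map_smul, LinearMap.add_apply, LinearMap.smul_apply, smul_eq_mul, hA v]
  rw [← hA.neg v u]
  ring

theorem sv_mul_sv {v w : V} (h : B v w = 0) (c d : F) :
    sv B v c * sv B w d = 1 + (c • (B v).smulRight v + d • (B w).smulRight w) := by
  refine LinearMap.ext fun u => ?_
  simp only [Module.End.mul_apply, sv_apply, map_add, map_smul, h, smul_eq_mul, mul_zero, zero_smul, add_zero,
    LinearMap.add_apply, Module.End.one_apply, LinearMap.smul_apply, LinearMap.smulRight_apply, smul_smul]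
  module

/-- A similitude moves a transvection to one with the moved centre. -/
theorem sv_conj {g g' : E} (h1 : g * g' = 1) {μ : F} (hs : ∀ u u', B (g u) (g u') = μ * B u u')
    (v : V) (c : F) : g * sv B v (μ * c) * g' = sv B (g v) c := by
  refine LinearMap.ext fun u => ?_
  have e : g (g' u) = u := by rw [← Module.End.mul_apply, h1, Module.End.one_apply]
  rw [Module.End.mul_apply, Module.End.mul_apply, sv_apply, map_add, map_smul, e, sv_apply]
  conv_rhs => enter [2, 1, 2, 2]; rw [← e]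
  rw [hs, ← mul_assoc, mul_comm c μ]

theorem b_sym (hA : B.IsAlt) {x : E} (hxi : ∀ u v, B (x u) (x v) = B u v) (hxx : x * x = -1) (u v : V) :
    B (x u) v = - B u (x v) := by
  have h := hxi u (x v)
  rw [show x (x v) = -v from LinearMap.congr_fun hxx v, map_neg] at h
  rw [← h, neg_neg]

end maps

variable {F : Type*} [Field F] {V : Type*} [AddCommGroup V] [Module F V] [FiniteDimensional F V]

local notation "E" => Module.End F V

/-- Quadratic forms in more than twice as many variables have a common zero. -/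
theorem exists_common_zero [Finite F] {p : ℕ} [Fact p.Prime] [CharP F p] {m : ℕ} (hdim : 2 * m < finrank F V)
    (Q : Fin m → V →ₗ[F] V →ₗ[F] F) : ∃ v : V, v ≠ 0 ∧ ∀ k, Q k v v = 0 := by
  classical
  haveI := Fintype.ofFinite F
  let b := Module.finBasis F V
  let σ := Fin (finrank F V)
  let P : Fin m → MvPolynomial σ F := fun k => ∑ i : σ, ∑ j : σ,
    MvPolynomial.C (Q k (b i) (b j)) * (MvPolynomial.X i * MvPolynomial.X j)
  have hdeg : ∀ k, (P k).totalDegree ≤ 2 := fun k => by
    refine (MvPolynomial.totalDegree_finsetSum _ _).trans (Finset.sup_le fun i _ => ?_)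
    refine (MvPolynomial.totalDegree_finsetSum _ _).trans (Finset.sup_le fun j _ => ?_)
    refine (MvPolynomial.totalDegree_mul _ _).trans ?_
    rw [MvPolynomial.totalDegree_C, zero_add]
    refine (MvPolynomial.totalDegree_mul _ _).trans ?_
    rw [MvPolynomial.totalDegree_X, MvPolynomial.totalDegree_X]
  have heval : ∀ k (x : σ → F),
      MvPolynomial.eval x (P k) = Q k (∑ i, x i • b i) (∑ i, x i • b i) := by
    intro k x
    simp only [P, map_sum, map_mul, MvPolynomial.eval_C, MvPolynomial.eval_X]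
    simp only [map_smul, LinearMap.coe_sum, Finset.sum_apply, LinearMap.smul_apply, smul_eq_mul,
      Finset.mul_sum]
    refine Finset.sum_comm.trans (Finset.sum_congr rfl fun i _ => Finset.sum_congr rfl fun j _ => by ring)
  have hsum : ∑ k, (P k).totalDegree < Fintype.card σ := by
    rw [Fintype.card_fin]
    exact lt_of_le_of_lt (Finset.sum_le_sum fun k _ => hdeg k) (by simpa [mul_comm] using hdim)
  have hcw := char_dvd_card_solutions_of_fintype_sum_lt p hsum
  by_contra hno
  push Not at hno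
  have hone : Fintype.card { x : σ → F // ∀ k, MvPolynomial.eval x (P k) = 0 } = 1 := by
    refine Fintype.card_eq_one_iff.2 ⟨⟨0, fun k => by rw [heval]; simp⟩, fun x => Subtype.ext ?_⟩
    by_contra hx
    obtain ⟨k, hk⟩ := hno (∑ i, x.1 i • b i) fun e => hx (funext fun i =>
      Fintype.linearIndependent_iff.1 b.linearIndependent x.1 e i)
    exact hk (heval k x.1 ▸ x.2 k)
  replace hone : _ = 1 := hone
  have hcw' : p ∣ 1 := by
    convert hcw using 1
    convert hone.symm
  exact (Fact.out : p.Prime).ne_one (Nat.dvd_one.1 hcw')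

section span

variable {B : V →ₗ[F] V →ₗ[F] F}

/-- Non-degenerate on a subspace. -/
def NDOn (B : V →ₗ[F] V →ₗ[F] F) (U : Submodule F V) : Prop :=
  ∀ u ∈ U, (∀ u' ∈ U, B u u' = 0) → u = 0

/-- The orthogonal projection to a non-degenerate subspace. -/
theorem exists_proj {U : Submodule F V} (hU : NDOn B U) (a : V) :
    ∃ u₀ ∈ U, ∀ u ∈ U, B (a - u₀) u = 0 := by
  let φ : ↥U →ₗ[F] ↥U →ₗ[F] F := B.compl₁₂ U.subtype U.subtype
  have hinj : Function.Injective φ := by
    refine (injective_iff_map_eq_zero φ).2 fun u hu => Subtype.ext (hU u u.2 fun u' hu' => ?_)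
    exact LinearMap.congr_fun hu ⟨u', hu'⟩
  obtain ⟨u₀, hu₀⟩ := (LinearMap.injective_iff_surjective_of_finrank_eq_finrank
    (Subspace.dual_finrank_eq (K := F) (V := ↥U)).symm).1 hinj ((B a).comp U.subtype)
  refine ⟨u₀, u₀.2, fun u hu => ?_⟩
  have := LinearMap.congr_fun hu₀ ⟨u, hu⟩
  rw [map_sub, LinearMap.sub_apply, sub_eq_zero]
  exact this.symm

/-- Two linear forms that are non-zero are non-zero together somewhere. -/
theorem exists_both {W : Type*} [AddCommGroup W] [Module F W] (f g : W →ₗ[F] F) (hf : f ≠ 0) (hg : g ≠ 0) :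
    ∃ w, f w ≠ 0 ∧ g w ≠ 0 := by
  obtain ⟨a, ha⟩ : ∃ a, f a ≠ 0 := by
    by_contra hn; push Not at hn; exact hf (LinearMap.ext hn)
  obtain ⟨b, hb⟩ : ∃ b, g b ≠ 0 := by
    by_contra hn; push Not at hn; exact hg (LinearMap.ext hn)
  by_cases hga : g a = 0
  · by_cases hfb : f b = 0
    · exact ⟨a + b, by rwa [map_add, hfb, add_zero], by rwa [map_add, hga, zero_add]⟩
    · exact ⟨b, hfb, hb⟩
  · exact ⟨a, ha, hga⟩

end span

section group

variable {p : ℕ} {R : Set (Module.End F V)} {Γ : Subgroup (Module.End F V)ˣ}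
  {B : V →ₗ[F] V →ₗ[F] F}

/-- The transvection group of `v` is in the group. -/
def Axis (B : V →ₗ[F] V →ₗ[F] F) (Γ : Subgroup (Module.End F V)ˣ) (v : V) : Prop :=
  ∀ c : F, InG Γ (sv B v c)

theorem Axis.smul {v : V} (hv : Axis B Γ v) (a : F) : Axis B Γ (a • v) := fun c => by
  rw [sv_smul]; exact hv _

theorem axis_zero : Axis B Γ (0 : V) := fun c => by
  rw [sv_zero]; exact ⟨1, Γ.one_mem, rfl⟩

theorem Axis.map {v : V} (hv : Axis B Γ v) {g : E} (hg : InG Γ g) {μ : F}
    (hs : ∀ u u', B (g u) (g u') = μ * B u u') : Axis B Γ (g v) := fun c => by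
  obtain ⟨g', -, h1, -⟩ := InG.exists_inv hg
  rw [← sv_conj h1 hs v c]
  exact InG.conj hg (hv _) h1

/-- Two non-orthogonal centres span centres only. -/
theorem Axis.span {u v : V} (hA : B.IsAlt) (hu : Axis B Γ u) (hv : Axis B Γ v) (hne : B u v ≠ 0) (a b : F) :
    Axis B Γ (a • u + b • v) := by
  by_cases hb : b = 0
  · rw [hb, zero_smul, add_zero]; exact hu.smul a
  have h := hv.map (hu (a / (b * B u v))) (μ := 1) fun x y => by rw [sv_isometry hA, one_mul]
  rw [sv_apply] at h
  have := h.smul b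
  rwa [smul_add, smul_smul, show b * (a / (b * B u v) * B u v) = a by field_simp, add_comm] at this

theorem Axis.add {u v : V} (hA : B.IsAlt) (hu : Axis B Γ u) (hv : Axis B Γ v) (hne : B u v ≠ 0) :
    Axis B Γ (u + v) := by
  simpa using hu.span hA hv hne 1 1

/-- A non-degenerate subspace of centres and one centre outside it and its orthogonal give a larger one. -/
theorem grow (hA : B.IsAlt) (h2 : (2 : F) ≠ 0) {U : Submodule F V} (hU : NDOn B U)
    (hUA : ∀ u ∈ U, Axis B Γ u) {u₀ w₀ b : V} (hu₀ : u₀ ∈ U) (hne₀ : u₀ ≠ 0) (hw₀ : ∀ u ∈ U, B w₀ u = 0)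
    (ha : Axis B Γ (u₀ + w₀)) (hb : Axis B Γ b) (hwb : B w₀ b ≠ 0) :
    ∃ U' : Submodule F V, U < U' ∧ NDOn B U' ∧ ∀ u ∈ U', Axis B Γ u := by
  have hw0' : ∀ u ∈ U, B u w₀ = 0 := fun u hu => by rw [← hA.neg, hw₀ u hu, neg_zero]
  -- one line added, for any centre off `U`
  have mixed : ∀ (w : V) (v₀ : V), v₀ ∈ U → v₀ ≠ 0 → (∀ u ∈ U, B u w = 0) → Axis B Γ (v₀ + w) →
      ∀ u ∈ U, u ≠ 0 → ∀ t : F, Axis B Γ (u + t • w) := by
    intro w v₀ hv₀ hv0 hw hvw u hu hu0 t
    have easy : ∀ u ∈ U, B u v₀ ≠ 0 → ∀ t : F, Axis B Γ (u + t • w) := by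
      intro u hu hne t
      have h1 : B (u - t • v₀) (v₀ + w) ≠ 0 := by
        rw [map_add, map_sub, map_smul, LinearMap.sub_apply, LinearMap.sub_apply, LinearMap.smul_apply,
          LinearMap.smul_apply, hw u hu, hw v₀ hv₀, hA v₀]
        simpa using hne
      have := (hUA _ (U.sub_mem hu (U.smul_mem t hv₀))).span hA hvw h1 1 t
      rwa [one_smul, show u - t • v₀ + t • (v₀ + w) = u + t • w by module] at this
    by_cases hne : B u v₀ = 0
    swap
    · exact easy u hu hne t
    obtain ⟨u', hu'1, hu'2⟩ := exists_both ((B u).comp U.subtype) ((B v₀).comp U.subtype)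
      (fun e => hu0 (hU u hu fun z hz => LinearMap.congr_fun e ⟨z, hz⟩))
      (fun e => hv0 (hU v₀ hv₀ fun z hz => LinearMap.congr_fun e ⟨z, hz⟩))
    have q1 : B u (u' : V) ≠ 0 := hu'1
    have q2 : B v₀ (u' : V) ≠ 0 := hu'2
    have hz : Axis B Γ ((u - (u' : V)) + t • w) := easy _ (U.sub_mem hu u'.2) (by
      rw [map_sub, LinearMap.sub_apply, hne, zero_sub, hA.neg]; exact q2) t
    have hne' : B (u' : V) ((u - (u' : V)) + t • w) ≠ 0 := by
      rw [map_add, map_sub, map_smul, hw _ u'.2, smul_zero, add_zero, hA (u' : V), sub_zero, ← hA.neg]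
      exact neg_ne_zero.2 q1
    have := (hUA _ u'.2).add hA hz hne'
    rwa [show (u' : V) + (u - (u' : V) + t • w) = u + t • w by abel] at this
  have mixA := mixed w₀ u₀ hu₀ hne₀ hw0' ha
  -- the partner
  obtain ⟨v₀, hv₀, hproj⟩ := exists_proj hU b
  obtain ⟨w, rfl⟩ : ∃ w, b = v₀ + w := ⟨b - v₀, by abel⟩
  have hw : ∀ u ∈ U, B w u = 0 := fun u hu => by simpa using hproj u hu
  have hw' : ∀ u ∈ U, B u w = 0 := fun u hu => by rw [← hA.neg, hw u hu, neg_zero]
  have hκ : B w₀ w ≠ 0 := by rwa [map_add, hw₀ v₀ hv₀, zero_add] at hwb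
  have hκ' : B w w₀ = -B w₀ w := (hA.neg w₀ w).symm
  have key : ∃ s ∈ U, Axis B Γ (s + w₀ + w) ∧ Axis B Γ (-s + w₀ - w) := by
    refine ⟨u₀, hu₀, ?_⟩
    by_cases hv0 : v₀ = 0
    · subst hv0
      rw [zero_add] at hb
      refine ⟨?_, ?_⟩
      · have h' := mixA u₀ hu₀ hne₀ 1
        rw [one_smul] at h'
        exact h'.add hA hb (by rw [map_add, LinearMap.add_apply, hw' u₀ hu₀, zero_add]; exact hκ)
      · have h' := mixA (-u₀) (U.neg_mem hu₀) (neg_ne_zero.2 hne₀) 1
        rw [one_smul] at h'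
        rw [sub_eq_add_neg]
        refine h'.add hA (by simpa using hb.smul (-1)) ?_
        rw [map_neg, map_add, LinearMap.add_apply, map_neg B, LinearMap.neg_apply, hw' u₀ hu₀, neg_zero, zero_add]
        exact neg_ne_zero.2 hκ
    · have mixB := mixed w v₀ hv₀ hv0 hw' hb
      have hz : ∀ t : F, t ≠ 0 → ∀ s ∈ U, s ≠ 0 → Axis B Γ (s + w₀ + t • w) := by
        intro t ht s hs hs0
        have h1 := mixA ((2 : F)⁻¹ • s) (U.smul_mem _ hs)
          (by simp [hs0, h2]) 1
        have h2' := mixB ((2 : F)⁻¹ • s) (U.smul_mem _ hs) (by simp [hs0, h2]) t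
        rw [one_smul] at h1
        have h3 := h1.add hA h2' (by
          simp only [map_add, map_smul, LinearMap.add_apply, LinearMap.smul_apply, smul_eq_mul, hA s,
            hw' s hs, hw₀ s hs, mul_zero, zero_add, add_zero]
          exact mul_ne_zero ht hκ)
        have e : (2 : F)⁻¹ • s + w₀ + ((2 : F)⁻¹ • s + t • w) = s + w₀ + t • w := by
          rw [show (2 : F)⁻¹ • s + w₀ + ((2 : F)⁻¹ • s + t • w) = ((2 : F)⁻¹ + 2⁻¹) • s + w₀ + t • w by module,
            show (2 : F)⁻¹ + 2⁻¹ = 1 by field_simp; norm_num, one_smul]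
        rwa [e] at h3
      refine ⟨by simpa using hz 1 one_ne_zero u₀ hu₀ hne₀, ?_⟩
      have := hz (-1) (neg_ne_zero.2 one_ne_zero) (-u₀) (U.neg_mem hu₀) (neg_ne_zero.2 hne₀)
      rwa [neg_smul, one_smul, ← sub_eq_add_neg] at this
  -- the plane
  obtain ⟨s, hs, k1, k2⟩ := key
  have hne : B (s + w₀ + w) (-s + w₀ - w) ≠ 0 := by
    simp only [map_add, map_sub, map_neg, LinearMap.add_apply, LinearMap.neg_apply, hA s, hA w₀, hA w,
      hw0' s hs, hw₀ s hs, hw' s hs, hw s hs, hκ']
    intro e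
    refine hκ ((mul_eq_zero.1 (show (2 : F) * B w₀ w = 0 from ?_)).resolve_left h2)
    linear_combination -e
  have hW0 : Axis B Γ w₀ := by
    have := k1.span hA k2 hne (2 : F)⁻¹ (2 : F)⁻¹
    rwa [show (2 : F)⁻¹ • (s + w₀ + w) + (2 : F)⁻¹ • (-s + w₀ - w) = ((2 : F)⁻¹ + 2⁻¹) • w₀ by module,
      show (2 : F)⁻¹ + 2⁻¹ = 1 by field_simp; norm_num, one_smul] at this
  have hW : Axis B Γ w := by
    by_cases hv0 : v₀ = 0
    · simpa [hv0] using hb
    have h1 := hW0.add hA (mixed w v₀ hv₀ hv0 hw' hb v₀ hv₀ hv0 1) (by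
      rw [one_smul, map_add, hw₀ v₀ hv₀, zero_add]; exact hκ)
    have h2' := mixed w v₀ hv₀ hv0 hw' hb (-v₀) (U.neg_mem hv₀) (neg_ne_zero.2 hv0) 1
    rw [one_smul] at h1 h2'
    have h3 := h1.span hA h2' (by
      simp only [map_add, map_neg, LinearMap.add_apply, hA v₀, hA w, hw₀ v₀ hv₀, hw v₀ hv₀, hw' v₀ hv₀]
      simpa using hκ) 1 1
    rw [one_smul, one_smul, show w₀ + (v₀ + w) + (-v₀ + w) = w₀ + (2 : F) • w by module] at h3
    have h4 := hW0.span hA h3 (by rw [map_add, hA w₀, map_smul, zero_add]; exact mul_ne_zero h2 hκ)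
      (-(2 : F)⁻¹) (2 : F)⁻¹
    rwa [smul_add, smul_smul, inv_mul_cancel₀ h2, one_smul, neg_smul, neg_add_cancel_left] at h4
  refine ⟨U ⊔ Submodule.span F {w₀, w}, lt_of_le_of_ne le_sup_left ?_, ?_, ?_⟩
  · intro e
    have hmem : w₀ ∈ U := e ▸ Submodule.mem_sup_right (Submodule.subset_span (by simp))
    exact hne₀ (by
      have : w₀ = 0 := hU w₀ hmem hw₀
      exact absurd (by rw [this, map_zero, LinearMap.zero_apply]) hκ)
  · intro y hy hyz
    obtain ⟨u, hu, z, hz, rfl⟩ := Submodule.mem_sup.1 hy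
    obtain ⟨α, β, rfl⟩ := Submodule.mem_span_pair.1 hz
    have e1 := hyz w (Submodule.mem_sup_right (Submodule.subset_span (by simp)))
    have e2 := hyz w₀ (Submodule.mem_sup_right (Submodule.subset_span (by simp)))
    simp only [map_add, map_smul, LinearMap.add_apply, LinearMap.smul_apply, smul_eq_mul, hA w, hA w₀,
      hw' u hu, hw0' u hu, hκ', mul_zero, add_zero, zero_add] at e1 e2
    have hα : α = 0 := (mul_eq_zero.1 e1).resolve_right hκ
    have hβ : β = 0 := (mul_eq_zero.1 e2).resolve_right (neg_ne_zero.2 hκ)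
    subst hα hβ
    simp only [zero_smul, add_zero] at hyz ⊢
    exact hU u hu fun u' hu' => hyz u' (Submodule.mem_sup_left hu')
  · intro y hy
    obtain ⟨u, hu, z, hz, rfl⟩ := Submodule.mem_sup.1 hy
    obtain ⟨α, β, rfl⟩ := Submodule.mem_span_pair.1 hz
    have hz' := hW0.span hA hW hκ α β
    by_cases hu0 : u = 0
    · rwa [hu0, zero_add]
    have step : ∀ γ : F, γ ≠ 0 → ∀ δ : F, Axis B Γ (u + γ • w₀ + δ • w) := fun γ hγ δ => by
      have hne' : B (u + γ • w₀) w ≠ 0 := by
        rw [map_add, map_smul, LinearMap.add_apply, LinearMap.smul_apply, hw' u hu, zero_add, smul_eq_mul]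
        exact mul_ne_zero hγ hκ
      simpa using (mixA u hu hu0 γ).span hA hW hne' 1 δ
    by_cases hβ : β = 0
    · rw [hβ, zero_smul, add_zero]; exact mixA u hu hu0 α
    by_cases hα : α = 0
    · subst hα
      rw [zero_smul, zero_add]
      have hne' : B (u + (1 : F) • w₀ + β • w) w₀ ≠ 0 := by
        simp only [map_add, map_smul, LinearMap.add_apply, LinearMap.smul_apply, smul_eq_mul, hw0' u hu, hA w₀,
          mul_zero, zero_add, add_zero, hκ']
        exact mul_ne_zero hβ (neg_ne_zero.2 hκ)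
      have := (step 1 one_ne_zero β).span hA hW0 hne' 1 (-1)
      rwa [one_smul, one_smul, neg_smul, one_smul, show u + w₀ + β • w + -w₀ = u + β • w by abel] at this
    · rw [← add_assoc]; exact step α hα β

variable [Nontrivial V]

/-- All transvections, from the big case at one turn. -/
theorem symp_big [Finite F] [Fact p.Prime] [CharP F p] (hF : Nat.card F = p) (hA : B.IsAlt)
    (hN : B.Nondegenerate) (h : RPauli R) (hiso : ∀ r ∈ R, ∀ u v, B (r u) (r v) = B u v)
    (hdim : 8 ≤ finrank F V) (hΓ : RAmbient R Γ)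
    (hsim : ∀ g : Module.End F V, InG Γ g → ∃ μ : F, μ ≠ 0 ∧ ∀ u v, B (g u) (g v) = μ * B u v)
    {x : Module.End F V} (hx : x ∈ R) (hxx : x * x = -1) (hbig : BigAt B Γ x) :
    ∀ (v : V) (c : F), InG Γ (1 + c • (B v).smulRight v) := by
  classical
  have h2 := h.two_ne
  have hall := bigAt_all h hΓ hdim hsim hx hxx hbig
  have hsq : ∀ {y : E}, y * y = -1 → ∀ v, y (y v) = -v := fun hy v => LinearMap.congr_fun hy v
  -- the unipotent maps at a turn
  have tau : ∀ y ∈ R, y * y = -1 → ∀ v, B v (y v) = 0 → ∀ c : F, InG Γ (sv B v c * sv B (y v) c) := by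
    intro y hy hyy v hv c
    have hb := b_sym hA (hiso y hy) hyy
    refine hall y hy hyy _ (fun u u' => ?_) ?_ ?_
    · rw [Module.End.mul_apply, Module.End.mul_apply, sv_isometry hA, sv_isometry hA]
    · refine LinearMap.ext fun u => ?_
      rw [sv_mul_sv hv]
      simp only [Module.End.mul_apply, LinearMap.add_apply, Module.End.one_apply, LinearMap.smul_apply,
        LinearMap.smulRight_apply, map_add, map_smul, hsq hyy, smul_smul]
      rw [show B v (y u) = -B (y v) u by rw [hb, neg_neg], show B (y v) (y u) = B v u from hiso y hy v u]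
      module
    · refine LinearMap.ext fun u => ?_
      rw [sv_mul_sv hv, add_sub_cancel_left]
      have hv' : B (y v) v = 0 := by rw [← hA.neg, hv, neg_zero]
      simp [hA v, hA (y v), hv, hv']
  -- one centre
  obtain ⟨z, hz, hzz, hzx⟩ := h.exists_neg_anti (by omega) hx hxx
  obtain ⟨v₁, hv₁, hq⟩ := exists_common_zero (p := p) (by omega) ![B.compl₂ x, B.compl₂ z, B.compl₂ (x * z)]
  have q0 : B v₁ (x v₁) = 0 := by simpa using hq 0
  have q1 : B v₁ (z v₁) = 0 := by simpa using hq 1
  have q2 : B v₁ (x (z v₁)) = 0 := by simpa using hq 2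
  have hzxv : ∀ u, z (x u) = -(x (z u)) := fun u => LinearMap.congr_fun hzx u
  have hww : x * z * (x * z) = -1 := by
    rw [← mul_assoc, mul_assoc x z x, hzx, mul_neg, neg_mul, mul_assoc, mul_assoc, hzz, ← mul_assoc, hxx,
      mul_neg_one, neg_neg]
  have hwv : (x * z) (x v₁) = z v₁ := by
    rw [Module.End.mul_apply, hzxv, map_neg, hsq hxx, neg_neg]
  have q3 : B (x v₁) (z v₁) = 0 := by rw [b_sym hA (hiso x hx) hxx, q2, neg_zero]
  have hax₁ : Axis B Γ v₁ := by
    intro c
    have hc := (((tau x hx hxx v₁ q0 (c / 2)).mul (tau z hz hzz v₁ q1 (c / 2))).mul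
      (tau (x * z) (h.mul_mem x hx z hz) hww (x v₁) (by rw [hwv]; exact q3) (-(c / 2))))
    convert hc using 1
    rw [hwv]
    refine LinearMap.ext fun u => ?_
    have q0' : B (x v₁) v₁ = 0 := by rw [← hA.neg, q0, neg_zero]
    have q1' : B (z v₁) v₁ = 0 := by rw [← hA.neg, q1, neg_zero]
    have q3' : B (z v₁) (x v₁) = 0 := by rw [← hA.neg, q3, neg_zero]
    simp only [Module.End.mul_apply, sv_apply, map_add, map_smul, LinearMap.add_apply, smul_eq_mul, hA v₁,
      hA (x v₁), hA (z v₁), q0, q1, q3, q0', q1', q3', mul_zero, add_zero, zero_smul]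
    rw [show c * B v₁ u = c / 2 * B v₁ u + c / 2 * B v₁ u by field_simp; ring, add_smul]
    module
  -- centres are carried along by the group
  have hmove : ∀ g : E, InG Γ g → ∀ v, Axis B Γ v → Axis B Γ (g v) := fun g hg v hv => by
    obtain ⟨μ, -, hs⟩ := hsim g hg
    exact hv.map hg hs
  -- they span
  have hspan : Submodule.span F {v | Axis B Γ v} = ⊤ := by
    set W := Submodule.span F {v | Axis B Γ v}
    have hR : ∀ r ∈ R, ∀ v ∈ W, r v ∈ W := fun r hr v hv => by
      have hle : W ≤ W.comap r := Submodule.span_le.2 fun y hy =>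
        Submodule.subset_span (hmove r (inG_mem h hΓ hdim hr) y hy)
      exact hle hv
    have hE : ∀ f : E, ∀ v ∈ W, f v ∈ W := by
      intro f
      have hf : f ∈ Submodule.span F R := h.full.symm ▸ Submodule.mem_top
      induction hf using Submodule.span_induction with
      | mem r hr => exact hR r hr
      | zero => exact fun v _ => W.zero_mem
      | add a b _ _ ha hb => exact fun v hv => W.add_mem (ha v hv) (hb v hv)
      | smul c a _ ha => exact fun v hv => W.smul_mem c (ha v hv)
    refine eq_top_iff.2 fun u _ => ?_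
    obtain ⟨φ, hφ⟩ := Module.Projective.exists_dual_ne_zero F hv₁
    have := hE (((φ v₁)⁻¹ • φ).smulRight u) v₁ (Submodule.subset_span hax₁)
    simpa [smul_smul, hφ] using this
  have hpartner : ∀ w : V, w ≠ 0 → ∃ b, Axis B Γ b ∧ B w b ≠ 0 := by
    intro w hw
    by_contra hno
    push Not at hno
    refine hw (hN.1 w fun y => ?_)
    have hle : Submodule.span F {v | Axis B Γ v} ≤ LinearMap.ker (B w) := Submodule.span_le.2 hno
    exact hle (hspan.symm ▸ Submodule.mem_top (x := y))
  -- a maximal non-degenerate subspace of centres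
  haveI : Finite V := Module.finite_of_finite F
  obtain ⟨b₁, hb₁, hvb⟩ := hpartner v₁ hv₁
  have hplane : NDOn B (Submodule.span F {v₁, b₁}) ∧
      ∀ u ∈ Submodule.span F {v₁, b₁}, Axis B Γ u := by
    refine ⟨fun u hu hu0 => ?_, fun u hu => ?_⟩
    · obtain ⟨α, β, rfl⟩ := Submodule.mem_span_pair.1 hu
      have e1 := hu0 b₁ (Submodule.subset_span (by simp))
      have e2 := hu0 v₁ (Submodule.subset_span (by simp))
      simp only [map_add, map_smul, LinearMap.add_apply, LinearMap.smul_apply, smul_eq_mul, hA v₁, hA b₁,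
        ← hA.neg v₁ b₁, mul_zero, add_zero, zero_add] at e1 e2
      rw [(mul_eq_zero.1 e1).resolve_right hvb, (mul_eq_zero.1 e2).resolve_right (neg_ne_zero.2 hvb)]
      simp
    · obtain ⟨α, β, rfl⟩ := Submodule.mem_span_pair.1 hu
      exact hax₁.span hA hb₁ hvb α β
  obtain ⟨U, ⟨hU, hUA, hU0⟩, hmax⟩ := Set.exists_max_image
    {U : Submodule F V | NDOn B U ∧ (∀ u ∈ U, Axis B Γ u) ∧ U ≠ ⊥} (fun U => finrank F ↥U) (Set.toFinite _)
    ⟨_, hplane.1, hplane.2, fun e => hv₁ ((Submodule.mem_bot F).1 (e ▸ Submodule.subset_span (by simp)))⟩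
  suffices htop : U = ⊤ by
    exact fun v c => hUA v (htop ▸ Submodule.mem_top) c
  by_contra hne
  -- no centre bridges `U` and its orthogonal
  have hdich : ∀ a, Axis B Γ a → a ∈ U ∨ ∀ u ∈ U, B a u = 0 := by
    intro a ha
    by_contra hc
    push Not at hc
    obtain ⟨haU, hnorth⟩ := hc
    obtain ⟨u₀, hu₀, hproj⟩ := exists_proj hU a
    have hne₀ : u₀ ≠ 0 := by
      rintro rfl
      obtain ⟨u, hu, hau⟩ := hnorth
      exact hau (by simpa using hproj u hu)
    obtain ⟨b, hb, hwb⟩ := hpartner (a - u₀) fun e => haU ((sub_eq_zero.1 e) ▸ hu₀)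
    obtain ⟨U', hlt, hU', hUA'⟩ := grow hA h2 hU hUA hu₀ hne₀ hproj (by rwa [add_sub_cancel]) hb hwb
    exact absurd (hmax U' ⟨hU', hUA', ne_bot_of_gt hlt⟩) (not_le.2 (Submodule.finrank_lt_finrank_of_lt hlt))
  -- so the unipotent maps at `x` preserve `U`
  have hδ : ∀ v, B v (x v) = 0 → ∀ a ∈ U, B v a • v + B (x v) a • x v ∈ U := by
    intro v hv a ha
    by_cases ha0 : a = 0
    · simp [ha0]
    have himg : ∀ t : F, Axis B Γ (a + t • (B v a • v + B (x v) a • x v)) := fun t => by
      have := hmove _ (tau x hx hxx v hv t) a (hUA a ha)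
      rw [sv_mul_sv hv] at this
      simpa [smul_add, smul_smul, mul_comm] using this
    rcases hdich _ (himg 1) with e1 | e1
    · have := U.sub_mem e1 ha
      simpa using this
    rcases hdich _ (himg 2) with e2 | e2
    · have := U.smul_mem (2 : F)⁻¹ (U.sub_mem e2 ha)
      rwa [add_sub_cancel_left, smul_smul, inv_mul_cancel₀ h2, one_smul] at this
    exfalso
    refine ha0 (hU a ha fun u hu => ?_)
    have := e1 u hu
    have := e2 u hu
    simp only [map_add, map_smul, LinearMap.add_apply, LinearMap.smul_apply, smul_eq_mul] at *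
    linear_combination 2 * (e1 u hu) - (e2 u hu)
  have hxb := b_sym hA (hiso x hx) hxx
  obtain ⟨u₁, hu₁, hu₁0⟩ := U.exists_mem_ne_zero_of_ne_bot hU0
  -- the orthogonal space is not zero
  obtain ⟨a₀, -, ha₀U⟩ := SetLike.exists_of_lt (lt_top_iff_ne_top.2 hne)
  obtain ⟨p₀, hp₀, hperp⟩ := exists_proj hU a₀
  have hw0 : a₀ - p₀ ≠ 0 := fun e => ha₀U ((sub_eq_zero.1 e) ▸ hp₀)
  have hsplit : ∀ r : V, r ∈ U → (∀ u ∈ U, B r u = 0) → r = 0 := fun r hr hr' => hU r hr hr'
  by_cases hxU : ∀ u ∈ U, x u ∈ U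
  · -- `U` is invariant under the turn
    have hxP : ∀ w, (∀ u ∈ U, B w u = 0) → ∀ u ∈ U, B (x w) u = 0 := fun w hw u hu => by
      rw [hxb, hw _ (hxU u hu), neg_zero]
    -- every value is taken on `U`
    obtain ⟨w₂, hw₂, hw₂0, hq₂⟩ : ∃ w₂, (∀ u ∈ U, B w₂ u = 0) ∧ w₂ ≠ 0 ∧ B w₂ (x w₂) ≠ 0 := by
      by_contra hno
      push Not at hno
      refine hw0 (hN.1 _ fun y => ?_)
      obtain ⟨py, hpy, hy⟩ := exists_proj hU (-(x y))
      have hz' : ∀ w, (∀ u ∈ U, B w u = 0) → B w (x w) = 0 := fun w hw => by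
        by_cases e : w = 0
        · simp [e]
        · exact hno w hw e
      set w' := -(x y) - py with hw'
      have e1 := hz' _ hperp
      have e2 := hz' _ hy
      have e3 := hz' (a₀ - p₀ + w') fun u hu => by
        rw [map_add, LinearMap.add_apply, hperp u hu, hy u hu, add_zero]
      have hs : B w' (x (a₀ - p₀)) = B (a₀ - p₀) (x w') := by
        rw [← hA.neg, hxb, neg_neg]
      rw [map_add, map_add, map_add, LinearMap.add_apply, LinearMap.add_apply, e1, e2, hs, zero_add,
        add_zero, ← two_mul] at e3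
      have e4 := (mul_eq_zero.1 e3).resolve_left h2
      have hy' : x w' = y - x py := by rw [hw', map_sub, map_neg, hsq hxx, neg_neg]
      rw [hy', map_sub, hperp _ (hxU _ hpy), sub_zero] at e4
      exact e4
    obtain ⟨u₂, hu₂, hq⟩ : ∃ u₂ ∈ U, B u₂ (x u₂) = -B w₂ (x w₂) := by
      -- a non-degenerate form in at least two variables
      obtain ⟨e, he, hee⟩ : ∃ e ∈ U, B e (x e) ≠ 0 := by
        by_contra hno
        push Not at hno
        refine hu₁0 (hU u₁ hu₁ fun y hy => ?_)
        have e3 := hno _ (U.add_mem hu₁ (U.neg_mem (hxU y hy)))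
        have e2 := hno _ (U.neg_mem (hxU y hy))
        rw [map_add, map_add, map_add, LinearMap.add_apply, LinearMap.add_apply, hno u₁ hu₁, e2, zero_add,
          add_zero, map_neg x, hsq hxx, neg_neg, map_neg B, LinearMap.neg_apply, hxb, neg_neg, hsq hxx] at e3
        have := e3
        rw [show B y (-(u₁ : V)) = B u₁ y by rw [map_neg, hA.neg]] at e3
        exact (mul_eq_zero.1 (show (2 : F) * B u₁ y = 0 by linear_combination e3)).resolve_left h2
      set q := B e (x e)
      -- `e` and `x e` are orthogonal for the form and of the same length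
      have o1 : B e (x (x e)) = 0 := by rw [hsq hxx, map_neg, hA e, neg_zero]
      have o2 : B (x e) (x e) = 0 := hA _
      have o3 : B (x e) (x (x e)) = q := hiso x hx e (x e)
      obtain ⟨a, b, hab⟩ : ∃ a b : F, a ^ 2 + b ^ 2 = -B w₂ (x w₂) / q := by
        obtain ⟨n, hn⟩ := natCast_surj hF (-B w₂ (x w₂) / q)
        obtain ⟨a, b, hab⟩ := CharP.sq_add_sq F p (n : ℤ)
        exact ⟨a, b, by rw [← hn]; exact_mod_cast hab⟩
      refine ⟨a • e + b • x e, U.add_mem (U.smul_mem a he) (U.smul_mem b (hxU e he)), ?_⟩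
      simp only [map_add, map_smul, LinearMap.add_apply, LinearMap.smul_apply, smul_eq_mul, o1, o2, o3]
      field_simp at hab
      linear_combination hab
    have hu₂0 : u₂ ≠ 0 := by
      rintro rfl
      exact hq₂ (by simpa using hq)
    set v := u₂ + w₂ with hv
    have hvq : B v (x v) = 0 := by
      rw [hv, map_add, map_add, map_add, LinearMap.add_apply, LinearMap.add_apply, hq, hw₂ _ (hxU u₂ hu₂),
        ← hA.neg (x w₂) u₂, hxP w₂ hw₂ u₂ hu₂]
      ring
    obtain ⟨a, ha, hva⟩ : ∃ a ∈ U, B u₂ a ≠ 0 := by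
      by_contra hno; push Not at hno; exact hu₂0 (hU u₂ hu₂ hno)
    have hmem := hδ v hvq a ha
    have hva1 : B v a = B u₂ a := by rw [hv, map_add, LinearMap.add_apply, hw₂ a ha, add_zero]
    have hva2 : B (x v) a = B (x u₂) a := by
      rw [hv, map_add, map_add, LinearMap.add_apply, hxP w₂ hw₂ a ha, add_zero]
    rw [hva1, hva2, hv] at hmem
    have hmem' : B u₂ a • w₂ + B (x u₂) a • x w₂ ∈ U := by
      have := U.sub_mem hmem (U.add_mem (U.smul_mem (B u₂ a) hu₂) (U.smul_mem (B (x u₂) a) (hxU u₂ hu₂)))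
      convert this using 1
      rw [map_add]; module
    have hzero : B u₂ a • w₂ + B (x u₂) a • x w₂ = 0 := hU _ hmem' fun u hu => by
      simp only [map_add, map_smul, LinearMap.add_apply, LinearMap.smul_apply, hw₂ u hu, hxP w₂ hw₂ u hu,
        smul_zero, add_zero]
    have h5 := congrArg (B w₂) hzero
    rw [map_add, map_smul, map_smul, map_zero, hA w₂, smul_zero, zero_add, smul_eq_mul] at h5
    have h6 := (mul_eq_zero.1 h5).resolve_right hq₂
    rw [h6, zero_smul, add_zero, smul_eq_zero] at hzero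
    exact hzero.elim hva hw₂0
  · -- the turn carries `U` into the orthogonal space
    push Not at hxU
    obtain ⟨u', hu', hxu'⟩ := hxU
    have hXU : ∀ u ∈ U, ∀ u2 ∈ U, B (x u) u2 = 0 := by
      intro u hu u2 hu2
      rcases hdich _ (hmove x (inG_mem h hΓ hdim hx) u (hUA u hu)) with e | e
      · have e'' : ∀ y ∈ U, B (x u') y = 0 :=
          (hdich _ (hmove x (inG_mem h hΓ hdim hx) u' (hUA u' hu'))).resolve_left hxu'
        rcases hdich _ (hmove x (inG_mem h hΓ hdim hx) _ (hUA _ (U.add_mem hu hu'))) with e' | e'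
        · exact absurd (by simpa using U.sub_mem e' e) hxu'
        · have := e' u2 hu2
          rwa [map_add, map_add, LinearMap.add_apply, e'' u2 hu2, add_zero] at this
      · exact e u2 hu2
    obtain ⟨a, ha, hua⟩ : ∃ a ∈ U, B u₁ a ≠ 0 := by
      by_contra hno; push Not at hno; exact hu₁0 (hU u₁ hu₁ hno)
    have hq1 : ∀ u ∈ U, B u (x u) = 0 := fun u hu => by
      rw [← hA.neg, hXU u hu u hu, neg_zero]
    by_cases hbig' : ∃ u₃ ∈ U, u₃ ∉ Submodule.span F {u₁} ∧ B u₁ u₃ = 0
    · -- two orthogonal vectors in `U`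
      obtain ⟨u₃, hu₃, hind, ho⟩ := hbig'
      set v := u₁ + x u₃ with hv
      have hxv : x v = x u₁ - u₃ := by rw [hv, map_add, hsq hxx, sub_eq_add_neg]
      have hvq : B v (x v) = 0 := by
        rw [hxv, hv, map_sub, map_add, LinearMap.add_apply, LinearMap.add_apply, hq1 u₁ hu₁,
          hiso x hx, ho, hXU u₃ hu₃ u₃ hu₃, ← hA.neg u₁ u₃, ho]
        ring
      obtain ⟨a, ha, hne1⟩ : ∃ a ∈ U, B u₁ a ≠ 0 := ⟨a, ha, hua⟩
      have hmem := hδ v hvq a ha
      have e1 : B v a = B u₁ a := by rw [hv, map_add, LinearMap.add_apply, hXU u₃ hu₃ a ha, add_zero]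
      have e2 : B (x v) a = -B u₃ a := by rw [hxv, map_sub, LinearMap.sub_apply, hXU u₁ hu₁ a ha, zero_sub]
      rw [e1, e2, hxv, hv] at hmem
      have hmem' : B u₁ a • x u₃ - B u₃ a • x u₁ ∈ U := by
        have := U.sub_mem hmem (U.add_mem (U.smul_mem (B u₁ a) hu₁) (U.smul_mem (B u₃ a) hu₃))
        convert this using 1
        module
      have hzero := hU _ hmem' fun u hu => by
        rw [map_sub, map_smul, map_smul, LinearMap.sub_apply, LinearMap.smul_apply, LinearMap.smul_apply,
          hXU u₃ hu₃ u hu, hXU u₁ hu₁ u hu, smul_zero, smul_zero, sub_zero]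
      rw [← map_smul, ← map_smul, ← map_sub] at hzero
      have h8 := congrArg x hzero
      rw [hsq hxx, map_zero, neg_eq_zero, sub_eq_zero] at h8
      refine hind (Submodule.mem_span_singleton.2 ⟨B u₃ a / B u₁ a, ?_⟩)
      rw [div_eq_inv_mul, ← smul_smul, ← h8, inv_smul_smul₀ hne1]
    · -- `U` is a plane; use an isotropic vector orthogonal to it and its image
      push Not at hbig'
      have hUle : ∀ u ∈ U, u ∈ Submodule.span F {u₁, a} := fun u hu => by
        have h9 : u - (B u₁ u / B u₁ a) • a ∈ Submodule.span F {u₁} := by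
          by_contra hn
          refine hbig' _ (U.sub_mem hu (U.smul_mem _ ha)) hn ?_
          rw [map_sub, map_smul, smul_eq_mul, div_mul_cancel₀ _ hua, sub_self]
        rw [show u = (u - (B u₁ u / B u₁ a) • a) + (B u₁ u / B u₁ a) • a by abel]
        exact Submodule.add_mem _ (Submodule.span_mono (by simp) h9)
          (Submodule.smul_mem _ _ (Submodule.subset_span (by simp)))
      -- three forms cut out a non-zero vector
      obtain ⟨w₃, hw₃0, hw₃⟩ : ∃ w₃ : V, w₃ ≠ 0 ∧ (B u₁ w₃ = 0 ∧ B a w₃ = 0 ∧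
          B u₁ (x w₃) = 0 ∧ B a (x w₃) = 0 ∧ B w₃ (x w₃) = 0) := by
        let L : V →ₗ[F] Fin 4 → F := LinearMap.pi ![B u₁, B a, (B u₁).comp x, (B a).comp x]
        let K := LinearMap.ker L
        have hK : finrank F V ≤ finrank F ↥K + 4 := by
          have h1 := LinearMap.finrank_range_add_finrank_ker L
          have h2 := Submodule.finrank_le (LinearMap.range L)
          simp at h2
          show _ ≤ finrank F ↥(LinearMap.ker L) + 4
          omega
        haveI := Fintype.ofFinite F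
        obtain ⟨w, hw, hwq⟩ : ∃ w : ↥K, w ≠ 0 ∧ B (w : V) (x w) = 0 := by
          let Q : ↥K →ₗ[F] ↥K →ₗ[F] F := (B.compl₂ x).compl₁₂ K.subtype K.subtype
          obtain ⟨w, hw, hwq⟩ := exists_common_zero (p := p) (m := 1) (V := ↥K) (by omega) fun _ => Q
          exact ⟨w, hw, by simpa [Q] using hwq 0⟩
        refine ⟨w, fun e => hw (Subtype.ext e), ?_⟩
        have hk : L (w : V) = 0 := w.2
        exact ⟨congrFun hk 0, congrFun hk 1, congrFun hk 2, congrFun hk 3, hwq⟩
      obtain ⟨c1, c2, c3, c4, c5⟩ := hw₃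
      have hperp3 : ∀ u ∈ U, B u w₃ = 0 ∧ B u (x w₃) = 0 := fun u hu => by
        obtain ⟨α, β, rfl⟩ := Submodule.mem_span_pair.1 (hUle u hu)
        simp [c1, c2, c3, c4]
      set v := u₁ + w₃ with hv
      have hvq : B v (x v) = 0 := by
        rw [hv, map_add, map_add, map_add, LinearMap.add_apply, LinearMap.add_apply, hq1 u₁ hu₁, c3, c5,
          ← hA.neg (x u₁) w₃, hxb, c3]
        ring
      have hmem := hδ v hvq a ha
      have e1 : B v a = B u₁ a := by
        rw [hv, map_add, LinearMap.add_apply, ← hA.neg a w₃, c2, neg_zero, add_zero]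
      have e2 : B (x v) a = 0 := by
        rw [hv, map_add, map_add, LinearMap.add_apply, hXU u₁ hu₁ a ha, ← hA.neg a (x w₃), c4, neg_zero, add_zero]
      rw [e1, e2, zero_smul, add_zero, hv, smul_add] at hmem
      have hmem' := U.smul_mem (B u₁ a)⁻¹ (U.sub_mem hmem (U.smul_mem (B u₁ a) hu₁))
      rw [add_sub_cancel_left, inv_smul_smul₀ hua] at hmem'
      exact hw₃0 (hU w₃ hmem' fun u hu => by rw [← hA.neg u w₃, (hperp3 u hu).1, neg_zero])

end group

end CfsgLib.Classical.PauliForm.Real
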