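import Cfsg.Agent.Lib.Classical.PauliForm.Real.Adapter
import Cfsg.Agent.Lib.Classical.PauliForm.Real.OrthBig
import Cfsg.Agent.Lib.Classical.PauliForm.Real.SympBig
import Cfsg.Agent.Lib.Classical.OrthMaxBasic

/-!
# Normalisers of extraspecial groups are maximal in orthogonal groups
-/

set_option autoImplicit false
set_option linter.unusedSectionVars false
set_option backward.isDefEq.respectTransparency false

namespace CfsgLib.Classical.PauliForm.Real

open Module QuadraticMap CfsgLib.Orth CfsgLib.Classical CfsgLib.Classical.PauliMax CfsgLib.Classical.PauliForm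

variable {F : Type*} [Field F] {V : Type*} [AddCommGroup V] [Module F V] [FiniteDimensional F V]
  {Q : QuadraticForm F V} {R : Set (Module.End F V)}

local notation "E" => Module.End F V

theorem orthUnits_injective : Function.Injective (orthUnits Q) := fun g g' e =>
  Subtype.ext (LinearEquiv.ext fun v => LinearMap.congr_fun (congrArg Units.val e) v)

/-- The sixth power of a gate is trivial: its cube is `-1`. -/
theorem gate_cube (h2 : (2 : F) ≠ 0) {x z : E} (hxx : x * x = -1) (hzz : z * z = -1) (ha : Anti z x) :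
    gate x z * gate x z * gate x z = -1 := by
  have hxs : ∀ v, x (x v) = -v := fun v => LinearMap.congr_fun hxx v
  have hzs : ∀ v, z (z v) = -v := fun v => LinearMap.congr_fun hzz v
  have hzxv : ∀ v, z (x v) = -x (z v) := fun v => LinearMap.congr_fun ha v
  refine LinearMap.ext fun v => ?_
  simp only [gate, Module.End.mul_apply, LinearMap.smul_apply, LinearMap.add_apply, Module.End.one_apply,
    LinearMap.neg_apply, map_add, map_smul, map_neg, hxs, hzs, hzxv, smul_add, smul_neg, smul_smul]
  match_scalars <;> field_simp <;> ring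

/-- An isometry squared together with the cube of an element of order six puts it in the commutator subgroup. -/
theorem mem_commutator_of_cube [Fintype F] (h2 : (2 : F) ≠ 0) (hnd : Q.polarBilin.Nondegenerate)
    {o k : orthGroup Q} (e : o * o * o = k * k) : o ∈ commutator (orthGroup Q) := by
  have h4 : Good F V := good_of_two_ne h2
  have h := (commutator (orthGroup Q)).mul_mem
    ((commutator (orthGroup Q)).mul_mem (sq_mem_commutator hnd h4 o) (sq_mem_commutator hnd h4 o))
    ((commutator (orthGroup Q)).inv_mem (sq_mem_commutator hnd h4 k))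
  rw [← e] at h
  rwa [show o * o * (o * o) * (o * o * o)⁻¹ = o by group] at h

/-- Some element of `Ω` does not normalise the system. -/
theorem exists_siegel_not_nor [Fintype F] {p : ℕ} [Fact p.Prime] [CharP F p] [Nontrivial V] (h : RPauli R)
    (hnd : Q.polarBilin.Nondegenerate) (hiso : ∀ r ∈ R, ∀ v, Q (r v) = Q v) (hdim : 8 ≤ finrank F V)
    (hn : (finrank F V : F) ≠ 0) :
    ∃ o ∈ commutator (orthGroup Q), ¬ Nor R (orthUnits Q o : E) := by
  classical
  have h2 := h.two_ne
  -- an involution of the system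
  obtain ⟨y₀, hy₀, hy₀s⟩ : ∃ y ∈ R, ¬ IsScalarMap y := by
    by_contra hcon'
    push Not at hcon'
    have hle : Submodule.span F R ≤ Submodule.span F {(1 : E)} := Submodule.span_le.2 fun r hr => by
      obtain ⟨c, rfl⟩ := hcon' r hr
      exact Submodule.smul_mem _ c (Submodule.subset_span rfl)
    rw [h.full] at hle
    have h3 := (Submodule.finrank_mono hle).trans
      ((finrank_span_le_card ({(1 : E)} : Set E)).trans (by simp : _ ≤ 1))
    rw [finrank_top, Module.finrank_linearMap] at h3
    nlinarith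
  obtain ⟨y₁, hy₁, hy₁₀⟩ := h.exists_anti hy₀ hy₀s
  obtain ⟨x, hx, hxx, -⟩ := h.exists_neg_of_pair hy₀ hy₁ hy₁₀
  obtain ⟨a, ha, haa, hax⟩ := h.exists_pos_anti (by omega) hx hxx
  have has := h.not_scalar_anti ha hx hax
  have haQ := hiso a ha
  have sing : ∀ b : E, 4 ≤ finrank F (plusSpace b) → ∃ v : V, v ≠ 0 ∧ v ∈ plusSpace b ∧ Q v = 0 := by
    intro b hb
    obtain ⟨v, hv, hv'⟩ := exists_common_zero (p := p) (V := plusSpace b) (m := 1) (by omega)
      ![Q.polarBilin.compl₁₂ (plusSpace b).subtype (plusSpace b).subtype]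
    refine ⟨v, fun e => hv (Subtype.ext e), v.2, ?_⟩
    have h5 : polar Q (v : V) (v : V) = 0 := by simpa using hv' 0
    rw [QuadraticMap.polar_self, two_smul, ← two_mul] at h5
    exact (mul_eq_zero.1 h5).resolve_left h2
  have hnaa : -a * -a = 1 := by rw [neg_mul_neg, haa]
  have hd1 := two_mul_finrank_plus h ha haa has
  have hd2 := two_mul_finrank_plus h (h.neg_mem ha) hnaa fun hs => has (by
    have := hs.smul (-1)
    rwa [neg_smul, one_smul, neg_neg] at this)
  obtain ⟨d, hd0, hdm, hd⟩ := sing a (by omega)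
  obtain ⟨u, hu0, hum, hu⟩ := sing (-a) (by omega)
  have had : a d = d := a_apply_of_mem haa h2 ⟨d, hdm⟩
  have hau : a u = -u := by
    have := a_apply_of_mem hnaa h2 ⟨u, hum⟩
    rwa [LinearMap.neg_apply, neg_eq_iff_eq_neg] at this
  have hB : ∀ v v', Q.polarBilin (a v) (a v') = Q.polarBilin v v' := polar_turn haQ
  have hdu : polar Q d u = 0 := by
    have h5 := hB d u
    rw [had, hau, map_neg, QuadraticMap.polarBilin_apply_apply] at h5
    exact h.eq_zero_of_eq_neg h5.symm
  obtain ⟨o, ho⟩ := exists_isSiegel hnd hd hdu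
  have hn5 : 5 ≤ finrank F V := by omega
  obtain ⟨hp⟩ := exists_hypPairs hnd hn5
  refine ⟨o, by rw [commutator_eq_siegelGroup hnd (good_of_two_ne h2) hp hn5]; exact ho.mem, fun hN => ?_⟩
  obtain ⟨y, hy, e⟩ := hN a ha
  obtain ⟨N, hNdef⟩ : ∃ N : E, N = (Q.polarBilin d).smulRight u - (Q.polarBilin u).smulRight d := ⟨_, rfl⟩
  have hT : (orthUnits Q o : E) = 1 + N := LinearMap.ext fun w => by
    rw [orthUnits_apply, ho.2.2, hu, hNdef]
    simp [sub_eq_add_neg, add_assoc]
  have hud : polar Q u d = 0 := by rw [polar_comm, hdu]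
  have hNN : N * N = 0 := LinearMap.ext fun w => by
    rw [hNdef]
    simp [hd, hu, hdu, hud, polar_sub_right, polar_smul_r']
  have hadj : ∀ v w, polar Q v (a w) = polar Q (a v) w := fun v w => by
    have h5 := member_adjoint hB (s := 1) (by rw [haa, one_smul]) (one_mul 1) v w
    simp only [QuadraticMap.polarBilin_apply_apply, one_mul] at h5
    exact h5.symm
  have hNa : N * a = -(a * N) := LinearMap.ext fun w => by
    rw [hNdef]
    simp only [Module.End.mul_apply, LinearMap.neg_apply, LinearMap.sub_apply, LinearMap.smulRight_apply,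
      QuadraticMap.polarBilin_apply_apply, map_sub, map_smul, hadj, had, hau, polar_neg_left]
    module
  have hy' : y = a - (2 : F) • (a * N) := by
    have h1 : y = (1 + N) * a * (1 - N) := by
      rw [← hT, e, hT, mul_assoc, mul_sub, mul_one, add_mul, one_mul, hNN, add_zero, add_sub_cancel_right, mul_one]
    rw [h1, add_mul, one_mul, hNa, add_mul, mul_sub, mul_sub, mul_one, mul_one, neg_mul, mul_assoc, hNN, mul_zero,
      two_smul]
    abel
  have htrN : LinearMap.trace F V N = 0 := by
    have h5 : LinearMap.trace F V (a * N * a) = LinearMap.trace F V N := trace_conj haa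
    rw [mul_assoc, hNa, mul_neg, ← mul_assoc, haa, one_mul, map_neg] at h5
    exact h.eq_zero_of_eq_neg h5.symm
  have hya : y = a ∨ y = -a := by
    by_contra hne
    have h5 := trace_mul_eq_zero h ha hy fun e' => hne (e'.imp Eq.symm fun e'' => by rw [e'', neg_neg])
    rw [hy', mul_sub, mul_smul_comm, ← mul_assoc, haa, one_mul, map_sub, map_smul, htrN, smul_zero, sub_zero,
      LinearMap.trace_one] at h5
    exact hn h5
  rcases hya with hya | hya <;> rw [hy'] at hya
  · have h0 : N = 0 := by
      have h5 : (2 : F) • (a * N) = 0 := by rwa [sub_eq_self] at hya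
      have h6 := congrArg (a * ·) ((smul_eq_zero.1 h5).resolve_left h2)
      simpa [← mul_assoc, haa] using h6
    obtain ⟨w, hw⟩ : ∃ w, polar Q d w ≠ 0 := by
      by_contra hall
      push Not at hall
      exact hd0 (hnd.1 d hall)
    have h7 : polar Q d w • u - polar Q u w • d = 0 := by
      have := LinearMap.congr_fun h0 w
      rwa [hNdef] at this
    have h8 := congrArg a h7
    rw [map_sub, map_smul, map_smul, map_zero, had, hau] at h8
    have h9 : ((2 : F) * polar Q d w) • u = 0 := by linear_combination (norm := module) h7 - h8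
    exact hu0 ((smul_eq_zero.1 h9).resolve_left (mul_ne_zero h2 hw))
  · have h5 := LinearMap.congr_fun hya d
    rw [hNdef] at h5
    simp [had, hd, hud, QuadraticMap.polar_self] at h5
    exact hd0 (h.eq_zero_of_eq_neg h5)

end CfsgLib.Classical.PauliForm.Real

namespace CfsgLib.Classical.PauliForm.Real

open Module QuadraticMap Matrix Cfsg Cfsg.Geo CfsgLib.Orth CfsgLib.Classical CfsgLib.Classical.PauliMax
  CfsgLib.Classical.PauliForm
open scoped MatrixGroups

variable {F : Type*} [Field F]

/-- The normaliser of an extraspecial two-group of isometries of a quadratic form is maximal in `Ω`. -/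
theorem orth_maximal [Fintype F] {n p k : ℕ} (hn : 13 ≤ n) (Qf : (Fin n → F) → F)
    (hQ : IsNondegenerateQuadraticForm Qf) (hp : p.Prime) (hpo : Odd p) (hF : Fintype.card F = p)
    {R : Subgroup (GL (Fin n) F)} (hR : IsSymplecticTypeGroup 2 R)
    (hirr : ActsAbsolutelyIrreducibly (matrixSet R)) (hRD : R ≤ Cfsg.isometryGroup F Qf)
    (hcard : Nat.card R = 2 ^ (1 + 2 * k)) (hZ : Nat.card (Subgroup.center R) = 2) :
    IsMaximalIn (omegaGL Qf) (subgroupNormalizer R ⊓ omegaGL Qf) := by
  classical
  haveI := Fact.mk hp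
  haveI : CharP F p := charP_of_card_eq_prime hF
  haveI : Nonempty (Fin n) := ⟨⟨0, by omega⟩⟩
  haveI : Nontrivial (Fin n → F) := Function.nontrivial
  have h2 : (2 : F) ≠ 0 := Ring.two_ne_zero fun e => by
    have := ringChar.eq F p
    rw [e] at this
    subst this
    exact absurd hpo (by decide)
  have h := rpauli_of_data hR hirr hZ h2
  have hcι := card_index_of_data hR hirr hZ h2 hcard
  have hk : 4 ≤ k := by
    by_contra hk
    have := Nat.pow_le_pow_right two_pos (show k ≤ 3 by omega)
    rw [Fintype.card_fin] at hcι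
    omega
  obtain ⟨l, rfl⟩ : ∃ l, k = l + 3 := ⟨k - 3, by omega⟩
  have hfr : finrank F (Fin n → F) = n := Module.finrank_fin_fun F
  have hn2 : n = 2 ^ (l + 3) := by rwa [Fintype.card_fin] at hcι
  have h16 : 16 ≤ n := by
    rw [hn2]
    exact le_trans (by norm_num) (Nat.pow_le_pow_right two_pos (show 4 ≤ l + 3 by omega))
  have hn0 : (finrank F (Fin n → F) : F) ≠ 0 := by
    rw [hfr, hn2, Nat.cast_pow]
    exact pow_ne_zero _ h2
  obtain ⟨Q, hQf, hnd⟩ := exists_quadOf hQ
  have hmem : ∀ {g : GL (Fin n) F}, g ∈ Cfsg.isometryGroup F Qf → ∀ v,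
      Q (lin (g : Matrix (Fin n) (Fin n) F) v) = Q v := fun {g} hg v => by
    rw [← hQf, ← hQf, lin, Matrix.toLinAlgEquiv'_apply]
    exact hg v v
  have hiso : ∀ r ∈ mapOf R, ∀ v, Q (r v) = Q v := by
    rintro _ ⟨_, ⟨x, hx, rfl⟩, rfl⟩
    exact hmem (hRD hx)
  have hval : ∀ o : orthGroup Q, (orthUnits Q o : Module.End F (Fin n → F)) =
      lin ((orthToGL Q hQf o : GL (Fin n) F) : Matrix (Fin n) (Fin n) F) := fun o => (toLin'_orthToGL Q hQf o).symm
  have hpre : ∀ g : GL (Fin n) F, g ∈ Cfsg.isometryGroup F Qf → ∃ o : orthGroup Q, orthToGL Q hQf o = g :=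
    fun g hg => ⟨toOrth Q hQf ⟨g, hg⟩, by simp [orthToGL]⟩
  have hisoB : ∀ g ∈ omegaGL Qf, ∀ u v, Q.polarBilin (lin (g : Matrix (Fin n) (Fin n) F) u)
      (lin (g : Matrix (Fin n) (Fin n) F) v) = Q.polarBilin u v := by
    rintro _ ⟨g, -, rfl⟩
    exact polar_turn (hmem g.2)
  refine normalizer_maximal hp hF h hcι (.inr fun u v => polar_comm _ u v) hnd.2 (.inl (by rw [hfr]; exact h16))
    hisoB (fun x hx => polar_turn (hmem (hRD hx))) ?_ ?_ ?_
  · intro x hx z hz hxx hzz hzx g hg
    have hgiso : g ∈ Cfsg.isometryGroup F Qf := fun u _ => by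
      show Qf ((g : Matrix (Fin n) (Fin n) F) *ᵥ u) = Qf u
      have h5 := gate_iso (B := Q.polarBilin) h2 (polar_turn (hiso x hx)) hxx (polar_turn (hiso z hz)) hzz u u
      rw [← hg, QuadraticMap.polarBilin_apply_apply, QuadraticMap.polarBilin_apply_apply, QuadraticMap.polar_self,
        QuadraticMap.polar_self, two_smul, two_smul, ← two_mul, ← two_mul, lin, Matrix.toLinAlgEquiv'_apply] at h5
      rw [hQf, hQf]
      exact mul_left_cancel₀ h2 h5
    obtain ⟨o, ho⟩ := hpre g hgiso
    obtain ⟨_, ⟨x', hx', rfl⟩, ex⟩ := id hx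
    obtain ⟨k, hk⟩ := hpre x' (hRD hx')
    have hoG : (orthUnits Q o : Module.End F (Fin n → F)) = gate x z := by rw [hval, ho, hg]
    have hkx : (orthUnits Q k : Module.End F (Fin n → F)) = x := by rw [hval, hk]; exact ex
    rw [omegaGL_eq Q hQf]
    refine ⟨o, mem_commutator_of_cube h2 hnd (k := k) (orthUnits_injective (Units.ext ?_)), ho⟩
    rw [map_mul, map_mul, map_mul, Units.val_mul, Units.val_mul, Units.val_mul, hoG, hkx, gate_cube h2 hxx hzz hzx,
      hxx]
  · obtain ⟨o, ho, hoN⟩ := exists_siegel_not_nor (p := p) h hnd hiso (by omega) hn0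
    refine ⟨orthToGL Q hQf o, by rw [omegaGL_eq Q hQf]; exact ⟨o, ho, rfl⟩, ?_⟩
    rwa [← hval]
  · intro Γ _ _ hbig g hg
    rw [omegaGL_eq Q hQf] at hg
    obtain ⟨o, ho, rfl⟩ := hg
    exact ⟨orthUnits Q o, orth_big h hnd hiso (by omega) hbig ho, hval o⟩

end CfsgLib.Classical.PauliForm.Real
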