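import Cfsg.Agent.Lib.Classical.PauliForm.Real.Adapter
import Cfsg.Agent.Lib.Classical.PauliForm.Real.Minus
import Cfsg.Agent.Lib.Classical.PauliForm.Real.SympBig
import Cfsg.Agent.Lib.Classical.SympMatrix

/-!
# Normalisers of extraspecial groups of minus type are maximal in symplectic groups
-/

set_option autoImplicit false
set_option linter.unusedSectionVars false

namespace CfsgLib.Classical.PauliForm.Real

open Module Matrix Cfsg Cfsg.Geo CfsgLib.Classical CfsgLib.Classical.PauliMax CfsgLib.Classical.PauliForm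
open scoped MatrixGroups

variable {F : Type*} [Field F] {V : Type*} [AddCommGroup V] [Module F V] [FiniteDimensional F V]
  {B : V →ₗ[F] V →ₗ[F] F} {R : Set (Module.End F V)}

local notation "E" => Module.End F V

/-- Some transvection does not normalise the system. -/
theorem exists_sv_not_nor [Nontrivial V] (h : RPauli R) (hA : B.IsAlt) (hN : B.SeparatingRight)
    (hiso : ∀ r ∈ R, ∀ u v, B (r u) (r v) = B u v) (hdim : 8 ≤ finrank F V) (hn : (finrank F V : F) ≠ 0) :
    ∃ v : V, ¬ Nor R (sv B v 1) := by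
  classical
  by_contra hcon
  push Not at hcon
  -- an involution of the system and a vector moved by it
  obtain ⟨y₀, hy₀, hy₀s⟩ : ∃ y ∈ R, ¬ IsScalarMap y := by
    by_contra hcon'
    push Not at hcon'
    have hle : Submodule.span F R ≤ Submodule.span F {(1 : E)} := Submodule.span_le.2 fun r hr => by
      obtain ⟨c, rfl⟩ := hcon' r hr
      exact Submodule.smul_mem _ c (Submodule.subset_span rfl)
    rw [h.full] at hle
    have h3 := (Submodule.finrank_mono hle).trans
      ((finrank_span_le_card ({(1 : E)} : Set E)).trans (by simp : _ ≤ 1))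
    rw [finrank_top, Module.finrank_linearMap] at h3
    nlinarith
  obtain ⟨y₁, hy₁, hy₁₀⟩ := h.exists_anti hy₀ hy₀s
  obtain ⟨x, hx, hxx, -⟩ := h.exists_neg_of_pair hy₀ hy₁ hy₁₀
  obtain ⟨a, ha, haa, hax⟩ := h.exists_pos_anti (by omega) hx hxx
  have has := h.not_scalar_anti ha hx hax
  obtain ⟨v, hv⟩ : ∃ v : V, ∀ c : F, a v ≠ c • v := by
    by_contra hcon'
    push Not at hcon'
    refine has ?_
    have h1 : ∀ v : V, v ≠ 0 → a v = v ∨ a v = -v := by
      intro v hv0
      obtain ⟨c, hc⟩ := hcon' v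
      have h2 : a (a v) = v := LinearMap.congr_fun haa v
      rw [hc, map_smul, hc, smul_smul] at h2
      have h3 : (c * c - 1) • v = 0 := by rw [sub_smul, h2, one_smul, sub_self]
      rcases mul_self_eq_one_iff.1 (sub_eq_zero.1 ((smul_eq_zero.1 h3).resolve_right hv0)) with rfl | rfl
      · exact .inl (by rw [hc, one_smul])
      · exact .inr (by rw [hc, neg_one_smul])
    by_cases hp : ∃ u : V, u ≠ 0 ∧ a u = u
    · obtain ⟨u, hu0, hu⟩ := hp
      refine ⟨1, LinearMap.ext fun w => ?_⟩
      rw [one_smul, Module.End.one_apply]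
      by_contra hw
      have hw0 : w ≠ 0 := fun e => hw (by rw [e, map_zero])
      have hwn := (h1 w hw0).resolve_left hw
      by_cases hs : u + w = 0
      · rw [eq_neg_of_add_eq_zero_right hs, map_neg, hu] at hw
        exact hw rfl
      rcases h1 _ hs with e | e <;> rw [map_add, hu] at e
      · exact hw (add_left_cancel e)
      · rw [hwn, neg_add] at e
        exact hu0 (h.eq_zero_of_eq_neg (add_right_cancel e))
    · push Not at hp
      refine ⟨-1, LinearMap.ext fun w => ?_⟩
      rw [neg_one_smul, LinearMap.neg_apply, Module.End.one_apply]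
      by_cases hw0 : w = 0
      · rw [hw0, map_zero, neg_zero]
      · exact (h1 w hw0).resolve_left (hp w hw0)
  obtain ⟨y, hy, e⟩ := hcon v a ha
  -- the conjugate
  obtain ⟨N, hN'⟩ : ∃ N : E, N = (B v).smulRight v := ⟨_, rfl⟩
  have hT : sv B v 1 = 1 + N := by rw [sv, one_smul, hN']
  have hNN : N * N = 0 := LinearMap.ext fun u => by simp [hN', hA v]
  have haj : B v (a v) = 0 := by
    have h1 := member_adjoint (hiso a ha) (s := 1) (by rw [haa, one_smul]) (one_mul 1) v v
    rw [one_mul, ← hA.neg] at h1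
    exact h.eq_zero_of_eq_neg h1.symm
  have hNaN : N * a * N = 0 := LinearMap.ext fun u => by simp [hN', haj]
  have hy' : y = a + (N * a - a * N) := by
    have h1 : y = (1 + N) * a * (1 - N) := by
      rw [← hT, e, hT, mul_assoc, mul_sub, mul_one, add_mul, one_mul, hNN, add_zero, add_sub_cancel_right, mul_one]
    rw [h1, add_mul, one_mul, mul_sub, mul_one, add_mul, hNaN, add_zero]
    abel
  have htr : LinearMap.trace F V (a * y) ≠ 0 := by
    rw [hy', mul_add, haa, mul_sub, map_add, map_sub, LinearMap.trace_one, ← mul_assoc, ← mul_assoc a a N, haa,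
      one_mul]
    have : LinearMap.trace F V (a * N * a) = LinearMap.trace F V N := trace_conj haa
    rw [this, sub_self, add_zero]
    exact hn
  have hya : y = a ∨ y = -a := by
    by_contra hne
    exact htr (trace_mul_eq_zero h ha hy fun e' => hne (e'.imp Eq.symm fun e'' => by rw [e'', neg_neg]))
  have happ : ∀ u, (y - a) u = B v (a u) • v - B v u • a v := fun u => by
    rw [hy', add_sub_cancel_left]
    simp [hN']
  rcases hya with rfl | rfl
  · -- then the vector is orthogonal to everything
    have hvz : ∀ u, B u v = 0 := by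
      intro u
      have h1 := happ u
      rw [sub_self, LinearMap.zero_apply] at h1
      by_contra hne
      have hne' : B v u ≠ 0 := fun e' => hne (by rw [← hA.neg, e', neg_zero])
      refine hv ((B v u)⁻¹ * B v (y u)) ?_
      rw [← smul_smul, eq_comm.1 (sub_eq_zero.1 h1.symm).symm, inv_smul_smul₀ hne']
    exact hv 0 (by rw [hN v hvz, map_zero, smul_zero])
  · -- then the involution has small rank
    obtain ⟨u, hu, hu'⟩ : ∃ u : V, u ≠ 0 ∧ B v u = 0 ∧ B v (a u) = 0 := by
      by_contra hcon'
      push Not at hcon'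
      have hinj : Function.Injective ((B v).prod ((B v).comp a)) := by
        rw [← LinearMap.ker_eq_bot, LinearMap.ker_eq_bot']
        intro u hu
        by_contra hu0
        rw [LinearMap.prod_apply] at hu
        exact hcon' u hu0 (congrArg Prod.fst hu) (congrArg Prod.snd hu)
      have := LinearMap.finrank_le_finrank_of_injective hinj
      rw [Module.finrank_prod, Module.finrank_self] at this
      omega
    have h1 := happ u
    rw [hu'.1, hu'.2, zero_smul, zero_smul, sub_zero, LinearMap.sub_apply, LinearMap.neg_apply] at h1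
    have h3 : a u = 0 := h.eq_zero_of_eq_neg (sub_eq_zero.1 h1).symm
    have h4 := LinearMap.congr_fun haa u
    rw [Module.End.mul_apply, h3, map_zero, Module.End.one_apply] at h4
    exact hu h4.symm

end CfsgLib.Classical.PauliForm.Real

namespace CfsgLib.Classical.PauliForm.Real

open Module Matrix Cfsg Cfsg.Geo CfsgLib.Classical CfsgLib.Classical.PauliMax CfsgLib.Classical.PauliForm
open scoped MatrixGroups

variable {F : Type*} [Field F]

theorem lin_sympTransvection (m : ℕ) (v : Fin m ⊕ Fin m → F) (c : F) :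
    lin (Cfsg.sympTransvection m v c) = sv (sympBil F m) v (-c) :=
  LinearMap.ext fun x => by
    show Matrix.toLinAlgEquiv' (Cfsg.sympTransvection m v c) x = _
    rw [Matrix.toLinAlgEquiv'_apply, sympTransvection_mulVec, tv_apply, sv_apply, ← (sympBil_isAlt m).neg v x,
      neg_mul_comm]

theorem mem_spGL_iff_lin (m : ℕ) {g : GL (Fin m ⊕ Fin m) F} :
    g ∈ Cfsg.spGL m F ↔ ∀ u v, sympBil F m (lin (g : Matrix (Fin m ⊕ Fin m) (Fin m ⊕ Fin m) F) u)
      (lin (g : Matrix (Fin m ⊕ Fin m) (Fin m ⊕ Fin m) F) v) = sympBil F m u v := by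
  simp only [lin, Matrix.toLinAlgEquiv'_apply, sympBil_apply]
  exact Iff.rfl

/-- The normaliser of an extraspecial two-group of isometries of a symplectic form, of minus type in degree eight,
is maximal. -/
theorem symp_maximal [Fintype F] (m : ℕ) {p k : ℕ} (hp : p.Prime) (hpo : Odd p) (hF : Fintype.card F = p)
    (hk : 3 ≤ k) {R : Subgroup (GL (Fin m ⊕ Fin m) F)} (hR : IsSymplecticTypeGroup 2 R)
    (hirr : ActsAbsolutelyIrreducibly (matrixSet R)) (hRD : R ≤ Cfsg.spGL m F) (hcard : Nat.card R = 2 ^ (1 + 2 * k))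
    (hZ : Nat.card (Subgroup.center R) = 2) (hm : 0 < m) (hminus : k = 3 → IsOfMinusType k R) :
    IsMaximalIn (Cfsg.spGL m F) (subgroupNormalizer R ⊓ Cfsg.spGL m F) := by
  classical
  haveI := Fact.mk hp
  haveI : CharP F p := charP_of_card_eq_prime hF
  haveI : Nonempty (Fin m ⊕ Fin m) := ⟨.inl ⟨0, hm⟩⟩
  haveI : Nontrivial (Fin m ⊕ Fin m → F) := Function.nontrivial
  have h2 : (2 : F) ≠ 0 := Ring.two_ne_zero fun e => by
    have := ringChar.eq F p
    rw [e] at this
    subst this
    exact absurd hpo (by decide)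
  have h := rpauli_of_data hR hirr hZ h2
  have hcι := card_index_of_data hR hirr hZ h2 hcard
  obtain ⟨l, rfl⟩ : ∃ l, k = l + 3 := ⟨k - 3, by omega⟩
  have hfr : finrank F (Fin m ⊕ Fin m → F) = 2 ^ (l + 3) := by rw [Module.finrank_fintype_fun_eq_card, hcι]
  have hdim : 8 ≤ finrank F (Fin m ⊕ Fin m → F) := by
    rw [hfr, pow_add]
    have := Nat.one_le_two_pow (n := l)
    omega
  have hn0 : (finrank F (Fin m ⊕ Fin m → F) : F) ≠ 0 := by
    rw [hfr, Nat.cast_pow]
    exact pow_ne_zero _ h2
  have hsize : SizeCase (mapOf R) := by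
    rcases Nat.eq_zero_or_pos l with rfl | hl
    · exact sizeCase_of_minus h (hminus rfl)
    · refine .inl ?_
      rw [hfr]
      exact le_trans (by norm_num) (Nat.pow_le_pow_right two_pos (show 4 ≤ l + 3 by omega))
  have hA := sympBil_isAlt (F := F) m
  have hiso : ∀ r ∈ mapOf R, ∀ u v, sympBil F m (r u) (r v) = sympBil F m u v := by
    rintro _ ⟨_, ⟨x, hx, rfl⟩, rfl⟩
    exact (mem_spGL_iff_lin m).1 (hRD hx)
  refine normalizer_maximal hp hF h hcι (.inl hA) (sympBil_nondegenerate m).2 hsize
    (fun g hg => (mem_spGL_iff_lin m).1 hg) (fun x hx => (mem_spGL_iff_lin m).1 (hRD hx)) ?_ ?_ ?_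
  · intro x hx z hz hxx hzz _ g hg
    rw [mem_spGL_iff_lin, hg]
    exact gate_iso h2 (hiso x hx) hxx (hiso z hz) hzz
  · obtain ⟨v, hv⟩ := exists_sv_not_nor h hA (sympBil_nondegenerate m).2 hiso hdim hn0
    let A : symplecticGroup (Fin m) F := ⟨Cfsg.sympTransvection m v (-1), sympTransvection_mem m v (-1)⟩
    refine ⟨(spGLEquiv m A).1, (spGLEquiv m A).2, ?_⟩
    rw [spGLEquiv_coe, lin_sympTransvection, neg_neg]
    exact hv
  · intro Γ hΓ hsim hbig g hg
    obtain ⟨x, hx, hxx⟩ : ∃ x ∈ mapOf R, x * x = -1 := by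
      obtain ⟨y, hy, hys⟩ : ∃ y ∈ mapOf R, ¬ IsScalarMap y := by
        by_contra hcon
        push Not at hcon
        have hle : Submodule.span F (mapOf R) ≤ Submodule.span F {(1 : Module.End F (Fin m ⊕ Fin m → F))} :=
          Submodule.span_le.2 fun r hr => by
            obtain ⟨c, rfl⟩ := hcon r hr
            exact Submodule.smul_mem _ c (Submodule.subset_span rfl)
        rw [h.full] at hle
        have h3 := (Submodule.finrank_mono hle).trans
          ((finrank_span_le_card ({(1 : Module.End F (Fin m ⊕ Fin m → F))} : Set _)).trans (by simp : _ ≤ 1))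
        rw [finrank_top, Module.finrank_linearMap] at h3
        nlinarith
      obtain ⟨u, hu, huy⟩ := h.exists_anti hy hys
      obtain ⟨x, hx, hxx, -⟩ := h.exists_neg_of_pair hy hu huy
      exact ⟨x, hx, hxx⟩
    have htv := symp_big (p := p) (by rw [Nat.card_eq_fintype_card, hF]) hA (sympBil_nondegenerate m) h hiso hdim hΓ
      hsim hx hxx (hbig x hx hxx)
    let L : symplecticGroup (Fin m) F →* (Module.End F (Fin m ⊕ Fin m → F))ˣ :=
      (Units.map (Matrix.toLinAlgEquiv' (R := F) (n := Fin m ⊕ Fin m)).toAlgHom.toRingHom.toMonoidHom).comp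
        ((Cfsg.spGL m F).subtype.comp (spGLEquiv m).toMonoidHom)
    have htop : (Γ.comap L) = ⊤ := by
      rw [eq_top_iff, ← closure_sympTransvection F m, Subgroup.closure_le]
      rintro A ⟨w, c, hA'⟩
      obtain ⟨u, hu, hue⟩ := htv w (-c)
      refine (?_ : L A ∈ Γ)
      rwa [show L A = u from Units.ext (by
        show lin ((spGLEquiv m A).1 : Matrix (Fin m ⊕ Fin m) (Fin m ⊕ Fin m) F) = _
        rw [spGLEquiv_coe, hA', lin_sympTransvection, hue, sv])]
    have hm' : (spGLEquiv m).symm ⟨g, hg⟩ ∈ Γ.comap L := htop ▸ Subgroup.mem_top _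
    exact ⟨_, hm', by
      show lin ((spGLEquiv m ((spGLEquiv m).symm ⟨g, hg⟩)).1 : Matrix (Fin m ⊕ Fin m) (Fin m ⊕ Fin m) F) = _
      rw [MulEquiv.apply_symm_apply]⟩

end CfsgLib.Classical.PauliForm.Real
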